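import Cfsg.Agent.Lib.ZerosCodegree.CharBasics
import Cfsg.Agent.Lib.CharTheory.Linear
import Cfsg.Agent.Lib.CharTheory.Values

/-!
Irreducible characters on a central subgroup: they are multiples of linear characters.
-/

set_option autoImplicit false
set_option linter.style.haveILetI false

namespace CfsgLib.ZerosCodegree

open Cfsg CfsgLib.CharTheory
open scoped ComplexConjugate

universe u
variable {G : Type u} [Group G]

/-- An irreducible character restricted to a central subgroup is scalar. -/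
theorem exists_centralHom [Finite G] {χ : G → ℂ} (hχ : IsIrrCharacter G χ) {N : Subgroup G}
    (hN : N ≤ Subgroup.center G) :
    ∃ ω : N →* ℂˣ, ∀ (g : G) (n : N), χ (g * n) = (ω n : ℂ) * χ g := by
  obtain ⟨d, ρ, hρ, rfl⟩ := hχ
  haveI := hρ
  haveI : Nontrivial (Fin d → ℂ) := nontrivial_of_isIrreducible ρ
  have hs : ∀ n : N, ∃ c : ℂ, ρ (n : G) = c • LinearMap.id := fun n =>
    exists_smul_of_commute ρ (ρ (n : G)) fun g => by
      show ρ (n : G) * ρ g = ρ g * ρ (n : G)
      rw [← map_mul, ← map_mul, (Subgroup.mem_center_iff.1 (hN n.2) g)]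
  choose c hc using hs
  obtain ⟨v, hv⟩ := exists_ne (0 : Fin d → ℂ)
  have hmul : ∀ m n : N, c (m * n) = c m * c n := fun m n => by
    have h := congrArg (fun T : (Fin d → ℂ) →ₗ[ℂ] (Fin d → ℂ) => T v) (map_mul ρ (m : G) (n : G))
    rw [← Subgroup.coe_mul, hc, hc, hc] at h
    simp only [LinearMap.smul_apply, LinearMap.id_apply, Module.End.mul_apply, smul_smul] at h
    exact smul_left_injective ℂ hv h
  have hone : c 1 = 1 := by
    have h := hc 1
    rw [Subgroup.coe_one, map_one] at h
    have h' := congrArg (fun T : (Fin d → ℂ) →ₗ[ℂ] (Fin d → ℂ) => T v) h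
    simp only [LinearMap.smul_apply, LinearMap.id_apply, Module.End.one_apply] at h'
    exact smul_left_injective ℂ hv (h'.symm.trans (one_smul ℂ v).symm)
  let f : N →* ℂ := { toFun := c, map_one' := hone, map_mul' := hmul }
  refine ⟨f.toHomUnits, fun g n => ?_⟩
  show ρ.character (g * n) = c n * ρ.character g
  unfold Representation.character
  rw [map_mul, hc, show ρ g * (c n • LinearMap.id) = c n • ρ g from by ext; simp, map_smul,
    smul_eq_mul]

theorem norm_hom_eq_one {N : Type*} [Group N] [Finite N] (ω : N →* ℂˣ) (n : N) :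
    ‖(ω n : ℂ)‖ = 1 := by
  refine norm_eq_one_of_pow_eq_one' (Nat.card_pos (α := N)).ne' ?_
  rw [← Units.val_pow_eq_pow_val, ← map_pow, pow_card_eq_one', map_one, Units.val_one]

theorem conj_hom_eq_inv {N : Type*} [Group N] [Finite N] (ω : N →* ℂˣ) (n : N) :
    conj (ω n : ℂ) = ((ω n)⁻¹ : ℂˣ) := by
  rw [Units.val_inv_eq_inv_val, Complex.inv_eq_conj (norm_hom_eq_one ω n)]

/-- An irreducible character of a commutative finite group is a linear character. -/
theorem exists_hom_of_comm {N : Type*} [Group N] [Fintype N] (hc : ∀ a b : N, a * b = b * a)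
    {ψ : N → ℂ} (hψ : IsIrrCharacter N ψ) : ∃ ω : N →* ℂˣ, ∀ n, ψ n = (ω n : ℂ) := by
  obtain ⟨ω, hω⟩ := exists_centralHom hψ (N := (⊤ : Subgroup N))
    (fun a _ => Subgroup.mem_center_iff.2 fun b => hc b a)
  let ω' : N →* ℂˣ := ω.comp (Subgroup.topEquiv (G := N)).symm.toMonoidHom
  have h : ∀ n, ψ n = ψ 1 * (ω' n : ℂ) := fun n => by
    have := hω 1 ⟨n, trivial⟩
    rw [one_mul] at this
    rw [this, mul_comm]; rfl
  refine ⟨ω', fun n => ?_⟩
  obtain ⟨k, hk⟩ := exists_degree_of_isCharacter (CfsgLib.CharTheory.IsIrrCharacter.isCharacter hψ)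
  have hself := classInner_self_of_isIrr hψ
  have hk2 : (k : ℂ) * k = 1 := by
    rw [← hself, classInner, Finset.sum_congr rfl fun n _ => show ψ n * conj (ψ n) = (k : ℂ) * k by
      rw [h n, hk, map_mul, Complex.conj_natCast, conj_hom_eq_inv]
      calc (k : ℂ) * (ω' n : ℂ) * ((k : ℂ) * ((ω' n)⁻¹ : ℂˣ))
          = (k : ℂ) * k * ((ω' n : ℂ) * ((ω' n)⁻¹ : ℂˣ)) := by ring
        _ = (k : ℂ) * k := by rw [Units.mul_inv, mul_one]]
    rw [Finset.sum_const, Finset.card_univ, nsmul_eq_mul, ← Nat.card_eq_fintype_card, ← mul_assoc,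
      inv_mul_cancel₀ (Nat.cast_ne_zero.2 (Nat.card_pos (α := N)).ne'), one_mul]
  have : k = 1 := Nat.eq_one_of_mul_eq_one_right (m := k) (by exact_mod_cast hk2)
  rw [h n, hk, this, Nat.cast_one, one_mul]

/-- The inner product of two linear characters. -/
theorem classInner_hom {N : Type*} [Group N] [Fintype N] (ω ψ : N →* ℂˣ) [Decidable (ω = ψ)] :
    classInner (fun n => (ω n : ℂ)) (fun n => (ψ n : ℂ)) = if ω = ψ then 1 else 0 := by
  split_ifs with h
  · subst h
    exact classInner_self_of_isIrr (isIrrCharacter_linear ω)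
  · exact classInner_eq_zero_of_ne (isIrrCharacter_linear ω) (isIrrCharacter_linear ψ)
      fun e => h (linear_inj e)

/-- The central character on a central subgroup is the constituent of the restriction. -/
theorem classInner_res_ne_zero_iff [Finite G] {χ : G → ℂ} (hχ : IsIrrCharacter G χ)
    {N : Subgroup G} [Fintype N] (ω ψ : N →* ℂˣ)
    (hω : ∀ (g : G) (n : N), χ (g * n) = (ω n : ℂ) * χ g) :
    classInner (fun n : N => χ n) (fun n => (ψ n : ℂ)) ≠ 0 ↔ ω = ψ := by
  classical
  have e : (fun n : N => χ n) = χ 1 • fun n : N => (ω n : ℂ) := funext fun n => by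
    have := hω 1 n
    rw [one_mul] at this
    rw [Pi.smul_apply, smul_eq_mul, this, mul_comm]
  rw [e, classInner_smul_left, classInner_hom]
  split_ifs with h
  · simp [h, apply_one_ne_zero_of_isIrr hχ]
  · simp [h]

end CfsgLib.ZerosCodegree
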