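import Cfsg.Agent.Lib.ZerosCodegree.PalfyCentral

/-!
# The three primes theorem

In a finite solvable group, among three primes dividing degrees of irreducible characters some two
divide a common degree.
-/

set_option autoImplicit false
set_option linter.style.haveILetI false
set_option linter.unusedSectionVars false

open scoped Pointwise commutatorElement

namespace CfsgLib.ZerosCodegree.Palfy

open Cfsg CfsgLib.CharTheory CfsgLib.Clifford CfsgLib.ZerosCodegree.RelGraph

universe u

variable {G : Type u} [Group G] [Finite G] {M L : Subgroup G} {p q r : ℕ}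

/-- Comparing two factorisations. -/
theorem exponent_eq {p n e f b c m a : ℕ} (hp : p.Prime) (hpn : ¬ p ∣ n) (hn : 1 < n)
    (hfe : p ^ f < p ^ e) (hm : 0 < m) (h2 : p ^ e - p ^ f = n * (p ^ b - p ^ c))
    (h1 : p ^ m - 1 = n * (p ^ a - 1)) : e = f + m := by
  haveI := Fact.mk hp
  have hp1 := hp.one_lt
  have hfe' : f < e := (Nat.pow_lt_pow_iff_right hp1).1 hfe
  have hcb : c < b := by
    by_contra h
    rw [Nat.sub_eq_zero_of_le (Nat.pow_le_pow_right hp.pos (not_lt.1 h)), mul_zero] at h2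
    omega
  have key : ∀ {x y : ℕ}, x < y → p ^ y - p ^ x = p ^ x * (p ^ (y - x) - 1) ∧
      ¬ p ∣ p ^ (y - x) - 1 ∧ 0 < p ^ (y - x) - 1 := by
    intro x y hxy
    have h1 := Nat.one_lt_pow (show y - x ≠ 0 by omega) hp1
    refine ⟨by rw [Nat.mul_sub, mul_one, ← pow_add, Nat.add_sub_cancel' hxy.le], fun h => ?_,
      by omega⟩
    have h2 := Nat.dvd_sub (dvd_pow_self p (show y - x ≠ 0 by omega)) h
    rw [show p ^ (y - x) - (p ^ (y - x) - 1) = 1 by omega] at h2
    exact hp.not_dvd_one h2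
  obtain ⟨e1, e2, e3⟩ := key hfe'
  obtain ⟨b1, b2, b3⟩ := key hcb
  rw [e1, b1] at h2
  have hfc : f = c := by
    have hv := congrArg (padicValNat p) h2
    rw [padicValNat.mul (pow_ne_zero _ hp.pos.ne') e3.ne', padicValNat.prime_pow,
      padicValNat.eq_zero_of_not_dvd e2, padicValNat.mul (by omega)
        (mul_ne_zero (pow_ne_zero _ hp.pos.ne') b3.ne'),
      padicValNat.mul (pow_ne_zero _ hp.pos.ne') b3.ne', padicValNat.prime_pow,
      padicValNat.eq_zero_of_not_dvd b2, padicValNat.eq_zero_of_not_dvd hpn] at hv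
    omega
  subst hfc
  have h3 : p ^ (e - f) - 1 = n * (p ^ (b - f) - 1) := by
    refine Nat.eq_of_mul_eq_mul_left (pow_pos hp.pos f) ?_
    rw [h2]; ring
  have lt : ∀ {x y : ℕ}, 0 < y → p ^ y - 1 = n * (p ^ x - 1) → 0 < x ∧ x < y := by
    intro x y hy h
    have hy1 := Nat.one_lt_pow hy.ne' hp1
    have hx : p ^ x - 1 ≠ 0 := fun h0 => by rw [h0, mul_zero] at h; omega
    refine ⟨Nat.pos_of_ne_zero fun h0 => hx (by simp [h0]), ?_⟩
    by_contra hle
    have h4 : p ^ y ≤ p ^ x := Nat.pow_le_pow_right hp.pos (not_lt.1 hle)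
    have h5 : 2 * (p ^ x - 1) ≤ n * (p ^ x - 1) := Nat.mul_le_mul_right _ hn
    omega
  have := eq_of_repunit hp (lt hm h1).1 (lt (by omega) h3).1 (lt hm h1).2 (lt (by omega) h3).2 h1 h3
  omega

/-- Uniqueness of the fixing Sylow subgroup in the quotient. -/
theorem existsUnique_dual {N : Subgroup G} [N.Normal] [L.Normal] (hL : L ≤ (dualRep N).ker)
    [Fact r.Prime] (v : Additive (N →* ℂˣ))
    (hu : Uniq r ((stab N (Additive.toMul v)).map (QuotientGroup.mk' L))) :
    ∃! S : Sylow r (G ⧸ L), Fixes (QuotientGroup.lift L (dualRep N) hL :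
      G ⧸ L →* EndOf (Additive (N →* ℂˣ))) S v := by
  refine existsUnique_fixes (fun x => ?_) hu
  obtain ⟨g, rfl⟩ := QuotientGroup.mk_surjective x
  constructor
  · rintro ⟨g', hg', he⟩
    refine dualRep_fix.2 ?_
    have h1 : g'⁻¹ * g ∈ stab N (Additive.toMul v) :=
      le_stab_of_mem_ker _ (hL (QuotientGroup.eq.1 he))
    simpa using (stab N (Additive.toMul v)).mul_mem hg' h1
  · exact fun h => ⟨g, dualRep_fix.1 h, rfl⟩

theorem le_ker_dual_self (L : Subgroup G) [L.Normal] : L ≤ (dualRep L).ker := fun _ hx =>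
  MonoidHom.mem_ker.2 (DFunLike.ext _ _ fun v =>
    (dualRep_fix.2 (le_stab L (Additive.toMul v) hx)).trans rfl)

/-- The linear characters of `L` are too few. -/
theorem Crit.card_eq (c : Crit M L p p q r) [M.Normal] [L.Normal] {K H₀ : Subgroup G}
    (hc : L.IsComplement' H₀) (hK : QGroup M L K q) (hr : ¬ r ∣ L.relIndex (dualRep M).ker) :
    Nat.card ↥(M ⊔ ⁅K, L⁆) = Nat.card M * Nat.card M := by
  classical
  haveI := Fintype.ofFinite G
  haveI := Fintype.ofFinite L
  haveI := Fintype.ofFinite M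
  haveI := Fact.mk c.pprime
  haveI := Fact.mk c.rprime
  haveI := hK.normal
  haveI := finite_dual M
  haveI := finite_dual L
  haveI : Finite (Additive (M →* ℂˣ)) := Finite.of_equiv _ Additive.ofMul
  haveI : Finite (Additive (L →* ℂˣ)) := Finite.of_equiv _ Additive.ofMul
  let ρM : G ⧸ L →* EndOf (Additive (M →* ℂˣ)) := QuotientGroup.lift L (dualRep M) c.le_ker
  let ρL : G ⧸ L →* EndOf (Additive (L →* ℂˣ)) :=
    QuotientGroup.lift L (dualRep L) (le_ker_dual_self L)
  let F : AddSubgroup (Additive (L →* ℂˣ)) :=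
    { carrier := {v | ∀ x ∈ K, dualRep L x v = v}
      zero_mem' := fun x _ => map_zero _
      add_mem' := fun {a b} ha hb x hx => by rw [map_add, ha x hx, hb x hx]
      neg_mem' := fun {a} ha x hx => by rw [map_neg, ha x hx] }
  have hFmem : ∀ v, v ∈ F ↔ K ≤ stab L (Additive.toMul v) := fun v =>
    ⟨fun h x hx => dualRep_fix.1 (h x hx), fun h x hx => dualRep_fix.2 (h hx)⟩
  have hFinv : ∀ h : G ⧸ L, ∀ v ∈ F, ρL h v ∈ F := by
    intro h v hv
    obtain ⟨g, rfl⟩ := QuotientGroup.mk_surjective h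
    intro x hx
    show dualRep L x (dualRep L g v) = dualRep L g v
    have h1 := hv _ (hK.normal.conj_mem x hx g⁻¹)
    rw [inv_inv, rho_mul_apply (ρ := dualRep L), rho_mul_apply (ρ := dualRep L)] at h1
    apply rho_injective (ρ := dualRep L) g⁻¹
    rw [h1, rho_inv_apply]
  have huL : ∀ v, v ∉ F → ∃! S : Sylow r (G ⧸ L), Fixes ρL S v := by
    intro v hv
    refine existsUnique_dual _ v (uniq_stab c.solv L hc _ fun χ hχ => ?_)
    have hi := RelGraph.index_dvd L
      (show Over L χ (linIrr L (Additive.toMul v)) from hχ)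
    exact fun hd => c.nqr ⟨χ, (by_contra fun h => hv ((hFmem v).2
      (hK.key _ (le_stab L _) h))).trans hi, hd⟩
  have huM : ∀ v, v ∉ (⊥ : AddSubgroup (Additive (M →* ℂˣ))) →
      ∃! S : Sylow r (G ⧸ L), Fixes ρM S v := fun v hv =>
    existsUnique_dual _ v (c.swap.uniq_central hc _ fun h => hv (AddSubgroup.mem_bot.2
      (Additive.toMul.injective h)))
  obtain ⟨S₀⟩ : Nonempty (Sylow r (G ⧸ L)) := inferInstance
  obtain ⟨B, B₀, -, -, -, hcountL⟩ := count_fixed ρL F hFinv huL S₀
  obtain ⟨A, A₀, -, hA₀, -, hcountM⟩ := count_fixed ρM ⊥ (fun h v hv => by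
    rw [AddSubgroup.mem_bot.1 hv, map_zero]; exact AddSubgroup.zero_mem _) huM S₀
  rw [le_bot_iff.1 hA₀, AddSubgroup.card_bot] at hcountM
  -- the number of Sylow subgroups
  set n := Nat.card (Sylow r (G ⧸ L)) with hn
  have hpn : ¬ p ∣ n := fun h => c.cover.index
    (h.trans (S₀.card_dvd_index.trans (Subgroup.index_dvd_card _)))
  have hn1 : 1 < n := by
    rcases Nat.lt_trichotomy 1 n with h | h | h
    · exact h
    · exfalso
      haveI : Subsingleton (Sylow r (G ⧸ L)) := (Nat.card_eq_one_iff_unique.1 h.symm).1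
      have hle : (S₀ : Subgroup (G ⧸ L)) ≤ (dualRep M).ker.map (QuotientGroup.mk' L) := by
        intro y hy
        obtain ⟨g, rfl⟩ := QuotientGroup.mk_surjective y
        refine ⟨g, MonoidHom.mem_ker.2 (DFunLike.ext _ _ fun v => ?_), rfl⟩
        by_cases hv : v = 0
        · rw [hv, map_zero, map_zero]
        · obtain ⟨S, hS, -⟩ := huM v (fun h' => hv (AddSubgroup.mem_bot.1 h'))
          exact hS _ (Subsingleton.elim S₀ S ▸ hy)
      refine hr ((S₀.dvd_card_of_dvd_card ?_).trans ((Subgroup.card_dvd_of_le hle).trans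
        (dvd_of_eq ?_)))
      · exact c.swap.dvd_index_cover
      · rw [← Subgroup.relIndex_ker, QuotientGroup.ker_mk']
    · exact absurd (Nat.lt_one_iff.1 h) Nat.card_pos.ne'
  -- cardinalities
  obtain ⟨a, ha⟩ := IsPGroup.iff_card.1 c.isPGroup
  obtain ⟨m, hm⟩ := IsPGroup.iff_card.1 c.sM
  have hm0 : 0 < m := Nat.pos_of_ne_zero fun h0 =>
    c.ne (Subgroup.eq_bot_of_card_eq M (by rw [hm, h0, pow_zero]))
  have hVM : Nat.card (Additive (M →* ℂˣ)) = p ^ m := by
    rw [Nat.card_congr Additive.toMul, card_dual_comm c.ab, hm]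
  have hVL : Nat.card (Additive (L →* ℂˣ)) * Nat.card M = Nat.card L := by
    rw [Nat.card_congr Additive.toMul, RelGraph.card_linear, c.commutator_eq,
      ← Nat.card_congr (Subgroup.subgroupOfEquivOfLe c.cover.le).toEquiv, Subgroup.relIndex,
      Subgroup.index_mul_card]
  obtain ⟨e, -, he⟩ := (Nat.dvd_prime_pow c.pprime).1 ((Dvd.intro _ hVL).trans ha.dvd)
  have hsub : ∀ X : AddSubgroup (Additive (L →* ℂˣ)), ∃ i, Nat.card X = p ^ i := fun X => by
    obtain ⟨i, -, hi⟩ := (Nat.dvd_prime_pow c.pprime).1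
      ((AddSubgroup.card_addSubgroup_dvd_card X).trans he.dvd)
    exact ⟨i, hi⟩
  obtain ⟨f, hf⟩ := hsub F
  obtain ⟨b, hb⟩ := hsub B
  obtain ⟨b₀, hb₀⟩ := hsub B₀
  obtain ⟨a', -, ha'⟩ := (Nat.dvd_prime_pow c.pprime).1
    ((AddSubgroup.card_addSubgroup_dvd_card A).trans hVM.dvd)
  rw [he, hf, hb, hb₀] at hcountL
  rw [hVM, ha'] at hcountM
  have hfe : p ^ f < p ^ e := by
    rw [← hf, ← he]
    refine lt_of_le_of_ne (Nat.le_of_dvd Nat.card_pos (AddSubgroup.card_addSubgroup_dvd_card F)) fun h => ?_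
    obtain ⟨μ, hμ⟩ := c.exists_moved hc hK
    exact hμ ((hFmem (Additive.ofMul μ)).1
      (AddSubgroup.eq_top_of_card_eq F h ▸ AddSubgroup.mem_top _))
  have hef := exponent_eq c.pprime hpn hn1 hfe hm0 hcountL hcountM
  -- the subgroup `F` is the annihilator of `M ⊔ ⁅K, L⁆`
  set D : Subgroup G := M ⊔ ⁅K, L⁆ with hD
  have hDL : D ≤ L := sup_le c.cover.le (Subgroup.commutator_le_right K L)
  set D' := D.subgroupOf L with hD'
  have hDc : commutator L ≤ D' := c.mem_comm_subgroupOf.trans fun x hx =>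
    Subgroup.mem_subgroupOf.2 (le_sup_left (a := M) hx)
  haveI hDn : D'.Normal := inferInstance
  have hFD : Nat.card F = D'.index := by
    rw [← card_linear_trivial_on hDc]
    refine Nat.card_congr (Additive.toMul.subtypeEquiv fun v => (hFmem v).trans ⟨fun h => ?_, fun h => ?_⟩)
    · have hle : D ≤ (Additive.toMul v).ker.map L.subtype := by
        refine sup_le (fun m hm => ?_) (Subgroup.commutator_le.2 fun k hk x hx => ?_)
        · rw [← c.commutator_eq, ← Subgroup.map_subtype_commutator L] at hm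
          exact Subgroup.map_mono (Abelianization.commutator_subset_ker _) hm
        · have hcL : ⁅k, x⁆ ∈ L := hDL (Subgroup.mem_sup_right
            (Subgroup.commutator_mem_commutator hk hx))
          exact ⟨⟨⁅k, x⁆, hcL⟩, apply_commutator (h hk) ⟨x, hx⟩ hcL, rfl⟩
      intro x hx
      obtain ⟨y, hy, hye⟩ := hle hx
      exact (Subtype.ext hye : y = x) ▸ hy
    · intro k hk
      rw [mem_stab]
      intro x
      have hmem : MulAut.conjNormal k x * x⁻¹ ∈ D' := Subgroup.mem_subgroupOf.2 (by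
        simpa [commutatorElement_def] using (Subgroup.mem_sup_right
          (Subgroup.commutator_mem_commutator hk x.2) : ⁅k, (x : G)⁆ ∈ D))
      have h1 := MonoidHom.mem_ker.1 (h hmem)
      rwa [map_mul, map_inv, mul_inv_eq_one] at h1
  have h1 := D'.card_mul_index
  rw [Nat.card_congr (Subgroup.subgroupOfEquivOfLe hDL).toEquiv, ← hFD, hf, ← hVL, he, hm,
    hef, pow_add] at h1
  rw [hm]
  refine Nat.eq_of_mul_eq_mul_right (pow_pos c.pprime.pos f) ?_
  rw [h1]; ring

theorem Crit.central_dvd_false (c : Crit M L p p q r) [M.Normal] [L.Normal] {H₀ : Subgroup G}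
    (hc : L.IsComplement' H₀) (hqC : q ∣ L.relIndex (dualRep M).ker) : False := by
  obtain ⟨K, hK⟩ := c.exists_qgroup hc hqC
  have h1 := c.card_lt hc hK
  rw [c.card_eq hc hK fun hrC => c.not_both hc hqC hrC] at h1
  exact lt_irrefl _ h1

theorem Crit.false {s : ℕ} (c : Crit M L s p q r) [M.Normal] : False := by
  classical
  obtain rfl := c.eq_prime
  haveI := c.cover.normal
  haveI := Fintype.ofFinite G
  haveI := Fact.mk c.qprime
  haveI := Fact.mk c.rprime
  obtain ⟨H₀, hc⟩ := Subgroup.exists_right_complement'_of_coprime c.coprime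
  by_cases hqC : q ∣ L.relIndex (dualRep M).ker
  · exact c.central_dvd_false hc hqC
  by_cases hrC : r ∣ L.relIndex (dualRep M).ker
  · exact c.swap.central_dvd_false hc hrC
  exact c.nqr (pair_of_uniq c.solv M c.ab c.ne c.min L c.le_ker c.qr c.dvd_index_cover
    c.swap.dvd_index_cover hqC hrC (c.uniq_central hc) (c.swap.uniq_central hc))

/-- The three primes theorem. -/
theorem three_primes : ∀ (n : ℕ) (G : Type u) [Group G] [Finite G], Nat.card G = n →
    Group.IsSolvable G → ∀ {p q r : ℕ}, p.Prime → q.Prime → r.Prime → p ≠ q → q ≠ r → p ≠ r →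
    Vert G p → Vert G q → Vert G r → Pair G p q ∨ Pair G q r ∨ Pair G p r := by
  intro n
  induction n using Nat.strong_induction_on with
  | _ n IH =>
  intro G _ _ hn hsolv p q r hp hq hr hpq hqr hpr hvp hvq hvr
  classical
  haveI := hsolv
  haveI := Fintype.ofFinite G
  by_contra hcon
  push Not at hcon
  obtain ⟨h1, h2, h3⟩ := hcon
  -- the primes are treated alike
  let P3 : ℕ → Prop := fun t => t = p ∨ t = q ∨ t = r
  have hpair : ∀ a b, P3 a → P3 b → a ≠ b → ¬ Pair G a b := by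
    rintro a b (rfl | rfl | rfl) (rfl | rfl | rfl) hab hP <;>
      first
      | exact hab rfl
      | exact h1 hP
      | exact h1 hP.symm
      | exact h2 hP
      | exact h2 hP.symm
      | exact h3 hP
      | exact h3 hP.symm
  have hV : ∀ t, P3 t → t.Prime ∧ Vert G t := by
    rintro t (rfl | rfl | rfl)
    exacts [⟨hp, hvp⟩, ⟨hq, hvq⟩, ⟨hr, hvr⟩]
  -- every minimal normal subgroup loses a prime
  have lose : ∀ N : Subgroup G, N.Normal → N ≠ ⊥ →
      (∀ K : Subgroup G, K.Normal → K ≤ N → K = ⊥ ∨ K = N) →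
      ∃ (s : ℕ) (t : ℕ) (L : Subgroup G), s.Prime ∧ IsPGroup s N ∧
        (∀ a ∈ N, ∀ b ∈ N, a * b = b * a) ∧ P3 t ∧ Cover N t L ∧
        ∀ a ∈ relCharDegrees N, t ∣ a := by
    intro N hN hNne hNmin
    haveI := hN
    obtain ⟨s, d, hs, -, hcard, -, hcomm⟩ :=
      CfsgLib.SolvableStructure.minimal_normal_prime hNne hNmin
    haveI := hcomm
    have hab : ∀ a ∈ N, ∀ b ∈ N, a * b = b * a := fun a ha b hb =>
      CfsgLib.SolvableStructure.commute_of_isMulCommutative ha hb
    haveI := Fact.mk hs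
    have hsN : IsPGroup s N := IsPGroup.of_card hcard
    obtain ⟨t, ht3, hnot⟩ : ∃ t, P3 t ∧ ¬ Vert (G ⧸ N) t := by
      by_contra hall
      push Not at hall
      have hlt : Nat.card (G ⧸ N) < n := by
        rw [← hn, ← N.card_mul_index]
        exact lt_mul_left (Nat.pos_of_ne_zero Subgroup.index_ne_zero_of_finite)
          ((Subgroup.one_lt_card_iff_ne_bot N).2 hNne)
      rcases IH _ hlt (G ⧸ N) rfl (Group.isSolvable_of_surjective (QuotientGroup.mk'_surjective N))
        hp hq hr hpq hqr hpr (hall p (Or.inl rfl)) (hall q (Or.inr (Or.inl rfl)))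
        (hall r (Or.inr (Or.inr rfl))) with ⟨β, hβ1, hβ2⟩ | ⟨β, hβ1, hβ2⟩ | ⟨β, hβ1, hβ2⟩
      all_goals
        obtain ⟨χ, hχ⟩ := exists_of_surjective (QuotientGroup.mk'_surjective N) β
        rw [← hχ] at hβ1 hβ2
      exacts [h1 ⟨χ, hβ1, hβ2⟩, h2 ⟨χ, hβ1, hβ2⟩, h3 ⟨χ, hβ1, hβ2⟩]
    obtain ⟨L, hL⟩ := exists_cover hsolv N (hV t ht3).1 fun β hβ => hnot ⟨β, hβ⟩
    exact ⟨s, t, L, hs, hsN, hab, ht3, hL, rel_dvd hs (hV t ht3).1 hsN hab hNmin hL (hV t ht3).2⟩
  have hG : (⊤ : Subgroup G) ≠ ⊥ := fun h => by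
    obtain ⟨χ, hχ⟩ := hvp
    have h1 : (⊥ : Subgroup G).index = 1 := by rw [← h, Subgroup.index_top]
    have := hχ.trans (degree_dvd_index ⊥ (fun a ha b hb => by
      rw [Subgroup.mem_bot.1 ha, Subgroup.mem_bot.1 hb]) χ)
    rw [h1] at this
    exact hp.not_dvd_one this
  obtain ⟨M, -, hMn, hMne, hMmin⟩ :=
    CfsgLib.SolvableStructure.exists_minimal_normal (inferInstance : (⊤ : Subgroup G).Normal) hG
  obtain ⟨s, t, L, hs, hsM, hab, ht3, hcov, hrel⟩ := lose M hMn hMne hMmin
  have huniq : ∀ N : Subgroup G, N.Normal → N ≠ ⊥ → M ≤ N := by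
    intro N hN hNne
    obtain ⟨M', hM'N, hM'n, hM'ne, hM'min⟩ :=
      CfsgLib.SolvableStructure.exists_minimal_normal hN hNne
    by_cases he : M' = M
    · exact he ▸ hM'N
    exfalso
    haveI := hMn
    haveI := hM'n
    have hdis : M ⊓ M' = ⊥ := by
      rcases hMmin (M ⊓ M') inferInstance inf_le_left with h | h
      · exact h
      rcases hM'min M hMn (h ▸ inf_le_right) with h' | h'
      exacts [absurd h' hMne, absurd h'.symm he]
    obtain ⟨s', t', L', -, -, hab', ht3', hcov', hrel'⟩ := lose M' hM'n hM'ne hM'min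
    by_cases htt : t = t'
    · subst htt
      haveI := hcov.normal
      haveI := hcov'.normal
      refine not_vert_of_abelian (L ⊓ L') (fun a ha b hb =>
        commutatorElement_eq_one_iff_mul_comm.1 ?_) ?_ (hV t ht3).2
      · rw [← Subgroup.mem_bot, ← hdis]
        exact ⟨hcov.comm (Subgroup.commutator_mem_commutator ha.1 hb.1),
          hcov'.comm (Subgroup.commutator_mem_commutator ha.2 hb.2)⟩
      · rw [← Subgroup.relIndex_mul_index (inf_le_left : L ⊓ L' ≤ L), Subgroup.inf_relIndex_left]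
        exact fun h => ((hV t ht3).1.dvd_mul.1 h).elim
          (fun h' => hcov'.index (h'.trans (Subgroup.relIndex_dvd_index_of_normal L' L))) hcov.index
    -- a character non-trivial on both
    set A := M ⊔ M' with hA
    have hcm : ∀ a ∈ M, ∀ b ∈ M', a * b = b * a := fun a ha b hb =>
      Subgroup.commute_of_normal_of_disjoint M M' hMn hM'n (disjoint_iff.2 hdis) a b ha hb
    have hMc : ∀ x : G, (∀ m ∈ M, x * m = m * x) → (∀ m ∈ M', x * m = m * x) →
        ∀ y ∈ A, x * y = y * x := fun x e e' y hy => by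
      have hle : A ≤ Subgroup.centralizer {x} :=
        sup_le (fun m hm => Subgroup.mem_centralizer_singleton_iff.2 (e m hm).symm)
          (fun m hm => Subgroup.mem_centralizer_singleton_iff.2 (e' m hm).symm)
      exact (Subgroup.mem_centralizer_singleton_iff.1 (hle hy)).symm
    have habA : ∀ a ∈ A, ∀ b ∈ A, a * b = b * a := fun a ha b hb =>
      hMc a (fun m hm => (hMc m (fun x hx => hab m hm x hx) (fun x hx => hcm m hm x hx) a ha).symm)
        (fun m hm => (hMc m (fun x hx => (hcm x hx m hm).symm) (fun x hx => hab' m hm x hx)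
          a ha).symm) b hb
    haveI := Fintype.ofFinite A
    haveI := Fintype.ofFinite M
    haveI := Fintype.ofFinite M'
    obtain ⟨x, hx⟩ := Subgroup.ne_bot_iff_exists_ne_one.1 hMne
    obtain ⟨x', hx'⟩ := Subgroup.ne_bot_iff_exists_ne_one.1 hM'ne
    have hxA : (⟨x, Subgroup.mem_sup_left x.2⟩ : A) ≠ 1 := fun h => hx
      (Subtype.ext (congrArg Subtype.val h :))
    have hxA' : (⟨x', Subgroup.mem_sup_right x'.2⟩ : A) ≠ 1 := fun h => hx'
      (Subtype.ext (congrArg Subtype.val h :))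
    obtain ⟨μ, hμ⟩ := exists_apply_ne_one habA hxA
    obtain ⟨ν, hν⟩ := exists_apply_ne_one habA hxA'
    let res : ∀ (N : Subgroup G), N ≤ A → (A →* ℂˣ) → (N →* ℂˣ) :=
      fun N h a => a.comp (Subgroup.inclusion h)
    obtain ⟨a, ha, ha'⟩ : ∃ a : A →* ℂˣ, res M le_sup_left a ≠ 1 ∧ res M' le_sup_right a ≠ 1 := by
      have e1 : res M le_sup_left μ ≠ 1 := fun h => hμ (DFunLike.congr_fun h x :)
      have e2 : res M' le_sup_right ν ≠ 1 := fun h => hν (DFunLike.congr_fun h x' :)
      by_cases h4 : res M' le_sup_right μ = 1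
      · by_cases h5 : res M le_sup_left ν = 1
        · refine ⟨μ * ν, fun h => e1 ?_, fun h => e2 ?_⟩
          · rw [← h]; show _ = res M le_sup_left μ * res M le_sup_left ν
            rw [h5]; exact MonoidHom.ext fun z => (mul_one (res M le_sup_left μ z)).symm
          · rw [← h]; show _ = res M' le_sup_right μ * res M' le_sup_right ν
            rw [h4]; exact MonoidHom.ext fun z => (one_mul (res M' le_sup_right ν z)).symm
        · exact ⟨ν, h5, e2⟩
      · exact ⟨μ, e1, h4⟩
    obtain ⟨χ, hχ⟩ := CfsgLib.BlockLocal.exists_over A (linIrr A a)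
    have hin : ∀ (N : Subgroup G) [Fintype N] (hN : N ≤ A), classInner
        (fun m : N => (linIrr A a : A → ℂ) (Subgroup.inclusion hN m)) (linFun (res N hN a)) ≠ 0 := by
      intro N _ hN
      rw [inner_of_scalar (c := 1) fun m => by rw [one_mul]; rfl]
      exact one_ne_zero
    refine hpair t t' ht3 ht3' htt ⟨χ,
      hrel _ (mem_rel_of_over le_sup_left (show Over A χ (linIrr A a) from hχ) ha (hin M le_sup_left)),
      hrel' _ (mem_rel_of_over le_sup_right (show Over A χ (linIrr A a) from hχ) ha'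
        (hin M' le_sup_right))⟩
  have finish : ∀ {a b : ℕ}, P3 a → P3 b → t ≠ a → t ≠ b → a ≠ b → False := by
    intro a b ha hb hta htb hab'
    haveI := hMn
    exact Crit.false (M := M) (L := L) (p := t) (q := a) (r := b) (s := s)
      ⟨hsolv, hs, (hV t ht3).1, (hV a ha).1, (hV b hb).1, hta, hab', htb, hsM, hab, hMne, hMmin,
        huniq, hcov, (hV t ht3).2, (hV a ha).2, (hV b hb).2, hrel, hpair t a ht3 ha hta,
        hpair t b ht3 hb htb, hpair a b ha hb hab'⟩
  rcases ht3 with rfl | rfl | rfl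
  · exact finish (Or.inr (Or.inl rfl)) (Or.inr (Or.inr rfl)) hpq hpr hqr
  · exact finish (Or.inl rfl) (Or.inr (Or.inr rfl)) hpq.symm hqr hpr
  · exact finish (Or.inl rfl) (Or.inr (Or.inl rfl)) hpr.symm hqr.symm hpq

end CfsgLib.ZerosCodegree.Palfy
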