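import Cfsg.Agent.Lib.BlockLocal.WeakOrth
import Cfsg.Agent.Lib.BlockLocal.BlockCover
import Cfsg.Agent.Lib.Correspondences.PrincipalBlock
import Cfsg.Agent.Lib.ZerosCodegree.PowerTwist

/-!
Principal blocks: power maps, determination by regular classes, parity.
-/

set_option autoImplicit false
set_option linter.style.haveILetI false

namespace CfsgLib.ZerosCodegree

open Cfsg CfsgLib.CharTheory CfsgLib.Blocks CfsgLib.BlockLocal

universe u
variable {G : Type u} [Group G] {p : ℕ} {M : Ideal AlgInt}

theorem zpowers_pow_eq_of_coprime [Finite G] {k : ℕ} (hk : k.Coprime (Nat.card G)) (g : G) :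
    Subgroup.zpowers (g ^ k) = Subgroup.zpowers g := by
  obtain ⟨m, hm⟩ := exists_pow_eq_self_of_coprime (hk.coprime_dvd_right (orderOf_dvd_natCard g))
  refine le_antisymm (Subgroup.zpowers_le.2 (pow_mem (Subgroup.mem_zpowers g) k))
    (Subgroup.zpowers_le.2 (Subgroup.mem_zpowers_iff.2 ⟨(m : ℤ), ?_⟩))
  rw [zpow_natCast, hm]

theorem centralizer_pow_eq_of_coprime [Finite G] {k : ℕ} (hk : k.Coprime (Nat.card G)) (g : G) :
    Subgroup.centralizer ({g ^ k} : Set G) = Subgroup.centralizer ({g} : Set G) := by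
  obtain ⟨m, hm⟩ := exists_pow_eq_self_of_coprime (hk.coprime_dvd_right (orderOf_dvd_natCard g))
  ext c
  simp only [Subgroup.mem_centralizer_singleton_iff]
  refine ⟨fun h => ?_, fun h => (show Commute c g from h).pow_right k⟩
  rw [← hm]
  exact (show Commute c (g ^ k) from h).pow_right m

theorem centralChar_powTwist [Finite G] {k : ℕ} (hk : k.Coprime (Nat.card G)) (χ : G → ℂ) (g : G) :
    centralChar (powTwist k χ) g = centralChar χ (g ^ k) := by
  simp only [centralChar, powTwist, one_pow, centralizer_pow_eq_of_coprime hk]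

theorem mem_principalBlock_iff {χ : IrrCharacter G} :
    χ ∈ principalBlock M G ↔
      ∀ g : G, MemLocalIdeal M (centralChar (fun _ : G => (1 : ℂ)) g - centralChar (χ : G → ℂ) g) :=
  Iff.rfl

theorem trivIrr_mem_principalBlock [M.IsPrime] : trivIrr G ∈ principalBlock M G :=
  mem_blockOf_self (trivIrr G)

theorem isPBlock_principalBlock : IsPBlock M (principalBlock M G) := ⟨trivIrr G, rfl⟩

theorem powTwist_mem_principalBlock [Finite G] {k : ℕ} (hk : k.Coprime (Nat.card G))
    {χ ψ : IrrCharacter G} (hψ : (ψ : G → ℂ) = powTwist k (χ : G → ℂ))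
    (hχ : χ ∈ principalBlock M G) : ψ ∈ principalBlock M G := fun g => by
  have h := hχ (g ^ k)
  rw [← centralChar_powTwist hk, ← centralChar_powTwist hk (χ : G → ℂ), ← hψ] at h
  exact h

/-- Blocks are determined by the central characters at the regular classes. -/
theorem sameBlock_of_regular [Finite G] [M.IsPrime] (hM : IsPModular p M) {χ ψ : IrrCharacter G}
    (h : ∀ g : G, ¬ p ∣ orderOf g →
      MemLocalIdeal M (centralChar (χ : G → ℂ) g - centralChar (ψ : G → ℂ) g)) :
    SameBlock M (χ : G → ℂ) (ψ : G → ℂ) := by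
  classical
  haveI : Fintype G := Fintype.ofFinite G
  haveI : Fintype (IrrCharacter G) := Fintype.ofFinite _
  by_contra hcon
  let B := blockOf M (χ : G → ℂ)
  have hB : IsPBlock M B := isPBlock_blockOf χ
  let φ : G → ℂ := fun g =>
    if p ∣ orderOf g then 0 else (χ : G → ℂ) g / (χ : G → ℂ) 1 - (ψ : G → ℂ) g / (ψ : G → ℂ) 1
  have hkey : MemLocalIdeal M (∑ g, blockCoeff B g * φ g) := by
    refine memLocalIdeal_sum_mul_of_classes _ _
      (fun a c => (blockCoeff_eq_of_isConj B (isConj_iff.2 ⟨c, rfl⟩)).symm)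
      (memLocalRing_blockCoeff hB) fun g _ => ?_
    by_cases hg : p ∣ orderOf g
    · rw [Finset.sum_eq_zero fun x hx => ?_]
      · exact memLocalIdeal_zero
      · obtain ⟨c, rfl⟩ := isConj_iff.1 (Finset.mem_filter.1 hx).2
        simp only [φ]
        rw [if_pos]
        rwa [← MulAut.conj_apply, MulEquiv.orderOf_eq]
    · rw [Finset.sum_congr rfl (g := fun x => (χ : G → ℂ) x / (χ : G → ℂ) 1 -
        (ψ : G → ℂ) x / (ψ : G → ℂ) 1) fun x hx => ?_]
      · rw [Finset.sum_sub_distrib,
          sum_conj_eq_centralChar (IsIrrCharacter.isClassFunction χ.2) g,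
          sum_conj_eq_centralChar (IsIrrCharacter.isClassFunction ψ.2) g]
        exact h g hg
      · obtain ⟨c, rfl⟩ := isConj_iff.1 (Finset.mem_filter.1 hx).2
        simp only [φ]
        rw [if_neg]
        rwa [← MulAut.conj_apply, MulEquiv.orderOf_eq]
  have hval : ∑ g, blockCoeff B g * φ g = 1 := by
    have h1 : omega (χ : G → ℂ) (blockIdem B) = 1 := omega_blockIdem_of_mem (mem_blockOf_self χ)
    have h2 : omega (ψ : G → ℂ) (blockIdem B) = 0 := omega_blockIdem_of_notMem hcon
    rw [omega_eq_sum] at h1 h2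
    calc ∑ g, blockCoeff B g * φ g = (∑ g, (blockIdem B).coeff g * (χ : G → ℂ) g) / (χ : G → ℂ) 1 -
          (∑ g, (blockIdem B).coeff g * (ψ : G → ℂ) g) / (ψ : G → ℂ) 1 := by
          rw [Finset.sum_div, Finset.sum_div, ← Finset.sum_sub_distrib]
          refine Finset.sum_congr rfl fun g _ => ?_
          simp only [coeff_blockIdem, φ]
          split_ifs with hg
          · rw [blockCoeff_eq_zero_of_dvd_orderOf hM hB hg]; simp
          · ring
      _ = 1 := by rw [h1, h2, sub_zero]
  rw [hval] at hkey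
  exact not_memLocalIdeal_one hkey

theorem mem_principalBlock_of_regular [Finite G] [M.IsPrime] (hM : IsPModular p M)
    {χ : IrrCharacter G} (h : ∀ g : G, ¬ p ∣ orderOf g →
      MemLocalIdeal M (centralChar (fun _ : G => (1 : ℂ)) g - centralChar (χ : G → ℂ) g)) :
    χ ∈ principalBlock M G :=
  sameBlock_of_regular hM (χ := trivIrr G) h

/-- A character over a principal block character of a normal subgroup with `p`-power index lies in
the principal block. -/
theorem mem_principalBlock_of_over [Fintype G] [M.IsPrime] (hM : IsPModular p M) (N : Subgroup G)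
    [N.Normal] [Fintype N] (hN : ∀ g : G, ¬ p ∣ orderOf g → g ∈ N) {χ : IrrCharacter G}
    {θ : IrrCharacter N} (hθ : θ ∈ principalBlock M N)
    (h : classInner (fun n : N => (χ : G → ℂ) n) (θ : N → ℂ) ≠ 0) : χ ∈ principalBlock M G := by
  classical
  haveI : Fintype (IrrCharacter N) := Fintype.ofFinite _
  refine mem_principalBlock_of_regular hM fun g hg => ?_
  have h1 : classInner (fun n : N => (trivIrr G : G → ℂ) n) (trivIrr N : N → ℂ) ≠ 0 := by
    rw [show (fun n : N => (trivIrr G : G → ℂ) n) = (trivIrr N : N → ℂ) from rfl,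
      classInner_self_of_isIrr (trivIrr N).2]
    exact one_ne_zero
  have e1 := centralChar_eq_inducedCentralChar N h1 ⟨g, hN g hg⟩
  have e2 := centralChar_eq_inducedCentralChar N h ⟨g, hN g hg⟩
  have e3 := memLocalIdeal_inducedCentralChar_sub N (θ := trivIrr N) (θ' := θ) hθ g
  rw [← e1, ← e2] at e3
  exact e3

/-- The degree-weighted sum of a block at a singular element vanishes. -/
theorem sum_degree_mul_block_eq_zero [Fintype G] [M.IsPrime] [Fintype (IrrCharacter G)]
    (hM : IsPModular p M) {B : Set (IrrCharacter G)} (hB : IsPBlock M B) [DecidablePred (· ∈ B)]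
    {g : G} (hg : p ∣ orderOf g) :
    ∑ χ ∈ Finset.univ.filter (· ∈ B), (charDegree (χ : G → ℂ) : ℂ) * (χ : G → ℂ) g = 0 := by
  haveI : Fact p.Prime := ⟨hM.1⟩
  have h := weakOrth_mul hM B hB 1 g (by rw [orderOf_one]; exact hM.1.not_dvd_one) hg
  rw [finsum_mem_irr_eq_sum, ← Finset.sum_filter] at h
  rw [← h]
  exact Finset.sum_congr rfl fun χ _ => by rw [irr_apply_one_eq]

/-- In a group of order divisible by `p`, the squares of the degrees in a block sum to a multiple
of `p`. -/
theorem dvd_sum_sq_block [Fintype G] [M.IsPrime] [Fintype (IrrCharacter G)]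
    (hM : IsPModular p M) {B : Set (IrrCharacter G)} (hB : IsPBlock M B) [DecidablePred (· ∈ B)]
    (hG : p ∣ Nat.card G) :
    p ∣ ∑ χ ∈ Finset.univ.filter (· ∈ B), charDegree (χ : G → ℂ) ^ 2 := by
  haveI : Fact p.Prime := ⟨hM.1⟩
  obtain ⟨t, ht⟩ := exists_prime_orderOf_dvd_card' p hG
  have h0 := sum_degree_mul_block_eq_zero hM hB (g := t) (by rw [ht])
  rw [← memLocalIdeal_natCast_iff hM]
  have h : MemLocalIdeal M (∑ χ ∈ Finset.univ.filter (· ∈ B),
      (charDegree (χ : G → ℂ) : ℂ) * ((charDegree (χ : G → ℂ) : ℂ) - (χ : G → ℂ) t)) := by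
    refine memLocalIdeal_sum fun χ _ => memLocalIdeal_mul_left (memLocalRing_natCast _) ?_
    rw [memLocalIdeal_sub_comm, ← irr_apply_one_eq]
    exact CfsgLib.Correspondences.memLocalIdeal_apply_sub_one hM
      (IsIrrCharacter.isCharacter χ.2) (k := 1) (by rw [pow_one, ← ht, pow_orderOf_eq_one])
  simp only [mul_sub, Finset.sum_sub_distrib, h0, sub_zero] at h
  rw [Nat.cast_sum]
  simp only [pow_two, Nat.cast_mul]
  exact h

/-- A block of a group of even order has an even number of members of odd degree. -/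
theorem even_card_odd_block [Finite G] [M.IsPrime] (hM : IsPModular 2 M)
    {B : Set (IrrCharacter G)} (hB : IsPBlock M B) (hG : Even (Nat.card G)) :
    Even (Nat.card {χ : IrrCharacter G // χ ∈ B ∧ Odd (charDegree (χ : G → ℂ))}) := by
  classical
  haveI : Fintype G := Fintype.ofFinite G
  haveI : Fintype (IrrCharacter G) := Fintype.ofFinite _
  have h := dvd_sum_sq_block hM hB hG.two_dvd
  rw [← even_iff_two_dvd, Finset.even_sum_iff_even_card_odd] at h
  rw [Nat.card_eq_fintype_card, Fintype.card_subtype]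
  rw [Finset.filter_filter] at h
  convert h using 3
  simp [Nat.odd_pow_iff]

end CfsgLib.ZerosCodegree
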