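import Cfsg.Agent.Lib.ZerosCodegree.CentralSubgroup
import Cfsg.Agent.Lib.Clifford.Basic
import Cfsg.Agent.Lib.BlockLocal.Covering

/-!
The irreducible characters lying over an irreducible character of a normal subgroup.
-/

set_option autoImplicit false
set_option linter.style.haveILetI false

namespace CfsgLib.ZerosCodegree

open Cfsg CfsgLib.CharTheory
open scoped ComplexConjugate

universe u
variable {G : Type u} [Group G] [Fintype G] (N : Subgroup G) [N.Normal] [Fintype N]

/-- The second orthogonality relation restricted to the characters over `θ`: it vanishes on pairs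
that are not conjugate modulo `N`. -/
theorem sum_over_mul_conj_eq_zero [Fintype (IrrCharacter G)] (θ : IrrCharacter N)
    [DecidablePred fun χ : IrrCharacter G => classInner (fun n : N => (χ : G → ℂ) n) (θ : N → ℂ) ≠ 0]
    (y b : G) (h : ¬ IsConj (y : G ⧸ N) (b : G ⧸ N)) :
    ∑ χ ∈ Finset.univ.filter (fun χ : IrrCharacter G =>
      classInner (fun n : N => (χ : G → ℂ) n) (θ : N → ℂ) ≠ 0),
        (χ : G → ℂ) y * conj ((χ : G → ℂ) b) = 0 := by
  classical
  let a := CfsgLib.BlockLocal.orbitFun N (θ : N → ℂ)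
  have ha : IsClassFunction G a := CfsgLib.BlockLocal.isClassFunction_orbitFun N (θ : N → ℂ)
  have ha0 : ∀ x ∉ N, a x = 0 := fun x hx => CfsgLib.BlockLocal.orbitFun_eq_zero N (θ : N → ℂ) hx
  let c : ℂ := (Nat.card N : ℂ) *
    (Nat.card {g : G // (θ : N → ℂ) = CfsgLib.Frobenius.conjTwist N g (θ : N → ℂ)} : ℂ) /
      (θ : N → ℂ) 1
  have hc : c ≠ 0 := by
    haveI : Nonempty {g : G // (θ : N → ℂ) = CfsgLib.Frobenius.conjTwist N g (θ : N → ℂ)} :=
      ⟨⟨1, funext fun n => by simp [CfsgLib.Frobenius.conjTwist]⟩⟩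
    exact div_ne_zero (mul_ne_zero (Nat.cast_ne_zero.2 (Nat.card_pos (α := N)).ne')
      (Nat.cast_ne_zero.2 Nat.card_pos.ne')) (apply_one_ne_zero_of_isIrr θ.2)
  have hK : ∀ χ : IrrCharacter G, (∑ x, a x * (χ : G → ℂ) x) / (χ : G → ℂ) 1 =
      if classInner (fun n : N => (χ : G → ℂ) n) (θ : N → ℂ) ≠ 0 then c else 0 := by
    intro χ
    split_ifs with hχ
    · rw [CfsgLib.BlockLocal.sum_mul_div_eq_of_constituent N hχ ha ha0,
        CfsgLib.BlockLocal.sum_orbitFun_mul]
    · obtain ⟨η, hη⟩ := CfsgLib.BlockLocal.exists_constituent N χ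
      have hemp : IsEmpty {g : G // (η : N → ℂ) = CfsgLib.Frobenius.conjTwist N g (θ : N → ℂ)} :=
        ⟨fun ⟨g, hg⟩ => hη (by
          rw [hg, CfsgLib.BlockLocal.classInner_res_conjTwist]; exact not_not.1 hχ)⟩
      rw [CfsgLib.BlockLocal.sum_mul_div_eq_of_constituent N hη ha ha0,
        CfsgLib.BlockLocal.sum_orbitFun_mul, @Nat.card_of_isEmpty _ hemp, Nat.cast_zero, mul_zero, zero_div]
  have key : c * ∑ χ ∈ Finset.univ.filter (fun χ : IrrCharacter G =>
      classInner (fun n : N => (χ : G → ℂ) n) (θ : N → ℂ) ≠ 0),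
        (χ : G → ℂ) y * conj ((χ : G → ℂ) b) =
      ∑ x, a x * ∑ χ : IrrCharacter G, (χ : G → ℂ) (x * y) * conj ((χ : G → ℂ) b) := by
    simp only [Finset.mul_sum, ← mul_assoc]
    rw [Finset.sum_comm, Finset.sum_filter]
    refine Finset.sum_congr rfl fun χ _ => ?_
    rw [← Finset.sum_mul, CfsgLib.BlockLocal.sum_mul_apply_mul χ ha y, hK χ]
    split_ifs <;> simp
  rw [Finset.sum_eq_zero (s := Finset.univ) fun x _ => ?_] at key
  · exact (mul_eq_zero.1 key).resolve_left hc
  · by_cases hx : x ∈ N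
    · rw [sum_mul_conj, if_neg, mul_zero]
      intro hcon
      have hcq : IsConj ((x * y : G) : G ⧸ N) (b : G ⧸ N) :=
        (QuotientGroup.mk' N).map_isConj hcon
      rw [QuotientGroup.mk_mul, (QuotientGroup.eq_one_iff x).2 hx, one_mul] at hcq
      exact h hcq
    · rw [ha0 x hx, zero_mul]

/-- Two extensions of `θ` differ by a linear character trivial on `N`. -/
theorem exists_eq_mul_hom_of_extension {φ χ : G → ℂ} (hφ : IsIrrCharacter G φ)
    (hχ : IsIrrCharacter G χ) {θ : N → ℂ} (hθ : IsIrrCharacter N θ)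
    (hφθ : ∀ n : N, φ n = θ n) (hχθ : classInner (fun n : N => χ n) θ = 1) :
    ∃ ν : G →* ℂˣ, (∀ n : N, ν n = 1) ∧ χ = (fun g => (ν g : ℂ)) * φ := by
  classical
  haveI : Fintype (G ⧸ N) := Fintype.ofFinite _
  haveI : Fintype (IrrCharacter (G ⧸ N)) := Fintype.ofFinite _
  have hpull : ∀ β : IrrCharacter (G ⧸ N),
      IsIrrCharacter G (fun g : G => (β : G ⧸ N → ℂ) (g : G ⧸ N)) := fun β =>
    isIrrCharacter_comp β.2 (f := QuotientGroup.mk' N) (QuotientGroup.mk'_surjective N)
  let F : IrrCharacter (G ⧸ N) → G → ℂ := fun β => (fun g : G => (β : G ⧸ N → ℂ) (g : G ⧸ N)) * φ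
  have hF : ∀ β, IsCharacter G (F β) := fun β =>
    isCharacter_mul (IsIrrCharacter.isCharacter (hpull β)) (IsIrrCharacter.isCharacter hφ)
  choose m hm using fun β => IsCharacter.exists_classInner_eq_nat (hF β) ⟨χ, hχ⟩
  choose d hd0 hd using fun β : IrrCharacter (G ⧸ N) => exists_degree_of_isIrr β.2
  have hsum : ∀ g : G, ∑ β : IrrCharacter (G ⧸ N), (d β : ℂ) * F β g =
      if g ∈ N then (N.index : ℂ) * φ g else 0 := by
    intro g
    have h := sum_degree_mul (G := G ⧸ N) (g : G ⧸ N)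
    simp only [F, Pi.mul_apply, ← mul_assoc, ← Finset.sum_mul]
    simp only [hd] at h
    rw [h, ite_mul, zero_mul]
    simp only [QuotientGroup.eq_one_iff, Subgroup.index_eq_card]
  have h1 : ∑ β : IrrCharacter (G ⧸ N), (d β : ℂ) * classInner (F β) χ = 1 := by
    simp only [← classInner_smul_left, ← classInner_sum_left]
    simp only [classInner, Finset.sum_apply, Pi.smul_apply, smul_eq_mul, hsum, ite_mul, zero_mul]
    rw [← Finset.sum_filter, Finset.sum_subtype (Finset.univ.filter fun g : G => g ∈ N)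
      (p := fun g => g ∈ N) (by simp)]
    have h : classInner θ (fun n : N => χ n) = 1 := by
      rw [classInner_conj_symm, hχθ, map_one]
    rw [← h, classInner]
    simp only [hφθ, mul_assoc, ← Finset.mul_sum]
    rw [← mul_assoc, ← N.index_mul_card, Nat.cast_mul, mul_inv_rev, mul_assoc (_ : ℂ)⁻¹,
      inv_mul_cancel₀ (Nat.cast_ne_zero.2 Subgroup.index_ne_zero_of_finite), mul_one]
  simp only [hm] at h1
  have h1' : ∑ β : IrrCharacter (G ⧸ N), d β * m β = 1 := by exact_mod_cast h1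
  obtain ⟨β, -, hβ⟩ := Finset.exists_ne_zero_of_sum_ne_zero (h1'.symm ▸ one_ne_zero)
  have hle := Finset.single_le_sum (f := fun β => d β * m β) (fun i _ => Nat.zero_le _)
    (Finset.mem_univ β)
  rw [h1'] at hle
  obtain ⟨hdb, hmb⟩ := mul_eq_one.1
    (le_antisymm hle (Nat.one_le_iff_ne_zero.2 hβ))
  have hβ1 : (β : G ⧸ N → ℂ) 1 = 1 := by rw [hd, hdb, Nat.cast_one]
  obtain ⟨μ, hμ⟩ := exists_hom_of_degree_one β.2 hβ1
  let ν : G →* ℂˣ := μ.comp (QuotientGroup.mk' N)
  refine ⟨ν, fun n => ?_, ?_⟩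
  · show μ _ = 1
    rw [show QuotientGroup.mk' N (n : G) = 1 from (QuotientGroup.eq_one_iff _).2 n.2, map_one]
  have e : F β = (fun g => (ν g : ℂ)) * φ := funext fun g => by
    simp only [F, Pi.mul_apply, ν, hμ]; rfl
  have hirr := isIrrCharacter_mul_of_norm hφ
    (IsIrrCharacter.isCharacter (isIrrCharacter_linear ν)) (norm_hom_eq_one ν)
  have hne : classInner (F β) χ ≠ 0 := by rw [hm, hmb, Nat.cast_one]; exact one_ne_zero
  rw [e] at hne
  by_contra hcon
  exact hne (classInner_eq_zero_of_ne hirr hχ (Ne.symm hcon))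

/-- A character over an invariant `θ` that extends, with abelian quotient, restricts to `θ`. -/
theorem res_eq_of_extension_of_comm (hcomm : ∀ a b : G ⧸ N, a * b = b * a) {φ χ : G → ℂ}
    (hφ : IsIrrCharacter G φ) (hχ : IsIrrCharacter G χ) {θ : N → ℂ} (hθ : IsIrrCharacter N θ)
    (hφθ : ∀ n : N, φ n = θ n) (hχθ : classInner (fun n : N => χ n) θ ≠ 0) :
    ∀ n : N, χ n = θ n := by
  classical
  haveI : Fintype (G ⧸ N) := Fintype.ofFinite _
  haveI : Fintype (IrrCharacter (G ⧸ N)) := Fintype.ofFinite _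
  by_contra hcon
  push Not at hcon
  obtain ⟨n₀, hn₀⟩ := hcon
  have hzero : ∀ β : IrrCharacter (G ⧸ N),
      classInner ((fun g : G => (β : G ⧸ N → ℂ) (g : G ⧸ N)) * φ) χ = 0 := by
    intro β
    obtain ⟨μ, hμ⟩ := exists_hom_of_comm hcomm β.2
    let ν : G →* ℂˣ := μ.comp (QuotientGroup.mk' N)
    have hirr := isIrrCharacter_mul_of_norm hφ
      (IsIrrCharacter.isCharacter (isIrrCharacter_linear ν)) (norm_hom_eq_one ν)
    refine classInner_eq_zero_of_ne ?_ hχ fun e => hn₀ ?_
    · convert hirr using 1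
      funext g
      simp [ν, hμ]
    · rw [← e, Pi.mul_apply, hμ, hφθ, (QuotientGroup.eq_one_iff (n₀ : G)).2 n₀.2, map_one,
        Units.val_one, one_mul]
  have hsum : ∀ g : G, ∑ β : IrrCharacter (G ⧸ N), ((β : G ⧸ N → ℂ) 1) *
      (((fun g : G => (β : G ⧸ N → ℂ) (g : G ⧸ N)) * φ) g) =
      if g ∈ N then (N.index : ℂ) * φ g else 0 := by
    intro g
    simp only [Pi.mul_apply, ← mul_assoc, ← Finset.sum_mul]
    rw [sum_degree_mul (G := G ⧸ N) (g : G ⧸ N), ite_mul, zero_mul]
    simp only [QuotientGroup.eq_one_iff, Subgroup.index_eq_card]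
  refine hχθ ?_
  have h1 : ∑ β : IrrCharacter (G ⧸ N), ((β : G ⧸ N → ℂ) 1) *
      classInner ((fun g : G => (β : G ⧸ N → ℂ) (g : G ⧸ N)) * φ) χ = 0 :=
    Finset.sum_eq_zero fun β _ => by rw [hzero β, mul_zero]
  simp only [← classInner_smul_left, ← classInner_sum_left] at h1
  simp only [classInner, Finset.sum_apply, Pi.smul_apply, smul_eq_mul, hsum, ite_mul, zero_mul] at h1
  rw [← Finset.sum_filter, Finset.sum_subtype (Finset.univ.filter fun g : G => g ∈ N)
    (p := fun g => g ∈ N) (by simp)] at h1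
  simp only [hφθ, mul_assoc, ← Finset.mul_sum, mul_eq_zero, inv_eq_zero, Nat.cast_eq_zero] at h1
  rcases h1 with h1 | h1 | h1
  · exact absurd h1 (Nat.card_pos (α := G)).ne'
  · exact absurd h1 Subgroup.index_ne_zero_of_finite
  · rw [classInner_conj_symm, classInner, h1, mul_zero, map_zero]

end CfsgLib.ZerosCodegree

namespace CfsgLib.ZerosCodegree

open Cfsg CfsgLib.CharTheory
open scoped ComplexConjugate

universe v
variable {G : Type v} [Group G] [Fintype G] (N : Subgroup G) [N.Normal] [Fintype N]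

/-- Twists of an extension by distinct linear characters of the quotient are distinct. -/
theorem eq_one_of_mul_eq_self {φ : G → ℂ} (hφ : IsIrrCharacter G φ) {θ : N → ℂ}
    (hθ : IsIrrCharacter N θ) (hφθ : ∀ n : N, φ n = θ n) (ν : G →* ℂˣ) (hν : ∀ n : N, ν n = 1)
    (h : (fun g => (ν g : ℂ)) * φ = φ) : ν = 1 := by
  classical
  by_contra hne
  haveI : Fintype (G ⧸ N) := Fintype.ofFinite _
  haveI : Fintype (IrrCharacter (G ⧸ N)) := Fintype.ofFinite _
  let ν' : (G ⧸ N) →* ℂˣ := QuotientGroup.lift N ν fun n hn => MonoidHom.mem_ker.2 (hν ⟨n, hn⟩)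
  let b₁ : IrrCharacter (G ⧸ N) := trivIrr _
  let b₂ : IrrCharacter (G ⧸ N) := ⟨fun q => (ν' q : ℂ), isIrrCharacter_linear ν'⟩
  have hb : b₁ ≠ b₂ := fun e => hne (MonoidHom.ext fun g => Units.ext
    (congrFun (congrArg Subtype.val e) (g : G ⧸ N)).symm)
  let F : IrrCharacter (G ⧸ N) → G → ℂ := fun β =>
    (fun g : G => (β : G ⧸ N → ℂ) (g : G ⧸ N)) * φ
  have hF : ∀ β, IsCharacter G (F β) := fun β => isCharacter_mul
    (IsIrrCharacter.isCharacter (isIrrCharacter_comp β.2 (f := QuotientGroup.mk' N)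
      (QuotientGroup.mk'_surjective N))) (IsIrrCharacter.isCharacter hφ)
  choose m hm using fun β => IsCharacter.exists_classInner_eq_nat (hF β) ⟨φ, hφ⟩
  choose d hd0 hd using fun β : IrrCharacter (G ⧸ N) => exists_degree_of_isIrr β.2
  have hsum : ∀ g : G, ∑ β : IrrCharacter (G ⧸ N), (d β : ℂ) * F β g =
      if g ∈ N then (N.index : ℂ) * φ g else 0 := by
    intro g
    have h := sum_degree_mul (G := G ⧸ N) (g : G ⧸ N)
    simp only [F, Pi.mul_apply, ← mul_assoc, ← Finset.sum_mul]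
    simp only [hd] at h
    rw [h, ite_mul, zero_mul]
    simp only [QuotientGroup.eq_one_iff, Subgroup.index_eq_card]
  have h1 : ∑ β : IrrCharacter (G ⧸ N), (d β : ℂ) * classInner (F β) φ = 1 := by
    simp only [← classInner_smul_left, ← classInner_sum_left]
    simp only [classInner, Finset.sum_apply, Pi.smul_apply, smul_eq_mul, hsum, ite_mul, zero_mul]
    rw [← Finset.sum_filter, Finset.sum_subtype (Finset.univ.filter fun g : G => g ∈ N)
      (p := fun g => g ∈ N) (by simp)]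
    have h := classInner_self_of_isIrr hθ
    rw [← h, classInner]
    simp only [hφθ, mul_assoc, ← Finset.mul_sum]
    rw [← mul_assoc, ← N.index_mul_card, Nat.cast_mul, mul_inv_rev, mul_assoc (_ : ℂ)⁻¹,
      inv_mul_cancel₀ (Nat.cast_ne_zero.2 Subgroup.index_ne_zero_of_finite), mul_one]
  simp only [hm] at h1
  have h1' : ∑ β : IrrCharacter (G ⧸ N), d β * m β = 1 := by exact_mod_cast h1
  have hval : ∀ β, F β = φ → d β * m β ≠ 0 := fun β hβ => by
    refine mul_ne_zero (hd0 β).ne' fun h0 => ?_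
    have h2 := hm β
    rw [hβ, classInner_self_of_isIrr hφ, h0, Nat.cast_zero] at h2
    exact one_ne_zero h2
  have h2 : F b₁ = φ := funext fun g => by simp [F, b₁, trivIrr_apply]
  have h3 : F b₂ = φ := h
  have hle := Finset.sum_le_sum_of_subset (f := fun β => d β * m β)
    (Finset.subset_univ ({b₁, b₂} : Finset (IrrCharacter (G ⧸ N))))
  rw [h1', Finset.sum_pair hb] at hle
  have := hval b₁ h2
  have := hval b₂ h3
  omega

end CfsgLib.ZerosCodegree
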