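import Cfsg.Agent.Lib.ZerosCodegree.GaloisTwist
import Cfsg.Agent.Lib.ZerosCodegree.CharsOver
import Cfsg.Agent.Lib.RealChar.Extension
import Mathlib.LinearAlgebra.Determinant

/-!
An invariant character of degree prime to `p` of a normal subgroup with `p`-power index and without
`p`-quotient has an extension fixed by the `p`-power twists fixing it.
-/

set_option autoImplicit false
set_option linter.style.haveILetI false
set_option linter.unusedSectionVars false

namespace CfsgLib.ZerosCodegree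

open Cfsg CfsgLib.CharTheory

universe u

/-- The determinant character of a representation. -/
noncomputable def detHom {G : Type u} [Group G] {d : ℕ} (ρ : Representation ℂ G (Fin d → ℂ)) :
    G →* ℂˣ :=
  ((LinearMap.det : Module.End ℂ (Fin d → ℂ) →* ℂ).comp ρ).toHomUnits

theorem detHom_apply {G : Type u} [Group G] {d : ℕ} (ρ : Representation ℂ G (Fin d → ℂ)) (g : G) :
    (detHom ρ g : ℂ) = LinearMap.det (ρ g) := rfl

theorem det_eq_of_character_eq {G : Type u} [Group G] [Finite G] {d : ℕ}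
    (ρ σ : Representation ℂ G (Fin d → ℂ)) (h : ρ.character = σ.character) (g : G) :
    LinearMap.det (ρ g) = LinearMap.det (σ g) := by
  obtain ⟨e⟩ := nonempty_equiv_of_character_eq ρ σ h
  have h1 : σ g = (e.toLinearEquiv : (Fin d → ℂ) →ₗ[ℂ] (Fin d → ℂ)) ∘ₗ ρ g ∘ₗ
      (e.toLinearEquiv.symm : (Fin d → ℂ) →ₗ[ℂ] (Fin d → ℂ)) := by
    apply LinearMap.ext
    intro v
    have h2 : e.toLinearEquiv (ρ g (e.toLinearEquiv.symm v)) =
        σ g (e.toLinearEquiv (e.toLinearEquiv.symm v)) :=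
      LinearMap.congr_fun (e.toIntertwiningMap.isIntertwining' g) (e.toLinearEquiv.symm v)
    rw [LinearEquiv.apply_symm_apply] at h2
    exact h2.symm
  rw [h1, LinearMap.det_conj]

/-- Galois conjugation of a representation acts on the determinant. -/
theorem exists_rep_ringAut {G : Type u} [Group G] [Finite G] {d : ℕ}
    (ρ : Representation ℂ G (Fin d → ℂ)) (τ : ℂ ≃+* ℂ) :
    ∃ σ : Representation ℂ G (Fin d → ℂ), σ.character = (fun g => τ (ρ.character g)) ∧
      ∀ g, LinearMap.det (σ g) = τ (LinearMap.det (ρ g)) := by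
  let M : G →* Matrix (Fin d) (Fin d) ℂ :=
    { toFun := fun g => τ.toRingHom.mapMatrix (LinearMap.toMatrixAlgEquiv' (ρ g))
      map_one' := by rw [map_one, map_one, map_one]
      map_mul' := fun a b => by rw [map_mul, map_mul, map_mul] }
  refine ⟨(Matrix.toLinAlgEquiv' : Matrix (Fin d) (Fin d) ℂ ≃ₐ[ℂ] _).toMonoidHom.comp M,
    funext fun g => ?_, fun g => ?_⟩
  · show LinearMap.trace ℂ _ (Matrix.toLin' (M g)) = τ (LinearMap.trace ℂ _ (ρ g))
    rw [Matrix.trace_toLin'_eq]
    rw [LinearMap.trace_eq_matrix_trace ℂ (Pi.basisFun ℂ (Fin d)) (ρ g), LinearMap.toMatrix_eq_toMatrix']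
    exact (AddMonoidHom.map_trace τ.toRingHom.toAddMonoidHom _).symm
  · show LinearMap.det (Matrix.toLin' (M g)) = _
    rw [LinearMap.det_toLin']
    show (τ.toRingHom.mapMatrix _).det = _
    rw [← RingHom.map_det]
    exact congrArg τ (LinearMap.det_toMatrix' (f := ρ g))

section

variable {G : Type u} [Group G] [Fintype G] {p q k d : ℕ} [Fact p.Prime] (N : Subgroup G)
  [hN : N.Normal] [Fintype N]

/-- Extension by coprimality of the degree and of the order of the determinant to the index. -/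
theorem exists_extension_of_det {a : ℕ} (hidx : N.index = p ^ a) (hd : ¬ p ∣ d) {m : ℕ}
    (hm : ¬ p ∣ m) (ρ : Representation ℂ N (Fin d → ℂ)) [ρ.IsIrreducible]
    (hdet : ∀ n : N, detHom ρ n ^ m = 1)
    (hinv : ∀ (g : G) (n : N), ρ.character (MulAut.conjNormal g n) = ρ.character n) :
    ∃ σ : Representation ℂ G (Fin d → ℂ), ∀ n : N, σ n = ρ n := by
  let ρ₁ : Representation ℂ N (Fin d → ℂ) := ρ
  obtain ⟨φ, hφ1, hφ2⟩ := CfsgLib.RealChar.exists_hom_pow_index hinv N le_rfl ρ₁ (fun n => rfl)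
  let δ : CfsgLib.RealChar.interGroup N ρ →* ℂˣ :=
    ((Units.map (LinearMap.det : Module.End ℂ (Fin d → ℂ) →* ℂ)).comp
      (CfsgLib.RealChar.interSnd N ρ)) ^ m
  have hδ1 : ∀ n, δ (CfsgLib.RealChar.interIncl N ρ n) = 1 := fun n => by
    rw [← hdet n]
    show (_ : ℂˣ) ^ m = _
    congr 1
  have hδ2 : ∀ z, δ (CfsgLib.RealChar.interScalar N ρ z) = z ^ (d * m) := fun z => by
    rw [pow_mul]
    show (_ : ℂˣ) ^ m = _
    congr 1
    refine Units.ext ?_
    show LinearMap.det (algebraMap ℂ (Module.End ℂ (Fin d → ℂ)) (z : ℂ)) = _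
    rw [Algebra.algebraMap_eq_smul_one, LinearMap.det_smul, map_one, mul_one,
      Module.finrank_fin_fun, Units.val_pow_eq_pow_val]
  have hcop : IsCoprime ((p : ℤ) ^ a) ((d * m : ℕ) : ℤ) := by
    rw [← Nat.cast_pow, Int.isCoprime_iff_nat_coprime]
    exact Nat.Coprime.pow_left a ((Fact.out : p.Prime).coprime_iff_not_dvd.2
      ((Fact.out : p.Prime).not_dvd_mul hd hm))
  obtain ⟨x, y, hxy⟩ := hcop
  refine CfsgLib.RealChar.exists_extension_of_hom hinv (φ ^ x * δ ^ y)
    (fun n => by simp [hφ1, hδ1]) (fun z => ?_)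
  rw [MonoidHom.mul_apply, MonoidHom.zpow_apply, MonoidHom.zpow_apply, hφ2, hδ2, hidx,
    ← zpow_natCast, ← zpow_natCast, ← zpow_mul, ← zpow_mul, ← zpow_add]
  have : ((p ^ a : ℕ) : ℤ) * x + ((d * m : ℕ) : ℤ) * y = 1 := by
    rw [← hxy]; push_cast; ring
  rw [this, zpow_one]

/-- The canonical fixed extension. -/
theorem exists_fixed_extension_pgroup {a : ℕ} (hidx : N.index = p ^ a) (ht : IsPTwist p q k G)
    (hq : q ≡ 1 [MOD p])
    (hlin : ∀ (l : N →* ℂˣ) (n : N), (∃ j : ℕ, orderOf n = p ^ j) → l n = 1)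
    (θ : IrrCharacter N) (hd : ¬ p ∣ charDegree (θ : N → ℂ))
    (hθ : powTwist k (θ : N → ℂ) = θ)
    (hinv : ∀ g : G, CfsgLib.Clifford.conjChar N (θ : N → ℂ) g = θ) :
    ∃ χ : G → ℂ, IsIrrCharacter G χ ∧ powTwist k χ = χ ∧ ∀ n : N, χ n = (θ : N → ℂ) n := by
  classical
  have hp : p.Prime := Fact.out
  obtain ⟨θ, d, ρ, hρ, rfl⟩ := θ
  haveI := hρ
  have hd' : ¬ p ∣ d := by
    intro h
    apply hd
    rw [charDegree_eq (n := d) (show ρ.character 1 = (d : ℂ) by
      rw [Representation.char_one, Module.finrank_fin_fun])]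
    exact h
  -- the group order
  set s := (Nat.card G).factorization p with hs
  set m := Nat.card G / p ^ s with hmdef
  have hGeq : p ^ s * m = Nat.card G := Nat.ordProj_mul_ordCompl_eq_self _ _
  have hpm : ¬ p ∣ m := Nat.not_dvd_ordCompl hp Nat.card_pos.ne'
  have hcop : (p ^ s).Coprime m := (hp.coprime_iff_not_dvd.2 hpm).pow_left s
  have hregm : ∀ g : G, ¬ p ∣ orderOf g → g ^ m = 1 := fun g hg => orderOf_dvd_iff_pow_eq_one.1
    (((hp.coprime_iff_not_dvd.2 hg).symm.pow_right s).dvd_of_dvd_mul_left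
      (hGeq ▸ orderOf_dvd_natCard g))
  have hNreg : ∀ (l : N →* ℂˣ) (n : N), l n ^ m = 1 := by
    intro l n
    obtain ⟨x, y, hxy, -, hx, hy⟩ := CfsgLib.Blocks.exists_isPPart p n
    rw [← hxy, map_mul, hlin l x hx, one_mul, ← map_pow,
      show y ^ m = 1 from Subtype.ext (by
        rw [SubgroupClass.coe_pow]; exact hregm _ (by rwa [Subgroup.orderOf_coe])), map_one]
  have hinv' : ∀ (g : G) (n : N), ρ.character (MulAut.conjNormal g n) = ρ.character n := fun g n => by
    have := congrFun (hinv g) n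
    rwa [CfsgLib.Clifford.conjChar_eq_comp] at this
  obtain ⟨σ, hσ⟩ := exists_extension_of_det N hidx hd' hpm ρ (hNreg _) hinv'
  obtain ⟨hχ₀, hres⟩ := CfsgLib.RealChar.isIrrCharacter_of_extension ρ σ hσ
  have hk := ht.coprime hq
  -- twist
  have h1 : classInner (fun n : N => powTwist k σ.character n) ρ.character = 1 := by
    rw [show (fun n : N => powTwist k σ.character n) = ρ.character from funext fun n => by
      rw [powTwist_apply, ← SubgroupClass.coe_pow, hres]; exact congrFun hθ n]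
    exact classInner_self_of_isIrr (CfsgLib.CharTheory.isIrrCharacter_character ρ)
  obtain ⟨μ, hμN, hμ⟩ := exists_eq_mul_hom_of_extension N hχ₀ (isIrrCharacter_powTwist hk hχ₀)
    (CfsgLib.CharTheory.isIrrCharacter_character ρ) hres h1
  obtain ⟨τ, hτ⟩ := exists_galois_pow_apply (G := G) hk
  obtain ⟨στ, hστ, hdetτ⟩ := exists_rep_ringAut σ τ
  let μσ : Representation ℂ G (Fin d → ℂ) :=
    { toFun := fun g => (μ g : ℂ) • σ g
      map_one' := by simp
      map_mul' := fun a b => by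
        rw [map_mul, map_mul, Units.val_mul, smul_mul_smul_comm] }
  have hchar : στ.character = μσ.character := by
    rw [hστ]
    funext g
    rw [hτ _ (isCharacter_character σ) g]
    have h := congrFun hμ g
    rw [powTwist_apply] at h
    rw [h]
    show _ = LinearMap.trace ℂ _ ((μ g : ℂ) • σ g)
    rw [map_smul, smul_eq_mul]
    rfl
  let δ := detHom σ
  have hδk : ∀ g : G, δ (g ^ k) = μ g ^ d * δ g := fun g => by
    refine Units.ext ?_
    have h := det_eq_of_character_eq στ μσ hchar g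
    rw [hdetτ] at h
    have h2 := hτ _ (IsIrrCharacter.isCharacter (isIrrCharacter_linear δ)) g
    change τ (LinearMap.det (σ g)) = (δ (g ^ k) : ℂ) at h2
    rw [← h2, h]
    show LinearMap.det ((μ g : ℂ) • σ g) = _
    rw [LinearMap.det_smul, Module.finrank_fin_fun, Units.val_mul, Units.val_pow_eq_pow_val]
    rfl
  obtain ⟨e, he1, he2⟩ := Nat.chineseRemainder hcop 1 0
  obtain ⟨d', hd'1⟩ : ∃ d', d * d' ≡ 1 [MOD p ^ s] := by
    obtain ⟨d', hd'1, hd'2⟩ := Nat.chineseRemainder (((hp.coprime_iff_not_dvd.2 hd').pow_left s)) 1 0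
    obtain ⟨c, rfl⟩ := Nat.modEq_zero_iff_dvd.1 hd'2
    exact ⟨c, hd'1⟩
  let ν : G →* ℂˣ := ((δ ^ e) ^ d')⁻¹
  have hνN : ∀ n : N, ν n = 1 := fun n => by
    show ((δ n ^ e) ^ d')⁻¹ = 1
    obtain ⟨c, hc⟩ := Nat.modEq_zero_iff_dvd.1 he2
    rw [hc, pow_mul (δ n), show δ n ^ m = 1 from hNreg (δ.comp N.subtype) n, one_pow, one_pow, inv_one]
  have hμs : ∀ g : G, μ g ^ p ^ s = 1 := fun g => by
    have has : a ≤ s := (hp.pow_dvd_iff_le_factorization Nat.card_pos.ne').1
      (hidx ▸ N.index_dvd_card)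
    have h : μ g ^ p ^ a = 1 := by
      rw [← map_pow]
      exact hμN ⟨_, hidx ▸ Subgroup.pow_index_mem N g⟩
    rw [← Nat.add_sub_cancel' has, pow_add, pow_mul, h, one_pow]
  have hνk : ∀ g : G, ν (g ^ k) * μ g = ν g := fun g => by
    show ((δ (g ^ k) ^ e) ^ d')⁻¹ * μ g = ((δ g ^ e) ^ d')⁻¹
    have hpow : ((μ g ^ d) ^ e) ^ d' = μ g := by
      rw [← pow_mul, ← pow_mul]
      have hmod : d * e * d' ≡ 1 [MOD orderOf (μ g)] := by
        refine Nat.ModEq.of_dvd (orderOf_dvd_of_pow_eq_one (hμs g)) ?_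
        have h := hd'1.mul he1
        rwa [one_mul, mul_right_comm] at h
      rw [← mul_assoc, pow_eq_pow_iff_modEq.2 hmod, pow_one]
    rw [hδk, mul_pow, mul_pow, hpow, mul_inv, mul_comm, mul_inv_cancel_left]
  refine ⟨(fun g => (ν g : ℂ)) * σ.character, isIrrCharacter_mul_of_norm hχ₀
    (IsIrrCharacter.isCharacter (isIrrCharacter_linear ν)) (norm_hom_eq_one ν), funext fun g => ?_,
    fun n => ?_⟩
  · rw [powTwist_apply, Pi.mul_apply, Pi.mul_apply,
      show σ.character (g ^ k) = (μ g : ℂ) * σ.character g from congrFun hμ g, ← mul_assoc,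
      ← Units.val_mul, hνk]
  · rw [Pi.mul_apply, hνN n, Units.val_one, one_mul, hres]

end

end CfsgLib.ZerosCodegree
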