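import Cfsg.Agent.Lib.ZerosCodegree.CharsOver
import Cfsg.Agent.Lib.Clifford.Eigen
import Cfsg.Agent.Lib.RealChar.Extension
import Mathlib.GroupTheory.FiniteAbelian.Duality

/-!
The norm of an extension on a coset, and the irreducibility of its twists by characters of the quotient.
-/

set_option autoImplicit false
set_option linter.style.haveILetI false

namespace CfsgLib.ZerosCodegree

open Cfsg CfsgLib.CharTheory
open scoped ComplexConjugate

universe u

theorem sum_coset_mul_conj_of_cyclic {G : Type u} [Group G] [Fintype G] (N : Subgroup G) [N.Normal]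
    [Fintype N] [DecidableEq (G ⧸ N)] (hcyc : IsCyclic (G ⧸ N)) {φ : G → ℂ} (hφ : IsIrrCharacter G φ)
    {θ : N → ℂ} (hθ : IsIrrCharacter N θ) (hres : ∀ n : N, φ n = θ n) (q : G ⧸ N) :
    ∑ g ∈ Finset.univ.filter (fun g : G => (g : G ⧸ N) = q), φ g * conj (φ g) =
      (Nat.card N : ℂ) := by
  classical
  letI : CommGroup (G ⧸ N) := IsCyclic.commGroup
  haveI : Fintype ((G ⧸ N) →* ℂˣ) := Fintype.ofFinite _
  haveI : Fintype (G ⧸ N) := Fintype.ofFinite _
  have hsum : ∀ b : G ⧸ N, ∑ l : (G ⧸ N) →* ℂˣ, (l b : ℂ) =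
      if b = 1 then (N.index : ℂ) else 0 := by
    intro b
    split_ifs with hb
    · subst hb
      simp only [map_one, Units.val_one, Finset.sum_const, Finset.card_univ, nsmul_one]
      rw [← Nat.card_eq_fintype_card, CommGroup.card_monoidHom_of_hasEnoughRootsOfUnity,
        Subgroup.index_eq_card]
    · have hcomm : commutator (G ⧸ N) = ⊥ :=
        (commutator_eq_bot_iff_center_eq_top (G ⧸ N)).2 CommGroup.center_eq_top
      refine Eq.trans ?_ ((CfsgLib.Clifford.sum_homUnits_apply' b).trans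
        (if_neg (by rw [hcomm, Subgroup.mem_bot]; exact hb)))
      exact Finset.sum_congr (by ext; simp) fun _ _ => rfl
  have horth : ∀ l : (G ⧸ N) →* ℂˣ, ∑ g : G, (l (g : G ⧸ N) : ℂ) * (φ g * conj (φ g)) =
      if l = 1 then (Nat.card G : ℂ) else 0 := by
    intro l
    have hirr : IsIrrCharacter G ((fun g : G => (l (g : G ⧸ N) : ℂ)) * φ) :=
      isIrrCharacter_mul_of_norm hφ
        (IsIrrCharacter.isCharacter (isIrrCharacter_linear (l.comp (QuotientGroup.mk' N))))
        fun g => norm_hom_eq_one l _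
    have h : classInner ((fun g : G => (l (g : G ⧸ N) : ℂ)) * φ) φ = if l = 1 then 1 else 0 := by
      split_ifs with hl
      · subst hl
        rw [show (fun g : G => (((1 : (G ⧸ N) →* ℂˣ) (g : G ⧸ N) : ℂˣ) : ℂ)) * φ = φ from
          funext fun g => by simp, classInner_self_of_isIrr hφ]
      · refine classInner_eq_zero_of_ne hirr hφ fun e => hl ?_
        have h1 := eq_one_of_mul_eq_self N hφ hθ hres (l.comp (QuotientGroup.mk' N))
          (fun n => by
            show l (QuotientGroup.mk' N (n : G)) = 1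
            rw [show QuotientGroup.mk' N (n : G) = 1 from (QuotientGroup.eq_one_iff _).2 n.2, map_one]) e
        exact MonoidHom.ext fun b => QuotientGroup.induction_on b fun g => DFunLike.congr_fun h1 g
    rw [classInner, inv_mul_eq_iff_eq_mul₀ (Nat.cast_ne_zero.2 (Nat.card_pos (α := G)).ne')] at h
    rw [Finset.sum_congr rfl fun (g : G) _ => show (l (g : G ⧸ N) : ℂ) * (φ g * conj (φ g)) =
      ((fun g : G => (l (g : G ⧸ N) : ℂ)) * φ) g * conj (φ g) by rw [Pi.mul_apply, mul_assoc], h,
      mul_ite, mul_one, mul_zero]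
  have key : ∑ l : (G ⧸ N) →* ℂˣ, (l q⁻¹ : ℂ) *
      ∑ g : G, (l (g : G ⧸ N) : ℂ) * (φ g * conj (φ g)) =
      (N.index : ℂ) * ∑ g ∈ Finset.univ.filter (fun g : G => (g : G ⧸ N) = q), φ g * conj (φ g) := by
    simp only [Finset.mul_sum, ← mul_assoc, ← Units.val_mul, ← map_mul]
    rw [Finset.sum_comm]
    simp only [← Finset.sum_mul, hsum, inv_mul_eq_one]
    rw [Finset.sum_filter]
    refine Finset.sum_congr rfl fun g _ => ?_
    by_cases hg : (g : G ⧸ N) = q
    · simp [hg]
    · simp [hg, Ne.symm hg]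
  simp only [horth, mul_ite, mul_zero] at key
  rw [Finset.sum_ite_eq' Finset.univ (1 : (G ⧸ N) →* ℂˣ), if_pos (Finset.mem_univ _),
    MonoidHom.one_apply, Units.val_one, one_mul, ← N.index_mul_card, Nat.cast_mul] at key
  exact (mul_left_cancel₀ (Nat.cast_ne_zero.2 Subgroup.index_ne_zero_of_finite) key).symm

/-- An extension has norm one on each coset. -/
theorem sum_coset_mul_conj {G : Type u} [Group G] [Fintype G] (N : Subgroup G) [N.Normal]
    [Fintype N] [DecidableEq (G ⧸ N)] {φ : G → ℂ} (hφ : IsIrrCharacter G φ) {θ : N → ℂ}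
    (hθ : IsIrrCharacter N θ) (hres : ∀ n : N, φ n = θ n) (q : G ⧸ N) :
    ∑ g ∈ Finset.univ.filter (fun g : G => (g : G ⧸ N) = q), φ g * conj (φ g) =
      (Nat.card N : ℂ) := by
  classical
  obtain ⟨d, σ, hσ, rfl⟩ := hφ
  let U : Subgroup G := (Subgroup.zpowers q).comap (QuotientGroup.mk' N)
  haveI : Fintype U := Fintype.ofFinite U
  have hNU : N ≤ U := fun g hg => by
    show QuotientGroup.mk' N g ∈ Subgroup.zpowers q
    rw [QuotientGroup.mk'_apply, (QuotientGroup.eq_one_iff g).2 hg]; exact one_mem _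
  let N' : Subgroup U := N.subgroupOf U
  haveI : Fintype N' := Fintype.ofFinite _
  let ι : N' ≃* N := Subgroup.subgroupOfEquivOfLe hNU
  obtain ⟨x, rfl⟩ := QuotientGroup.mk_surjective q
  let x' : U := ⟨x, Subgroup.mem_zpowers _⟩
  let π : U →* Subgroup.zpowers (x : G ⧸ N) := (QuotientGroup.mk' N).subgroupComap _
  have hπ : π.ker = N' := Subgroup.ext fun u => by
    show π u = 1 ↔ (u : G) ∈ N
    rw [← QuotientGroup.eq_one_iff, Subtype.ext_iff]; rfl
  have hcyc : IsCyclic (U ⧸ N') :=
    isCyclic_of_injective ((QuotientGroup.kerLift π).comp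
      (QuotientGroup.quotientMulEquivOfEq hπ.symm).toMonoidHom)
      ((QuotientGroup.kerLift_injective π).comp (MulEquiv.injective _))
  have hφU : IsIrrCharacter U (fun u => σ.character u) := by
    obtain ⟨e, τ, hτ, hτθ⟩ := isIrrCharacter_comp_mulEquiv hθ ι
    let ρ' : Representation ℂ N' (Fin d → ℂ) := σ.comp (U.subtype.comp N'.subtype)
    have h : τ.character = ρ'.character := hτθ.trans (funext fun n => (hres (ι n)).symm)
    obtain ⟨E⟩ := nonempty_equiv_of_character_eq τ ρ' h
    haveI := hτ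
    haveI : ρ'.IsIrreducible := isIrreducible_of_equiv E
    let σU : Representation ℂ U (Fin d → ℂ) := σ.comp U.subtype
    exact ⟨d, σU, CfsgLib.RealChar.isIrreducible_of_restrict ρ' σU fun _ => rfl, rfl⟩
  have h := sum_coset_mul_conj_of_cyclic N' hcyc hφU (isIrrCharacter_comp_mulEquiv hθ ι)
    (fun n => hres (ι n)) (x' : U ⧸ N')
  rw [Nat.card_congr ι.toEquiv] at h
  rw [← h]
  refine (Finset.sum_bij (fun (u : U) _ => (u : G)) (fun u hu => ?_)
    (fun a _ b _ hab => Subtype.ext hab) (fun g hg => ?_) fun u _ => rfl).symm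
  · simp only [Finset.mem_filter, Finset.mem_univ, true_and, QuotientGroup.eq] at hu ⊢
    exact hu
  · simp only [Finset.mem_filter, Finset.mem_univ, true_and] at hg
    refine ⟨⟨g, show QuotientGroup.mk' N g ∈ Subgroup.zpowers (x : G ⧸ N) by
      rw [QuotientGroup.mk'_apply, hg]; exact Subgroup.mem_zpowers _⟩, ?_, rfl⟩
    simp only [Finset.mem_filter, Finset.mem_univ, true_and, QuotientGroup.eq] at hg ⊢
    exact hg

/-- Twists of an extension by irreducible characters of the quotient are irreducible. -/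
theorem isIrrCharacter_mul_of_extension {G : Type u} [Group G] [Fintype G] (N : Subgroup G)
    [N.Normal] [Fintype N] {φ : G → ℂ} (hφ : IsIrrCharacter G φ) {θ : N → ℂ}
    (hθ : IsIrrCharacter N θ) (hres : ∀ n : N, φ n = θ n) (β : IrrCharacter (G ⧸ N)) :
    IsIrrCharacter G ((fun g : G => (β : G ⧸ N → ℂ) (g : G ⧸ N)) * φ) := by
  classical
  haveI : Fintype (G ⧸ N) := Fintype.ofFinite _
  refine (isIrrCharacter_iff_norm_one (isCharacter_mul (IsIrrCharacter.isCharacter
    (isIrrCharacter_comp β.2 (f := QuotientGroup.mk' N) (QuotientGroup.mk'_surjective N)))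
    (IsIrrCharacter.isCharacter hφ))).2 ?_
  have hβ := classInner_self_of_isIrr β.2
  rw [classInner, inv_mul_eq_iff_eq_mul₀ (Nat.cast_ne_zero.2 (Nat.card_pos (α := G ⧸ N)).ne'),
    mul_one] at hβ
  rw [classInner, ← Finset.sum_fiberwise Finset.univ (fun g : G => (g : G ⧸ N))]
  rw [Finset.sum_congr rfl (g := fun q : G ⧸ N =>
    ((β : G ⧸ N → ℂ) q * conj ((β : G ⧸ N → ℂ) q)) * (Nat.card N : ℂ)) fun q _ => ?_]
  · rw [← Finset.sum_mul, hβ, ← Nat.cast_mul, ← Subgroup.index_eq_card, N.index_mul_card,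
      inv_mul_cancel₀ (Nat.cast_ne_zero.2 (Nat.card_pos (α := G)).ne')]
  · rw [← sum_coset_mul_conj N hφ hθ hres q, Finset.mul_sum]
    refine Finset.sum_congr rfl fun g hg => ?_
    simp only [Pi.mul_apply, map_mul, QuotientGroup.mk'_apply, (Finset.mem_filter.1 hg).2]
    ring

end CfsgLib.ZerosCodegree
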