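import Cfsg.Agent.Lib.ZerosCodegree.BlockTools
import Mathlib.GroupTheory.Perm.Cycle.Type

/-!
The power map that raises `p`-elements to the `q`th power and fixes `p'`-elements, with `q ≡ 1`
modulo `p`: the automorphism of the character values fixing `p'`-roots of unity.
-/

set_option autoImplicit false
set_option linter.style.haveILetI false

namespace CfsgLib.ZerosCodegree

open Cfsg CfsgLib.CharTheory CfsgLib.Blocks

universe u
variable {G : Type u} [Group G] [Finite G] {p q k : ℕ}

/-- `k` acts as the `q`th power on `p`-elements and trivially on `p'`-elements. -/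
def IsPTwist (p q k : ℕ) (G : Type u) [Group G] : Prop :=
  (∀ g : G, (∃ j : ℕ, orderOf g = p ^ j) → g ^ k = g ^ q) ∧
    ∀ g : G, ¬ p ∣ orderOf g → g ^ k = g

theorem IsPTwist.of_subgroup {H : Subgroup G} (h : IsPTwist p q k G) : IsPTwist p q k H :=
  ⟨fun g hg => Subtype.ext (by
      rw [SubgroupClass.coe_pow, SubgroupClass.coe_pow]
      exact h.1 g (by rwa [Subgroup.orderOf_coe])),
    fun g hg => Subtype.ext (by
      rw [SubgroupClass.coe_pow]
      exact h.2 g (by rwa [Subgroup.orderOf_coe]))⟩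

theorem pow_prime_pow_modEq_one {p q : ℕ} (hq : q ≡ 1 [MOD p]) (s : ℕ) :
    q ^ p ^ s ≡ 1 [MOD p ^ (s + 1)] := by
  have h : (p : ℤ) ∣ (q : ℤ) - 1 := by
    have := (Int.natCast_modEq_iff.2 hq).symm.dvd
    exact_mod_cast this
  have h2 := dvd_sub_pow_of_dvd_sub h s
  rw [one_pow] at h2
  refine Int.natCast_modEq_iff.1 (Int.ModEq.symm (Int.modEq_of_dvd ?_))
  exact_mod_cast h2

theorem IsPTwist.pow_iterate [Fact p.Prime] (h : IsPTwist p q k G) (hq : q ≡ 1 [MOD p]) (g : G) :
    g ^ k ^ p ^ (Nat.card G).factorization p = g := by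
  have hp : p.Prime := Fact.out
  set s := (Nat.card G).factorization p
  obtain ⟨a, b, hab, hc, ⟨j, hj⟩, hb⟩ := exists_isPPart p g
  have ha : ∀ (n j : ℕ) (a : G), orderOf a = p ^ j → a ^ k ^ n = a ^ q ^ n := by
    intro n
    induction n with
    | zero => intro j a _; rw [pow_zero, pow_zero]
    | succ n ih =>
      intro j a ha
      obtain ⟨i, -, hi⟩ := (Nat.dvd_prime_pow hp).1 (ha ▸ orderOf_pow_dvd q : orderOf (a ^ q) ∣ p ^ j)
      rw [pow_succ', pow_mul, h.1 a ⟨j, ha⟩, ih i _ hi, ← pow_mul, ← pow_succ']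
  have hb' : ∀ n, b ^ k ^ n = b := by
    intro n
    induction n with
    | zero => rw [pow_zero, pow_one]
    | succ n ih => rw [pow_succ', pow_mul, h.2 b hb, ih]
  have hjs : j ≤ s :=
    (hp.pow_dvd_iff_le_factorization Nat.card_pos.ne').1 (hj ▸ orderOf_dvd_natCard a)
  have hmod : q ^ p ^ s ≡ 1 [MOD orderOf a] :=
    (pow_prime_pow_modEq_one hq s).of_dvd (hj ▸ pow_dvd_pow p (hjs.trans s.le_succ))
  rw [← hab, hc.mul_pow, hb', ha _ j a hj, pow_eq_pow_iff_modEq.2 hmod, pow_one]

theorem IsPTwist.coprime [Fact p.Prime] (h : IsPTwist p q k G) (hq : q ≡ 1 [MOD p]) :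
    k.Coprime (Nat.card G) := by
  refine Nat.coprime_of_dvd fun r hr hrk hrG => ?_
  haveI : Fact r.Prime := ⟨hr⟩
  obtain ⟨g, hg⟩ := exists_prime_orderOf_dvd_card' r hrG
  have h1 : g ^ k = 1 := orderOf_dvd_iff_pow_eq_one.1 (hg ▸ hrk)
  have h2 := h.pow_iterate hq g
  obtain ⟨e, he⟩ : ∃ e, p ^ (Nat.card G).factorization p = e + 1 :=
    ⟨_, (Nat.sub_add_cancel (pow_pos (Fact.out : p.Prime).pos _)).symm⟩
  rw [he, pow_succ', pow_mul, h1, one_pow] at h2
  rw [← h2, orderOf_one] at hg
  exact hr.ne_one hg.symm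

theorem IsPTwist.powTwist_iterate [Fact p.Prime] (h : IsPTwist p q k G) (hq : q ≡ 1 [MOD p])
    (f : G → ℂ) : (powTwist k)^[p ^ (Nat.card G).factorization p] f = f := by
  rw [iterate_powTwist]
  exact funext fun g => by rw [powTwist_apply, h.pow_iterate hq g]

/-- Linear characters with values of order prime to `p` are fixed. -/
theorem IsPTwist.hom_pow_eq [Fact p.Prime] (h : IsPTwist p q k G) (l : G →* ℂˣ)
    (hl : ∀ g : G, (∃ j : ℕ, orderOf g = p ^ j) → l g = 1) (g : G) : l (g ^ k) = l g := by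
  obtain ⟨a, b, hab, hc, ha, hb⟩ := exists_isPPart p g
  rw [← hab, hc.mul_pow, h.2 b hb, h.1 a ha, map_mul, map_mul, map_pow, hl a ha, one_pow]

omit [Finite G] in
/-- A family of functions permuted with `p`-power order has as many fixed members as members,
modulo `p`. -/
theorem card_fixed_modEq {α : Type*} [Finite α] [Fact p.Prime] (f : α → α) (s : ℕ)
    (hf : ∀ a, f^[p ^ s] a = a) :
    Nat.card {a // f a = a} ≡ Nat.card α [MOD p] := by
  classical
  haveI : Fintype α := Fintype.ofFinite α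
  have hpos : 0 < p ^ s := pow_pos (Fact.out : p.Prime).pos s
  have hinj : Function.Injective f := fun a b h => by
    rw [← hf a, ← hf b, ← Nat.sub_add_cancel hpos, Function.iterate_succ_apply,
      Function.iterate_succ_apply, h]
  let σ : Equiv.Perm α := Equiv.ofBijective f (Finite.injective_iff_bijective.1 hinj)
  have hσ : σ ^ p ^ s = 1 := Equiv.ext fun a => by
    rw [Equiv.Perm.coe_pow]; exact hf a
  have h := Equiv.Perm.card_compl_support_modEq hσ
  rw [Nat.card_eq_fintype_card, Nat.card_eq_fintype_card, Fintype.card_subtype]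
  convert h using 2
  ext a
  simp [σ]

/-- The members of the principal block of degree prime to `p` fixed by the twist are as many as all
members of degree prime to `p`, modulo `p`. -/
theorem IsPTwist.card_fixed_principalBlock_modEq [Fact p.Prime] (h : IsPTwist p q k G)
    (hq : q ≡ 1 [MOD p]) (M : Ideal AlgInt) (P : ℕ → Prop) :
    Nat.card {χ : IrrCharacter G // χ ∈ principalBlock M G ∧ P (charDegree (χ : G → ℂ)) ∧
        ∀ g : G, (χ : G → ℂ) (g ^ k) = (χ : G → ℂ) g} ≡
      Nat.card {χ : IrrCharacter G // χ ∈ principalBlock M G ∧ P (charDegree (χ : G → ℂ))} [MOD p] := by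
  have hk := h.coprime hq
  let f : {χ : IrrCharacter G // χ ∈ principalBlock M G ∧ P (charDegree (χ : G → ℂ))} →
      {χ : IrrCharacter G // χ ∈ principalBlock M G ∧ P (charDegree (χ : G → ℂ))} := fun χ =>
    ⟨⟨powTwist k (χ.1 : G → ℂ), isIrrCharacter_powTwist hk χ.1.2⟩,
      powTwist_mem_principalBlock hk rfl χ.2.1, by rw [charDegree_powTwist]; exact χ.2.2⟩
  have hiter : ∀ n χ, (((f^[n] χ).1 : IrrCharacter G) : G → ℂ) = (powTwist k)^[n] (χ.1 : G → ℂ) := by
    intro n χ
    induction n with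
    | zero => rfl
    | succ n ih => rw [Function.iterate_succ_apply', Function.iterate_succ_apply', ← ih]
  refine Eq.trans ?_ (card_fixed_modEq f ((Nat.card G).factorization p) fun χ =>
    Subtype.ext (Subtype.ext ((hiter _ χ).trans (h.powTwist_iterate hq _))))
  congr 1
  exact Nat.card_congr
    { toFun := fun χ => ⟨⟨χ.1, χ.2.1, χ.2.2.1⟩, Subtype.ext (Subtype.ext (funext χ.2.2.2))⟩
      invFun := fun χ => ⟨χ.1.1, χ.1.2.1, χ.1.2.2,
        congrFun (congrArg (fun e => ((e.1 : IrrCharacter G) : G → ℂ)) χ.2)⟩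
      left_inv := fun _ => rfl
      right_inv := fun _ => rfl }

end CfsgLib.ZerosCodegree
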