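import Cfsg.Agent.Lib.CharTheory.Monomial
import Cfsg.Agent.Lib.CharTheory.Inflation
import Cfsg.Agent.Lib.Brauer.Dual
import Cfsg.Agent.Lib.Clifford.Basic
import Mathlib.GroupTheory.RegularWreathProduct
import Mathlib.GroupTheory.SpecificGroups.Cyclic

/-!
A wreath product of an M-group with a group of prime order is an M-group.
-/

set_option autoImplicit false
set_option linter.unusedSectionVars false
set_option linter.style.haveILetI false

open scoped ComplexConjugate
open Cfsg CfsgLib.CharTheory RegularWreathProduct CfsgLib.Frobenius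

namespace CfsgLib.ZerosCodegree

universe u v

/-- Each irreducible character is induced from a linear one. -/
def Monomial (G : Type u) [Group G] [Fintype G] : Prop :=
  ∀ χ : G → ℂ, IsIrrCharacter G χ → ∃ (H : Subgroup G) (l : H →* ℂˣ),
    χ = indFun H (fun h => (l h : ℂ))

/-- A character having `χ` as a constituent and no larger degree is `χ`. -/
theorem eq_of_constituent_of_le {G : Type u} [Group G] [Fintype G] {φ χ : G → ℂ}
    (hφ : IsCharacter G φ) (hχ : IsIrrCharacter G χ) (hne : classInner φ χ ≠ 0)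
    (hle : (φ 1).re ≤ (χ 1).re) : φ = χ := by
  classical
  haveI := Fintype.ofFinite (IrrCharacter G)
  obtain ⟨m, hm⟩ := IsCharacter.exists_sum hφ
  choose d hd hd1 using fun ψ : IrrCharacter G => exists_degree_of_isIrr ψ.2
  set χ' : IrrCharacter G := ⟨χ, hχ⟩
  have hmχ : m χ' ≠ 0 := fun h0 => hne (by
    rw [hm]; exact (classInner_sum_irr _ χ').trans (by rw [h0, Nat.cast_zero]))
  have hφ1 : φ 1 = ((∑ ψ, m ψ * d ψ : ℕ) : ℂ) := by
    rw [hm]; simp [hd1]
  rw [hφ1, show χ 1 = (d χ' : ℂ) from hd1 χ', Complex.natCast_re, Complex.natCast_re] at hle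
  have hle' : ∑ ψ, m ψ * d ψ ≤ d χ' := by exact_mod_cast hle
  rw [← Finset.add_sum_erase _ _ (Finset.mem_univ χ')] at hle'
  have h1 : d χ' ≤ m χ' * d χ' := Nat.le_mul_of_pos_left _ (Nat.pos_of_ne_zero hmχ)
  have hm1 : m χ' = 1 := Nat.eq_of_mul_eq_mul_right (hd χ') (by omega)
  have h0 : ∀ ψ ∈ Finset.univ.erase χ', m ψ = 0 := fun ψ hψ => by
    have h2 := Finset.sum_eq_zero_iff.1 (show ∑ ψ ∈ Finset.univ.erase χ', m ψ * d ψ = 0 by omega) ψ hψ
    exact (Nat.mul_eq_zero.1 h2).resolve_right (hd ψ).ne'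
  rw [hm, ← Finset.add_sum_erase _ _ (Finset.mem_univ χ'), hm1, Finset.sum_eq_zero fun ψ hψ => by
    rw [h0 ψ hψ, Nat.cast_zero, zero_smul]]
  simp [χ']

section Pi

variable {ι : Type v} [Fintype ι] {M : Type u} [Group M] [Fintype M]

/-- The outer product of characters. -/
noncomputable def piChar (θ : ι → M → ℂ) (f : ι → M) : ℂ := ∏ i, θ i (f i)

theorem isCharacter_piChar {θ : ι → M → ℂ} (h : ∀ i, IsCharacter M (θ i)) :
    IsCharacter (ι → M) (piChar θ) := by
  have e : piChar θ = ∏ i, fun f : ι → M => θ i (f i) := funext fun f => by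
    simp [piChar, Finset.prod_apply]
  rw [e]
  exact Finset.prod_induction _ _ (fun _ _ => isCharacter_mul)
    (IsIrrCharacter.isCharacter isIrrCharacter_one)
    fun i _ => CfsgLib.Coherence.isCharacter_comp (h i) (Pi.evalMonoidHom (fun _ => M) i)

theorem classInner_piChar [DecidableEq ι] (θ η : ι → M → ℂ) :
    classInner (piChar θ) (piChar η) = ∏ i, classInner (θ i) (η i) := by
  simp only [classInner, piChar, map_prod, ← Finset.prod_mul_distrib]
  rw [Finset.prod_mul_distrib, Finset.prod_const, Finset.card_univ, Nat.card_fun, Nat.cast_pow,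
    ← inv_pow, Nat.card_eq_fintype_card (α := ι)]
  congr 1
  exact (Fintype.prod_sum (fun i x => θ i x * conj (η i x))).symm

theorem isIrrCharacter_piChar [DecidableEq ι] {θ : ι → M → ℂ} (h : ∀ i, IsIrrCharacter M (θ i)) :
    IsIrrCharacter (ι → M) (piChar θ) := by
  rw [isIrrCharacter_iff_norm_one (isCharacter_piChar fun i => IsIrrCharacter.isCharacter (h i)),
    classInner_piChar]
  exact Finset.prod_eq_one fun i _ => classInner_self_of_isIrr (h i)

/-- The irreducible characters of a power are the outer products. -/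
theorem exists_piChar_eq [DecidableEq ι] {θ : (ι → M) → ℂ} (h : IsIrrCharacter (ι → M) θ) :
    ∃ φ : ι → IrrCharacter M, θ = piChar fun i => (φ i : M → ℂ) := by
  classical
  haveI := Fintype.ofFinite (IrrCharacter M)
  set R : (ι → M) → ℂ := fun f => if f = 1 then (Nat.card (ι → M) : ℂ) else 0
  have hR : R = ∑ φ : ι → IrrCharacter M,
      (∏ i, (φ i : M → ℂ) 1) • piChar (fun i => (φ i : M → ℂ)) := funext fun f => by
    simp only [Finset.sum_apply, Pi.smul_apply, smul_eq_mul, piChar, ← Finset.prod_mul_distrib]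
    rw [← Fintype.prod_sum (fun i (φ : IrrCharacter M) => (φ : M → ℂ) 1 * (φ : M → ℂ) (f i))]
    simp only [sum_degree_mul, R]
    by_cases hf : f = 1
    · subst hf; simp [Finset.prod_const, Nat.card_eq_fintype_card]
    · obtain ⟨i, hi⟩ := Function.ne_iff.1 hf
      rw [if_neg hf, Finset.prod_eq_zero (Finset.mem_univ i) (if_neg hi)]
  have hRθ : classInner R θ ≠ 0 := by
    obtain ⟨d, hd, hd1⟩ := exists_degree_of_isIrr h
    rw [classInner, Finset.sum_eq_single (1 : ι → M) (fun f _ hf => by simp [R, hf]) (by simp)]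
    simp only [R, if_pos, hd1, map_natCast]
    refine mul_ne_zero (inv_ne_zero (Nat.cast_ne_zero.2 Nat.card_pos.ne'))
      (mul_ne_zero (Nat.cast_ne_zero.2 Nat.card_pos.ne') (Nat.cast_ne_zero.2 hd.ne'))
  rw [hR, classInner_sum_left] at hRθ
  obtain ⟨φ, -, hφ⟩ := Finset.exists_ne_zero_of_sum_ne_zero hRθ
  refine ⟨φ, ?_⟩
  rw [classInner_smul_left] at hφ
  by_contra hne
  exact (right_ne_zero_of_mul hφ)
    (classInner_eq_zero_of_ne (isIrrCharacter_piChar fun i => (φ i).2) h fun e => hne e.symm)

/-- The product of linear characters on a product of subgroups. -/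
noncomputable def piLinear (H : ι → Subgroup M) (l : ∀ i, H i →* ℂˣ) :
    Subgroup.pi Set.univ H →* ℂˣ where
  toFun f := ∏ i, l i ⟨(f : ι → M) i, f.2 i (Set.mem_univ i)⟩
  map_one' := Finset.prod_eq_one fun i _ => map_one (l i)
  map_mul' a b := by
    rw [← Finset.prod_mul_distrib]
    exact Finset.prod_congr rfl fun i _ => map_mul (l i) ⟨_, a.2 i (Set.mem_univ i)⟩ ⟨_, b.2 i (Set.mem_univ i)⟩

theorem piChar_indFun [DecidableEq ι] (H : ι → Subgroup M) (l : ∀ i, H i →* ℂˣ) :
    piChar (fun i => indFun (H i) (fun h => (l i h : ℂ))) =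
      indFun (Subgroup.pi Set.univ H) (fun f => (piLinear H l f : ℂ)) := by
  classical
  funext f
  simp only [piChar, indFun]
  rw [Finset.prod_mul_distrib, Finset.prod_inv_distrib]
  congr 1
  · rw [← Nat.cast_prod, ← Nat.card_pi]
    congr 2
    exact Nat.card_congr
      { toFun := fun x => ⟨fun i => (x i : M), fun i _ => (x i).2⟩
        invFun := fun x i => ⟨(x : ι → M) i, x.2 i (Set.mem_univ i)⟩
        left_inv := fun _ => rfl
        right_inv := fun _ => rfl }
  rw [Fintype.prod_sum]
  refine Finset.sum_congr rfl fun x _ => ?_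
  by_cases hx : x⁻¹ * f * x ∈ Subgroup.pi Set.univ H
  · rw [extendByZero_of_mem _ _ hx]
    simp only [piLinear, MonoidHom.coe_mk, OneHom.coe_mk, Units.coe_prod]
    refine Finset.prod_congr rfl fun i _ => ?_
    rw [extendByZero_of_mem _ _ (show (x i)⁻¹ * f i * x i ∈ H i from hx i (Set.mem_univ i))]
    rfl
  · rw [extendByZero_of_not_mem _ _ hx]
    obtain ⟨i, hi⟩ : ∃ i, (x i)⁻¹ * f i * x i ∉ H i := by
      by_contra hall
      push Not at hall
      exact hx fun i _ => hall i
    exact Finset.prod_eq_zero (Finset.mem_univ i) (extendByZero_of_not_mem _ _ hi)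

end Pi

/-- Induction and isomorphisms. -/
theorem indFun_comap_equiv {B : Type u} [Group B] [Fintype B] {P : Type v} [Group P] [Fintype P]
    (e : B ≃* P) (K : Subgroup P) (l : K → ℂ) (b : B) :
    indFun (K.comap e.toMonoidHom) (fun k => l ⟨e k, k.2⟩) b = indFun K l (e b) := by
  simp only [indFun]
  congr 1
  · congr 2
    exact Nat.card_congr (e.toEquiv.subtypeEquiv fun _ => Iff.rfl)
  refine Fintype.sum_equiv e.toEquiv _ _ fun x => ?_
  show extendByZero _ _ _ = extendByZero K l ((e x)⁻¹ * e b * e x)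
  rw [← map_inv, ← map_mul, ← map_mul]
  by_cases hx : e (x⁻¹ * b * x) ∈ K
  · rw [extendByZero_of_mem K l hx,
      extendByZero_of_mem (K.comap e.toMonoidHom) _ (show x⁻¹ * b * x ∈ K.comap e.toMonoidHom from hx)]
  · rw [extendByZero_of_not_mem K l hx,
      extendByZero_of_not_mem (K.comap e.toMonoidHom) _
        (show x⁻¹ * b * x ∉ K.comap e.toMonoidHom from hx)]

section Wreath

variable {M : Type u} {Q : Type v} [Group M] [Group Q]

variable (M Q) in
/-- The base group. -/
def baseGroup : Subgroup (M ≀ᵣ Q) := (rightHom : M ≀ᵣ Q →* Q).ker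

instance : (baseGroup M Q).Normal := MonoidHom.normal_ker _

theorem mem_baseGroup {w : M ≀ᵣ Q} : w ∈ baseGroup M Q ↔ w.right = 1 := Iff.rfl

variable (M Q) in
/-- The base group is a power. -/
def baseEquiv : baseGroup M Q ≃* (Q → M) where
  toFun b := (b : M ≀ᵣ Q).left
  invFun f := ⟨⟨f, 1⟩, rfl⟩
  left_inv b := by
    refine Subtype.ext (RegularWreathProduct.ext rfl ?_)
    exact (mem_baseGroup.1 b.2).symm
  right_inv _ := rfl
  map_mul' a b := by
    show ((a : M ≀ᵣ Q) * b).left = _
    rw [RegularWreathProduct.mul_left, mem_baseGroup.1 a.2]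
    simp only [inv_one, one_mul]

theorem inl_conj_left (c : Q) (b : baseGroup M Q) :
    ((inl c : M ≀ᵣ Q) * (b : M ≀ᵣ Q) * (inl c)⁻¹).left = fun x => (b : M ≀ᵣ Q).left (c⁻¹ * x) := by
  funext x
  simp [mem_baseGroup.1 b.2]

end Wreath

section WreathChar

variable {M : Type u} {Q : Type v} [Group M] [CommGroup Q] [Fintype Q]

variable (Q) in
/-- The elements with left part in `H`. -/
def wreathSub (H : Subgroup M) : Subgroup (M ≀ᵣ Q) where
  carrier := {w | ∀ q, w.left q ∈ H}
  one_mem' _ := H.one_mem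
  mul_mem' {a b} ha hb q := by
    rw [RegularWreathProduct.mul_left, Pi.mul_apply]
    exact H.mul_mem (ha q) (hb _)
  inv_mem' {a} ha q := by
    rw [RegularWreathProduct.inv_left]
    exact H.inv_mem (ha _)

/-- The extension of a power of a linear character. -/
noncomputable def wreathLinear (H : Subgroup M) (l : H →* ℂˣ) (ω : Q →* ℂˣ) :
    wreathSub Q H →* ℂˣ where
  toFun w := (∏ q, l ⟨(w : M ≀ᵣ Q).left q, w.2 q⟩) * ω (w : M ≀ᵣ Q).right
  map_one' := by
    simp only [OneMemClass.coe_one, RegularWreathProduct.one_right, map_one, mul_one]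
    exact Finset.prod_eq_one fun q _ => map_one l
  map_mul' a b := by
    have h : ∏ q, l ⟨((a * b : wreathSub Q H) : M ≀ᵣ Q).left q, (a * b).2 q⟩ =
        (∏ q, l ⟨(a : M ≀ᵣ Q).left q, a.2 q⟩) * ∏ q, l ⟨(b : M ≀ᵣ Q).left q, b.2 q⟩ := by
      rw [← Equiv.prod_comp (Equiv.mulLeft (a : M ≀ᵣ Q).right⁻¹)
          (fun q => l ⟨(b : M ≀ᵣ Q).left q, b.2 q⟩), ← Finset.prod_mul_distrib]
      refine Finset.prod_congr rfl fun q _ => ?_
      rw [← map_mul]
      rfl
    rw [h, Subgroup.coe_mul, RegularWreathProduct.mul_right, map_mul]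
    exact mul_mul_mul_comm _ _ _ _

variable [Fintype M]

open Classical in
/-- Wreath products of M-groups by groups of prime order are M-groups. -/
theorem monomial_wreath [Fintype (M ≀ᵣ Q)] (hM : Monomial M) (hQ : (Nat.card Q).Prime) :
    Monomial (M ≀ᵣ Q) := by
  intro χ hχ
  letI : Fintype (baseGroup M Q) := Fintype.ofFinite _
  set B := baseGroup M Q
  set e := baseEquiv M Q
  obtain ⟨θ, hθ⟩ := CfsgLib.CharTheory.exists_constituent B (IsIrrCharacter.isCharacter hχ)
    (apply_one_ne_zero_of_isIrr hχ)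
  obtain ⟨φ, hφ⟩ := exists_piChar_eq (isIrrCharacter_comp_mulEquiv θ.2 e.symm)
  have hθe : ∀ b : B, (θ : B → ℂ) b = piChar (fun q => (φ q : M → ℂ)) (e b) := fun b => by
    rw [← congrFun hφ (e b), e.symm_apply_apply]
  choose H l hl using fun q => hM _ (φ q).2
  let P : Subgroup B := (Subgroup.pi Set.univ H).comap e.toMonoidHom
  let ν : P →* ℂˣ := (piLinear H l).comp
    ((e.toMonoidHom.comp P.subtype).codRestrict _ fun k => k.2)
  have hθind : (θ : B → ℂ) = indFun P (fun k => (ν k : ℂ)) := funext fun b => by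
    rw [hθe, show (fun q => (φ q : M → ℂ)) = fun q => indFun (H q) (fun h => (l q h : ℂ)) from
      funext hl, piChar_indFun, ← indFun_comap_equiv e]
    rfl
  let K := P.map B.subtype
  let η : K →* ℂˣ := ν.comp (P.equivMapOfInjective B.subtype B.subtype_injective).symm.toMonoidHom
  have hind : indFun B (θ : B → ℂ) = indFun K (fun k => (η k : ℂ)) := by
    rw [hθind, CfsgLib.Brauer.indFun_indFun_map]; rfl
  have hcon : classInner (indFun B (θ : B → ℂ)) χ ≠ 0 := by
    rw [CfsgLib.Frobenius.classInner_indFun B _ χ (IsIrrCharacter.isClassFunction hχ),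
      classInner_conj_symm]
    exact (map_ne_zero_iff _ (RingHom.injective _)).2 hθ
  have hindex : B.index = Nat.card Q := by
    show (rightHom : M ≀ᵣ Q →* Q).ker.index = _
    rw [Subgroup.index_ker, MonoidHom.range_eq_top.2 fun q => ⟨inl q, rfl⟩, Subgroup.card_top]
  obtain ⟨d, hd, hd1⟩ := exists_degree_of_isIrr θ.2
  have hres := CfsgLib.Coherence.isCharacter_comp (IsIrrCharacter.isCharacter hχ) B.subtype
  haveI := Fintype.ofFinite (IrrCharacter B)
  obtain ⟨m, hm⟩ := IsCharacter.exists_sum hres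
  have hm' : (fun b : B => χ b) = ∑ ψ, (m ψ : ℂ) • (ψ : B → ℂ) := hm
  have hsum : χ 1 = ∑ ψ : IrrCharacter B, (m ψ : ℂ) * (ψ : B → ℂ) 1 := by
    have := congrFun hm' 1
    rw [Finset.sum_apply] at this
    simpa using this
  have hmne : ∀ g : M ≀ᵣ Q,
      m ⟨CfsgLib.Clifford.conjChar B (θ : B → ℂ) g, CfsgLib.Clifford.isIrrCharacter_conjChar B θ.2 g⟩ ≠ 0 := by
    intro g h0
    apply hθ
    rw [← CfsgLib.Clifford.classInner_conjChar B (IsIrrCharacter.isClassFunction hχ) (θ : B → ℂ) g, hm']
    exact (classInner_sum_irr _ ⟨_, CfsgLib.Clifford.isIrrCharacter_conjChar B θ.2 g⟩).trans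
      (by rw [h0, Nat.cast_zero])
  -- each set of conjugates bounds the degree
  have hbound : ∀ s : Finset Q, Set.InjOn (fun c => CfsgLib.Clifford.conjChar B (θ : B → ℂ) (inl c)) ↑s →
      (s.card : ℝ) * d ≤ (χ 1).re := by
    intro s hs
    let f : Q → IrrCharacter B := fun c =>
      ⟨_, CfsgLib.Clifford.isIrrCharacter_conjChar B θ.2 (inl c : M ≀ᵣ Q)⟩
    rw [hsum, Complex.re_sum]
    calc (s.card : ℝ) * d = ∑ ψ ∈ s.image f, (d : ℝ) := by
          rw [Finset.sum_const, Finset.card_image_of_injOn (fun a ha b hb hab =>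
            hs ha hb (congrArg Subtype.val hab)), nsmul_eq_mul]
      _ ≤ ∑ ψ ∈ s.image f, ((m ψ : ℂ) * (ψ : B → ℂ) 1).re := by
          refine Finset.sum_le_sum fun ψ hψ => ?_
          obtain ⟨c, -, rfl⟩ := Finset.mem_image.1 hψ
          show (d : ℝ) ≤ ((m (f c) : ℂ) * CfsgLib.Clifford.conjChar B (θ : B → ℂ) (inl c) 1).re
          rw [CfsgLib.Clifford.conjChar_apply_one, hd1]
          simp only [Complex.mul_re, Complex.natCast_re, Complex.natCast_im, mul_zero, sub_zero]
          exact le_mul_of_one_le_left (Nat.cast_nonneg _)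
            (by exact_mod_cast Nat.one_le_iff_ne_zero.2 (hmne (inl c)))
      _ ≤ ∑ ψ, ((m ψ : ℂ) * (ψ : B → ℂ) 1).re := by
          refine Finset.sum_le_univ_sum_of_nonneg fun ψ => ?_
          obtain ⟨k, -, hk⟩ := exists_degree_of_isIrr ψ.2
          rw [hk]
          simp only [Complex.mul_re, Complex.natCast_re, Complex.natCast_im, mul_zero, sub_zero]
          positivity
  by_cases hinj : Function.Injective fun c : Q => CfsgLib.Clifford.conjChar B (θ : B → ℂ) (inl c)
  · refine ⟨K, η, ?_⟩
    rw [← hind]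
    refine (eq_of_constituent_of_le
      (CfsgLib.Frobenius.isCharacter_indFun B _ (IsIrrCharacter.isCharacter θ.2)) hχ hcon ?_).symm
    have := hbound Finset.univ hinj.injOn
    rw [Finset.card_univ, ← Nat.card_eq_fintype_card] at this
    rw [CfsgLib.Frobenius.indFun_one, hindex, hd1]
    simpa using this
  · obtain ⟨c, c', hcc, hne⟩ := Function.not_injective_iff.1 hinj
    set a := c * c'⁻¹
    have ha : a ≠ 1 := fun h => hne (mul_inv_eq_one.1 h)
    have hfix : CfsgLib.Clifford.conjChar B (θ : B → ℂ) (inl a) = θ := by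
      have h := congrArg (fun F => CfsgLib.Clifford.conjChar B F (inl c'⁻¹ : M ≀ᵣ Q)) hcc
      simp only [CfsgLib.Clifford.conjChar_conjChar, ← map_mul, mul_inv_cancel, map_one,
        CfsgLib.Clifford.conjChar_one] at h
      exact h
    have hshift : (fun q => φ (a * q)) = φ := by
      have key : piChar (fun q => (φ (a * q) : M → ℂ)) = piChar (fun q => (φ q : M → ℂ)) := by
        funext f
        have h := congrFun hfix (e.symm f)
        rw [CfsgLib.Clifford.conjChar_apply, hθe, hθe, e.apply_symm_apply] at h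
        rw [← h]
        show ∏ q, (φ (a * q) : M → ℂ) (f q) = ∏ q, (φ q : M → ℂ) _
        refine Fintype.prod_equiv (Equiv.mulLeft a) _ _ fun q => ?_
        show _ = (φ (a * q) : M → ℂ)
          (((inl a : M ≀ᵣ Q) * ((e.symm f : B) : M ≀ᵣ Q) * (inl a)⁻¹).left (a * q))
        rw [inl_conj_left]
        simp only [inv_mul_cancel_left]
        rfl
      funext q
      by_contra hne'
      have h1 := congrArg (fun F => classInner F (piChar fun q => (φ q : M → ℂ))) key
      simp only [classInner_piChar] at h1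
      rw [Finset.prod_eq_zero (Finset.mem_univ q) (classInner_eq_zero_of_ne (φ (a * q)).2 (φ q).2
          (fun e => hne' (Subtype.ext e))),
        Finset.prod_eq_one fun i _ => classInner_self_of_isIrr (φ i).2] at h1
      exact zero_ne_one h1
    have hconst : ∀ q, φ q = φ 1 := by
      intro q
      haveI : Fact (Nat.card Q).Prime := ⟨hQ⟩
      let S : Subgroup Q :=
        { carrier := {x | ∀ y, φ (x * y) = φ y}
          one_mem' := fun y => by rw [one_mul]
          mul_mem' := fun {x z} hx hz y => by rw [mul_assoc, hx, hz]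
          inv_mem' := fun {x} hx y => by rw [← hx (x⁻¹ * y), mul_inv_cancel_left] }
      have hS : S = ⊤ := (S.eq_bot_or_eq_top_of_prime_card).resolve_left fun h =>
        ha ((Subgroup.mem_bot).1 (h ▸ (show a ∈ S from fun y => congrFun hshift y)))
      have := (show q ∈ S by rw [hS]; trivial) 1
      rwa [mul_one] at this
    -- normalise to a constant tuple
    obtain ⟨H₀, l₀, hl₀⟩ := hM _ (φ 1).2
    have hθ0 : (θ : B → ℂ) = fun b => indFun (Subgroup.pi Set.univ fun _ => H₀)
        (fun f => (piLinear (fun _ => H₀) (fun _ => l₀) f : ℂ)) (e b) := funext fun b => by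
      rw [hθe, ← piChar_indFun, ← hl₀]
      simp only [hconst]
    letI : Fintype (wreathSub Q H₀) := Fintype.ofFinite _
    have hsplit : indFun B (θ : B → ℂ) =
        ∑ ω : Q →* ℂˣ, indFun (wreathSub Q H₀) (fun w => (wreathLinear H₀ l₀ ω w : ℂ)) := by
      set P₀ : Subgroup B := (Subgroup.pi Set.univ fun _ : Q => H₀).comap e.toMonoidHom
      have h0 : indFun B (θ : B → ℂ) = indFun (P₀.map B.subtype)
          (fun k => (piLinear (fun _ : Q => H₀) (fun _ => l₀)
            ⟨e ((P₀.equivMapOfInjective B.subtype B.subtype_injective).symm k),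
              ((P₀.equivMapOfInjective B.subtype B.subtype_injective).symm k).2⟩ : ℂ)) := by
        rw [hθ0, ← CfsgLib.Brauer.indFun_indFun_map B P₀
          (fun k => (piLinear (fun _ : Q => H₀) (fun _ => l₀) ⟨e k, k.2⟩ : ℂ))]
        congr 1
        exact funext fun b => (indFun_comap_equiv e _ _ b).symm
      rw [h0]
      funext g
      simp only [indFun, Finset.sum_apply, ← Finset.mul_sum]
      rw [Finset.sum_comm, Finset.mul_sum, Finset.mul_sum]
      refine Finset.sum_congr rfl fun x _ => ?_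
      set z := x⁻¹ * g * x
      have hmem : z ∈ P₀.map B.subtype ↔ z ∈ wreathSub Q H₀ ∧ z.right = 1 := by
        constructor
        · rintro ⟨b, hb, hbz⟩
          rw [← hbz]
          exact ⟨fun q => hb q (Set.mem_univ q), b.2⟩
        · rintro ⟨h1, h2⟩
          exact ⟨⟨z, h2⟩, fun q _ => h1 q, rfl⟩
      have hcard : Nat.card (wreathSub Q H₀) = Nat.card Q * Nat.card (P₀.map B.subtype) := by
        rw [← Nat.card_prod]
        exact Nat.card_congr
          { toFun := fun w => ((w : M ≀ᵣ Q).right,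
              ⟨⟨(w : M ≀ᵣ Q).left, 1⟩, ⟨⟨⟨(w : M ≀ᵣ Q).left, 1⟩, rfl⟩, fun q _ => w.2 q, rfl⟩⟩)
            invFun := fun p => ⟨⟨(p.2 : M ≀ᵣ Q).left, p.1⟩, fun q => by
              obtain ⟨b, hb, hbe⟩ := p.2.2
              rw [← hbe]; exact hb q (Set.mem_univ q)⟩
            left_inv := fun w => rfl
            right_inv := fun p => by
              refine Prod.ext rfl (Subtype.ext (RegularWreathProduct.ext rfl ?_))
              obtain ⟨b, hb, hbe⟩ := p.2.2
              rw [← hbe]; exact b.2.symm }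
      have hQ0 : (Nat.card Q : ℂ) ≠ 0 := Nat.cast_ne_zero.2 Nat.card_pos.ne'
      rw [hcard, Nat.cast_mul, mul_inv]
      by_cases hz : z ∈ wreathSub Q H₀
      · simp only [extendByZero_of_mem _ _ hz, wreathLinear, MonoidHom.coe_mk, OneHom.coe_mk,
          Units.val_mul, ← Finset.mul_sum, CfsgLib.Brauer.sum_homUnits_apply]
        by_cases hr : z.right = 1
        · rw [extendByZero_of_mem _ _ (hmem.2 ⟨hz, hr⟩), if_pos hr]
          have hb : ((P₀.equivMapOfInjective B.subtype B.subtype_injective).symm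
              ⟨z, hmem.2 ⟨hz, hr⟩⟩ : B) = ⟨z, hr⟩ := by
            apply B.subtype_injective
            have := congrArg Subtype.val
              ((P₀.equivMapOfInjective B.subtype B.subtype_injective).apply_symm_apply ⟨z, hmem.2 ⟨hz, hr⟩⟩)
            exact this
          have hv : (piLinear (fun _ : Q => H₀) (fun _ => l₀)
              ⟨e ((P₀.equivMapOfInjective B.subtype B.subtype_injective).symm ⟨z, hmem.2 ⟨hz, hr⟩⟩),
                ((P₀.equivMapOfInjective B.subtype B.subtype_injective).symm ⟨z, hmem.2 ⟨hz, hr⟩⟩).2⟩ : ℂˣ)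
              = ∏ q, l₀ ⟨z.left q, hz q⟩ := by
            show ∏ q, l₀ _ = _
            refine Finset.prod_congr rfl fun q _ => congrArg l₀ (Subtype.ext ?_)
            show (((P₀.equivMapOfInjective B.subtype B.subtype_injective).symm _ : B) : M ≀ᵣ Q).left q = _
            rw [hb]
          rw [hv]
          field_simp
        · rw [extendByZero_of_not_mem _ _ fun h => hr (hmem.1 h).2, if_neg hr]
          ring
      · rw [extendByZero_of_not_mem _ _ fun h => hz (hmem.1 h).1]
        simp only [extendByZero_of_not_mem _ _ hz, Finset.sum_const_zero, mul_zero]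
    rw [hsplit, classInner_sum_left] at hcon
    obtain ⟨ω, -, hω⟩ := Finset.exists_ne_zero_of_sum_ne_zero hcon
    refine ⟨wreathSub Q H₀, wreathLinear H₀ l₀ ω, (eq_of_constituent_of_le
      (CfsgLib.Frobenius.isCharacter_indFun _ _ (IsIrrCharacter.isCharacter (isIrrCharacter_linear _)))
      hχ hω ?_).symm⟩
    have h1 := congrArg (fun F : M ≀ᵣ Q → ℂ => (F 1).re) hsplit
    simp only [Finset.sum_apply, CfsgLib.Frobenius.indFun_one, map_one, Units.val_one, mul_one,
      Finset.sum_const, Finset.card_univ, hindex, hd1] at h1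
    have h2 := hbound {1} (by simp)
    rw [CfsgLib.Frobenius.indFun_one, map_one, Units.val_one, mul_one]
    rw [← Nat.card_eq_fintype_card, CommGroup.card_monoidHom_of_hasEnoughRootsOfUnity] at h1
    simp only [Complex.mul_re, Complex.natCast_re, Complex.natCast_im, mul_zero, sub_zero,
      nsmul_eq_mul] at h1
    simp only [Finset.card_singleton, Nat.cast_one, one_mul] at h2
    rw [Complex.natCast_re]
    have hp : (0 : ℝ) < Nat.card Q := by exact_mod_cast Nat.card_pos
    nlinarith

end WreathChar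

end CfsgLib.ZerosCodegree
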