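import Cfsg.Agent.Lib.ZerosCodegree.PalfyReduction

/-!
# The central case of the three primes theorem

If the unique minimal normal subgroup `M` is a `p`-group and `L` is the Sylow `p`-subgroup, no
prime among the other two divides `[C : L]`, where `C` is the centraliser of `M`: otherwise a
normal subgroup `K` over `L` contradicts either the counting of linear characters of `L` or the
vanishing of the characters of `L` non-trivial on `M`.
-/

set_option autoImplicit false
set_option linter.style.haveILetI false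
set_option linter.unusedSectionVars false

open scoped Pointwise commutatorElement

namespace CfsgLib.ZerosCodegree.Palfy

open Cfsg CfsgLib.CharTheory CfsgLib.Clifford CfsgLib.ZerosCodegree.RelGraph

universe u

variable {G : Type u} [Group G] [Finite G] {M L : Subgroup G} {p q r : ℕ}

/-- An irreducible character does not vanish at an element commuting modulo its kernel. -/
theorem apply_ne_zero_of_commutator {X : Type*} [Group X] [Finite X] {θ : X → ℂ}
    (hθ : IsIrrCharacter X θ) (b : X) (h : ∀ y, θ ⁅b, y⁆ = θ 1) : θ b ≠ 0 := by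
  obtain ⟨d, ρ, hρ, rfl⟩ := hθ
  haveI := hρ
  haveI : Nontrivial (Fin d → ℂ) := nontrivial_of_isIrreducible ρ
  obtain ⟨z, hz⟩ := exists_smul_of_commute ρ (ρ b) fun y => by
    have h1 : ρ ⁅b, y⁆ = LinearMap.id :=
      (character_eq_finrank_iff ρ _).1 (by rw [h, ρ.char_one])
    show ρ b * ρ y = ρ y * ρ b
    rw [← map_mul, ← map_mul, show b * y = ⁅b, y⁆ * (y * b) by
      rw [commutatorElement_def]; group, map_mul, h1]
    rfl
  have hd : (d : ℂ) ≠ 0 := by
    rintro h0
    obtain ⟨v, hv⟩ := exists_ne (0 : Fin d → ℂ)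
    exact hv (funext fun i => absurd i.2 (by simp [show d = 0 by exact_mod_cast h0]))
  have hz0 : z ≠ 0 := by
    intro h0
    obtain ⟨v, hv⟩ := exists_ne (0 : Fin d → ℂ)
    refine hv ?_
    have h1 : ρ b⁻¹ (ρ b v) = v := by
      rw [← Module.End.mul_apply, ← map_mul, inv_mul_cancel, map_one, Module.End.one_apply]
    rw [← h1, hz, h0, zero_smul, LinearMap.zero_apply, map_zero]
  show LinearMap.trace ℂ _ (ρ b) ≠ 0
  rw [hz, map_smul, LinearMap.trace_id, smul_eq_mul, Module.finrank_fin_fun]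
  exact mul_ne_zero hz0 hd

/-- A linear character fixed by `k` is trivial on its commutators. -/
theorem apply_commutator [L.Normal] {μ : L →* ℂˣ} {k : G} (hk : k ∈ stab L μ) (x : L)
    (h : ⁅k, (x : G)⁆ ∈ L) : μ ⟨⁅k, (x : G)⁆, h⟩ = 1 := by
  rw [show (⟨⁅k, (x : G)⁆, h⟩ : L) = MulAut.conjNormal k x * x⁻¹ from
    Subtype.ext (by simp [commutatorElement_def]), map_mul, map_inv, mem_stab.1 hk x,
    mul_inv_cancel]

/-- A `q`-subgroup of the centraliser of `M` over `L`. -/
structure QGroup (M L K : Subgroup G) [M.Normal] (q : ℕ) : Prop where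
  normal : K.Normal
  le : L ≤ K
  leC : K ≤ (dualRep M).ker
  ne : ¬ K ≤ L
  pow : ∀ x ∈ K, ∃ k : ℕ, x ^ q ^ k ∈ L
  key : ∀ T : Subgroup G, L ≤ T → ¬ q ∣ T.index → K ≤ T

theorem Crit.exists_qgroup (c : Crit M L p p q r) [M.Normal] [L.Normal] {H₀ : Subgroup G}
    (hc : L.IsComplement' H₀) (hqC : q ∣ L.relIndex (dualRep M).ker) :
    ∃ K, QGroup M L K q := by
  classical
  haveI := Fact.mk c.qprime
  obtain ⟨l, hl⟩ : ∃ l : M →* ℂˣ, l ≠ 1 := by
    obtain ⟨n, hn1⟩ := Subgroup.ne_bot_iff_exists_ne_one.1 c.ne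
    obtain ⟨l, hl⟩ := exists_apply_ne_one c.ab (n := n) hn1
    exact ⟨l, fun h => hl (by rw [h]; rfl)⟩
  set C := (dualRep M).ker with hC
  set f := QuotientGroup.mk' L with hf
  set Cb := C.map f with hCb
  haveI hCbn : Cb.Normal := Subgroup.Normal.map inferInstance f (QuotientGroup.mk'_surjective L)
  obtain ⟨S, hST, hTN⟩ := c.uniq_central hc l hl
  have hCT : Cb ≤ (stab M l).map f := Subgroup.map_mono (le_stab_of_mem_ker l)
  have hmem : ∀ y ∈ Cb, (∃ k : ℕ, y ^ q ^ k = 1) → y ∈ (S : Subgroup (G ⧸ L)) := by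
    intro y hy hk
    obtain ⟨k, hk⟩ := hk
    have hp : IsPGroup q (Subgroup.zpowers y) := by
      rintro ⟨_, i, rfl⟩
      refine ⟨k, Subtype.ext ?_⟩
      show (y ^ i) ^ q ^ k = 1
      rw [← zpow_natCast, ← zpow_mul, mul_comm, zpow_mul, zpow_natCast, hk, one_zpow]
    have h1 := hp.inf_normalizer_sylow S
    exact (inf_eq_left.1 (h1.symm.trans (inf_eq_left.2
      (Subgroup.zpowers_le.2 (hTN (hCT hy)))))) (Subgroup.mem_zpowers y)
  set Kb := (S : Subgroup (G ⧸ L)) ⊓ Cb with hKb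
  have hKp : IsPGroup q Kb := S.2.to_le inf_le_left
  haveI hKn : Kb.Normal := ⟨fun y hy g => by
    refine ⟨hmem _ (hCbn.conj_mem y hy.2 g) ?_, hCbn.conj_mem y hy.2 g⟩
    obtain ⟨k, hk⟩ := S.2 ⟨y, hy.1⟩
    exact ⟨k, by rw [conj_pow, show y ^ q ^ k = 1 from congrArg Subtype.val hk]; simp⟩⟩
  have hker : f.ker = L := QuotientGroup.ker_mk' L
  refine ⟨Kb.comap f, hKn.comap f, hker.ge.trans (Subgroup.ker_le_comap _ _), ?_, ?_,
    fun x hx => ?_, fun T hT hqT x hx => ?_⟩
  · refine (Subgroup.comap_mono inf_le_right).trans ?_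
    rw [hCb, Subgroup.comap_map_eq_self]
    exact hker.trans_le c.le_ker
  · intro hle
    have hcard : Nat.card Cb = L.relIndex C := by
      rw [hCb, ← Subgroup.relIndex_ker, hker]
    obtain ⟨y, hy⟩ := exists_prime_orderOf_dvd_card' (G := Cb) q (hcard ▸ hqC)
    obtain ⟨x, hx⟩ := QuotientGroup.mk'_surjective L (y : G ⧸ L)
    have hyK : (y : G ⧸ L) ∈ Kb := ⟨hmem _ y.2 ⟨1, by
      rw [pow_one, ← Subgroup.coe_pow, ← hy, pow_orderOf_eq_one]; rfl⟩, y.2⟩
    have hxL : x ∈ L := hle (Subgroup.mem_comap.2 (by rw [hf, hx]; exact hyK))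
    have : y = 1 := Subtype.ext (by
      rw [← hx, QuotientGroup.mk'_apply, (QuotientGroup.eq_one_iff x).2 hxL]; rfl)
    rw [this, orderOf_one] at hy
    exact c.qprime.ne_one hy.symm
  · obtain ⟨k, hk⟩ := hKp ⟨f x, hx⟩
    exact ⟨k, (QuotientGroup.eq_one_iff _).1 (by
      rw [QuotientGroup.mk_pow]; exact congrArg Subtype.val hk)⟩
  · obtain ⟨S', hS'⟩ := exists_sylow_le (q := q) (T.map f)
      fun h => hqT (h.trans (Subgroup.index_map_dvd T (QuotientGroup.mk'_surjective L)))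
    obtain ⟨Q, hQ⟩ := hKp.exists_le_sylow
    obtain ⟨g, hg⟩ := MulAction.exists_smul_eq (G ⧸ L) Q S'
    have h1 : f x ∈ T.map f := hS' (by
      rw [← hg, Sylow.coe_subgroup_smul, Subgroup.mem_pointwise_smul_iff_inv_smul_mem]
      refine hQ ?_
      simpa [MulAut.smul_def, ← map_inv, MulAut.conj_apply] using hKn.conj_mem (f x) hx g⁻¹)
    rwa [← Subgroup.mem_comap, Subgroup.comap_map_eq_self (hker.trans_le hT)] at h1

/-- An element of the complement commutes with `L` if it does so modulo `M`. -/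
theorem Crit.commute_of_mod (c : Crit M L p p q r) [M.Normal] [L.Normal] {K H₀ : Subgroup G}
    (hc : L.IsComplement' H₀) (hK : QGroup M L K q) {k x : G} (hk : k ∈ K) (hk0 : k ∈ H₀)
    (h : k * ⁅k, x⁆ = ⁅k, x⁆ * k) (hcL : ⁅k, x⁆ ∈ L) : ⁅k, x⁆ = 1 := by
  haveI := Fact.mk c.pprime
  obtain ⟨j, hj⟩ := hK.pow k hk
  have hk1 : k ^ q ^ j = 1 := Subgroup.disjoint_def.1 hc.disjoint hj (H₀.pow_mem hk0 _)
  obtain ⟨i, hi⟩ := c.isPGroup ⟨_, hcL⟩
  exact commutator_eq_one_of_coprime h (by rw [hk1, one_mul, mul_one])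
    (congrArg Subtype.val hi) (((Nat.coprime_primes c.qprime c.pprime).2 c.pq.symm).pow _ _)

/-- The part of `K` in the complement does not centralise `L`. -/
theorem Crit.exists_not_commute (c : Crit M L p p q r) [M.Normal] [L.Normal] {K H₀ : Subgroup G}
    (hc : L.IsComplement' H₀) (hK : QGroup M L K q) :
    ∃ k ∈ K, k ∈ H₀ ∧ ∃ x ∈ L, ⁅k, x⁆ ≠ 1 := by
  by_contra hcon
  push Not at hcon
  haveI := hK.normal
  have hdec : ∀ g : G, ∃ x ∈ L, ∃ h ∈ H₀, x * h = g := fun g =>
    Subgroup.mem_sup_of_normal_left.1 (show g ∈ L ⊔ H₀ from hc.sup_eq_top ▸ Subgroup.mem_top g)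
  have hn : (K ⊓ H₀).Normal := ⟨fun y hy g => by
    obtain ⟨x, hx, h, hh, rfl⟩ := hdec g
    have h1 : h * y * h⁻¹ ∈ K ⊓ H₀ := ⟨hK.normal.conj_mem y hy.1 h,
      H₀.mul_mem (H₀.mul_mem hh hy.2) (H₀.inv_mem hh)⟩
    have h2 := commutatorElement_eq_one_iff_mul_comm.1 (hcon _ h1.1 h1.2 x hx)
    rw [show x * h * y * (x * h)⁻¹ = x * (h * y * h⁻¹) * x⁻¹ by group, ← h2, mul_inv_cancel_right]
    exact h1⟩
  have hbot : K ⊓ H₀ = ⊥ := by
    by_contra hne
    refine c.ne (le_bot_iff.1 ?_)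
    exact (le_inf c.cover.le ((c.uniq _ hn hne).trans inf_le_right)).trans
      (disjoint_iff.1 hc.disjoint).le
  refine hK.ne fun g hg => ?_
  obtain ⟨x, hx, h, hh, rfl⟩ := hdec g
  have hhK : h ∈ K := by simpa using K.mul_mem (K.inv_mem (hK.le hx)) hg
  rw [Subgroup.mem_bot.1 (hbot ▸ ⟨hhK, hh⟩ : h ∈ (⊥ : Subgroup G)), mul_one]
  exact hx

theorem Crit.mem_comm_subgroupOf (c : Crit M L p p q r) [L.Normal] :
    commutator L ≤ M.subgroupOf L := by
  exact Subgroup.map_le_iff_le_comap.1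
    ((Subgroup.map_subtype_commutator L).trans_le c.cover.comm)

/-- Some linear character of `L` is moved by `K`. -/
theorem Crit.exists_moved (c : Crit M L p p q r) [M.Normal] [L.Normal] {K H₀ : Subgroup G}
    (hc : L.IsComplement' H₀) (hK : QGroup M L K q) : ∃ μ : L →* ℂˣ, ¬ K ≤ stab L μ := by
  obtain ⟨k, hk, hk0, x, hx, hne⟩ := c.exists_not_commute hc hK
  have hcL : ⁅k, x⁆ ∈ L := by
    rw [commutatorElement_def]
    exact L.mul_mem (Subgroup.Normal.conj_mem inferInstance x hx k) (L.inv_mem hx)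
  have hnM : (⟨⁅k, x⁆, hcL⟩ : L) ∉ M.subgroupOf L := fun h => hne
    (c.commute_of_mod hc hK hk hk0 ((mem_ker_dual c.ab).1 (hK.leC hk) _ h) hcL)
  obtain ⟨μ, -, hμ⟩ := exists_linear_sep c.mem_comm_subgroupOf hnM
  exact ⟨μ, fun h => hμ (apply_commutator (h hk) ⟨x, hx⟩ hcL)⟩

/-- Only one of the two primes divides `[C : L]`. -/
theorem Crit.not_both (c : Crit M L p p q r) [M.Normal] [L.Normal] {H₀ : Subgroup G}
    (hc : L.IsComplement' H₀) (hq : q ∣ L.relIndex (dualRep M).ker)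
    (hr : r ∣ L.relIndex (dualRep M).ker) : False := by
  classical
  haveI := Fintype.ofFinite G
  haveI := Fintype.ofFinite L
  obtain ⟨K, hK⟩ := c.exists_qgroup hc hq
  obtain ⟨K', hK'⟩ := c.swap.exists_qgroup hc hr
  obtain ⟨μ, hμ⟩ := c.exists_moved hc hK
  obtain ⟨ν, hν⟩ := c.swap.exists_moved hc hK'
  have hmul : ∀ {a b : L →* ℂˣ} {X : Subgroup G}, X ≤ stab L b → ¬ X ≤ stab L a →
      ¬ X ≤ stab L (a * b) := fun {a b X} hb ha h => ha fun x hx => mem_stab.2 fun n => by
    have h1 := mem_stab.1 (h hx) n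
    rw [MonoidHom.mul_apply, MonoidHom.mul_apply, mem_stab.1 (hb hx) n] at h1
    exact mul_right_cancel h1
  obtain ⟨a, ha, ha'⟩ : ∃ a : L →* ℂˣ, ¬ K ≤ stab L a ∧ ¬ K' ≤ stab L a := by
    by_cases h1 : K' ≤ stab L μ
    · by_cases h2 : K ≤ stab L ν
      · exact ⟨μ * ν, hmul h2 hμ, by rw [mul_comm μ ν]; exact hmul h1 hν⟩
      · exact ⟨ν, h2, hν⟩
    · exact ⟨μ, hμ, h1⟩
  obtain ⟨χ, hχ⟩ := CfsgLib.BlockLocal.exists_over L (linIrr L a)
  have h := RelGraph.index_dvd L (show Over L χ (linIrr L a) from hχ)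
  refine c.nqr ⟨χ, ?_, ?_⟩
  · exact (by_contra fun hd => ha (hK.key _ (le_stab L a) hd)).trans h
  · exact (by_contra fun hd => ha' (hK'.key _ (le_stab L a) hd)).trans h

/-- A character non-trivial on `M` is fixed by `K`. -/
theorem Crit.le_inertia (c : Crit M L p p q r) [M.Normal] [L.Normal] {K : Subgroup G}
    (hK : QGroup M L K q) (θ : IrrCharacter L) {l : M →* ℂˣ} (hl : l ≠ 1)
    (hval : ∀ m : M, (θ : L → ℂ) (Subgroup.inclusion c.cover.le m) = (θ : L → ℂ) 1 * (l m : ℂ)) :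
    K ≤ inertia L (θ : L → ℂ) := by
  classical
  haveI := Fintype.ofFinite G
  haveI := Fintype.ofFinite L
  haveI := Fintype.ofFinite M
  refine hK.key _ (CfsgLib.CharTheory.le_inertia L (IsIrrCharacter.isClassFunction θ.2)) fun h => ?_
  obtain ⟨χ, hχ⟩ := CfsgLib.BlockLocal.exists_over L θ
  refine c.not_dvd (mem_rel_of_over c.cover.le (show Over L χ θ from hχ) hl ?_)
    (h.trans (RelGraph.index_dvd L (show Over L χ θ from hχ)))
  rw [inner_of_scalar hval]
  exact apply_one_ne_zero_of_isIrr θ.2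

/-- Commutation with an element moved by `K` modulo `M` maps `L` onto `M`. -/
theorem Crit.range_eq_top (c : Crit M L p p q r) [M.Normal] [L.Normal] {K H₀ : Subgroup G}
    (hc : L.IsComplement' H₀) (hK : QGroup M L K q) {k : G} {b : L} (hk : k ∈ K)
    (hkb : ⁅k, (b : G)⁆ ∉ M) (ψ : L →* M) (hψ : ∀ y, (ψ y : G) = ⁅(b : G), (y : G)⁆) :
    ψ.range = ⊤ := by
  classical
  haveI := Fintype.ofFinite G
  haveI := Fintype.ofFinite L
  haveI := Fintype.ofFinite M
  by_contra hne
  obtain ⟨m, hm⟩ : ∃ m, m ∉ ψ.range := by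
    by_contra h
    push Not at h
    exact hne (eq_top_iff.2 fun m _ => h m)
  obtain ⟨l, hl, hlm⟩ := exists_linear_sep (A := ψ.range) (Subgroup.commutator_le.2 fun x _ y _ => by
    rw [show ⁅x, y⁆ = 1 from commutatorElement_eq_one_iff_mul_comm.2
      (Subtype.ext (c.ab x x.2 y y.2))]
    exact one_mem _) hm
  have hl1 : l ≠ 1 := fun h => hlm (by rw [h]; rfl)
  obtain ⟨θ, -, hval⟩ := c.exists_char_over hc l
  have hcL : ⁅k, (b : G)⁆ ∈ L := by
    rw [commutatorElement_def]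
    exact L.mul_mem (Subgroup.Normal.conj_mem inferInstance _ b.2 k) (L.inv_mem b.2)
  obtain ⟨μ, hμM, hμ⟩ := exists_linear_sep c.mem_comm_subgroupOf
    (show (⟨⁅k, (b : G)⁆, hcL⟩ : L) ∉ M.subgroupOf L from hkb)
  refine apply_ne_zero_of_commutator θ.2 b (fun y => ?_) ?_
  · have h1 : (⁅b, y⁆ : L) = Subgroup.inclusion c.cover.le (ψ y) := Subtype.ext (hψ y).symm
    rw [h1, hval, show l (ψ y) = 1 from hl ⟨y, rfl⟩, Units.val_one, mul_one]
  · set θ' : IrrCharacter L := ⟨_, isIrrCharacter_linFun_mul μ θ.2⟩ with hθ'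
    have hval' : ∀ m : M, (θ' : L → ℂ) (Subgroup.inclusion c.cover.le m) =
        (θ' : L → ℂ) 1 * (l m : ℂ) := fun m => by
      simp only [hθ', Pi.mul_apply, linFun_apply, map_one, Units.val_one, one_mul, hval,
        show μ (Subgroup.inclusion c.cover.le m) = 1 from
          hμM (show Subgroup.inclusion c.cover.le m ∈ M.subgroupOf L from m.2)]
    have e1 := congrFun ((mem_inertia L (θ : L → ℂ) k).1 (c.le_inertia hK θ hl1 hval hk)) b
    have e2 := congrFun ((mem_inertia L (θ' : L → ℂ) k).1 (c.le_inertia hK θ' hl1 hval' hk)) b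
    rw [conjChar_eq_comp] at e1 e2
    simp only at e1 e2
    simp only [hθ', Pi.mul_apply, linFun_apply] at e2
    rw [e1] at e2
    by_contra h0
    refine hμ ?_
    have h3 : μ (MulAut.conjNormal k b) = μ b := Units.ext (mul_right_cancel₀ h0 e2)
    rw [show (⟨⁅k, (b : G)⁆, hcL⟩ : L) = MulAut.conjNormal k b * b⁻¹ from
      Subtype.ext (by simp [commutatorElement_def]), map_mul, map_inv, h3, mul_inv_cancel]

/-- The commutators with `K` cover `M` twice over. -/
theorem Crit.card_lt (c : Crit M L p p q r) [M.Normal] [L.Normal] {K H₀ : Subgroup G}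
    (hc : L.IsComplement' H₀) (hK : QGroup M L K q) :
    Nat.card M * Nat.card M < Nat.card ↥(M ⊔ ⁅K, L⁆) := by
  classical
  haveI := Fact.mk c.qprime
  haveI := Fact.mk c.pprime
  haveI := hK.normal
  set D : Subgroup G := M ⊔ ⁅K, L⁆ with hD
  have hDL : D ≤ L := sup_le c.cover.le (Subgroup.commutator_le_right K L)
  have hMD : M ≤ D := le_sup_left
  have hfixM : ∀ k ∈ K, ∀ m ∈ M, k * m = m * k := fun k hk => (mem_ker_dual c.ab).1 (hK.leC hk)
  -- the fixed points of the complement commute with `D`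
  have hcD : ∀ y ∈ L, (∀ k ∈ K, k ∈ H₀ → k * y = y * k) → ∀ d ∈ D, y * d = d * y := by
    intro y hy hfix
    have hle : D ≤ Subgroup.centralizer {y} := by
      refine sup_le (fun m hm => Subgroup.mem_centralizer_singleton_iff.2 ?_)
        (Subgroup.commutator_le.2 fun k hk x hx => Subgroup.mem_centralizer_singleton_iff.2 ?_)
      · exact (c.central y hy m hm).symm
      obtain ⟨a, ha, h, hh, rfl⟩ := Subgroup.mem_sup_of_normal_left.1
        (show k ∈ L ⊔ H₀ from hc.sup_eq_top ▸ Subgroup.mem_top k)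
      have hhK : h ∈ K := by simpa using K.mul_mem (K.inv_mem (hK.le ha)) hk
      set u := ⁅y, x⁆ with hu
      have huM : u ∈ M := c.cover.comm (Subgroup.commutator_mem_commutator hy hx)
      set z := ⁅h, x⁆ with hz
      have hzL : z ∈ L := by
        rw [hz, commutatorElement_def]
        exact L.mul_mem (Subgroup.Normal.conj_mem inferInstance x hx h) (L.inv_mem hx)
      have h1 : y * z = z * y := by
        have e1 : y * x * y⁻¹ = u * x := by rw [hu, commutatorElement_def]; group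
        have e2 : y * (h * x * h⁻¹) * y⁻¹ = u * (h * x * h⁻¹) := by
          calc y * (h * x * h⁻¹) * y⁻¹ = (y * h) * x * (y * h)⁻¹ := by group
            _ = (h * y) * x * (h * y)⁻¹ := by rw [hfix h hhK hh]
            _ = h * (y * x * y⁻¹) * h⁻¹ := by group
            _ = (h * u) * x * h⁻¹ := by rw [e1]; group
            _ = _ := by rw [hfixM h hhK u huM]; group
        have e3 : y * z * y⁻¹ = z := by
          calc y * z * y⁻¹ = y * (h * x * h⁻¹) * y⁻¹ * (y * x * y⁻¹)⁻¹ := by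
                rw [hz, commutatorElement_def]; group
            _ = u * z * u⁻¹ := by rw [e1, e2, hz, commutatorElement_def]; group
            _ = z := by rw [← c.central z hzL u huM, mul_inv_cancel_right]
        calc y * z = y * z * y⁻¹ * y := by group
          _ = z * y := by rw [e3]
      have e4 : ⁅a * h, x⁆ = ⁅a, z⁆ * z * ⁅a, x⁆ := by
        rw [hz]; simp only [commutatorElement_def]; group
      rw [e4]
      have h2 := (c.central y hy _ (c.cover.comm (Subgroup.commutator_mem_commutator ha hzL)))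
      have h3 := (c.central y hy _ (c.cover.comm (Subgroup.commutator_mem_commutator ha hx)))
      exact (((show Commute y ⁅a, z⁆ from h2).mul_right h1).mul_right h3).symm
    exact fun d hd => (Subgroup.mem_centralizer_singleton_iff.1 (hle hd)).symm
  -- an element moved modulo `M`
  obtain ⟨k, hk, hk0, b, hbD, hkb⟩ : ∃ k ∈ K, k ∈ H₀ ∧ ∃ b ∈ D, ⁅k, b⁆ ∉ M := by
    by_contra hcon
    push Not at hcon
    obtain ⟨k, hk, hk0, x, hx, hne⟩ := c.exists_not_commute hc hK
    set d := ⁅k, x⁆ with hd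
    have hdD : d ∈ D := Subgroup.mem_sup_right (Subgroup.commutator_mem_commutator hk hx)
    have hm := hcon k hk hk0 d hdD
    have h1 : ⁅k, d⁆ = 1 :=
      c.commute_of_mod hc hK hk hk0 (hfixM k hk _ hm) (c.cover.le hm)
    exact hne (c.commute_of_mod hc hK hk hk0 (commutatorElement_eq_one_iff_mul_comm.1 h1)
      (hDL hdD))
  have hbL : b ∈ L := hDL hbD
  let ψ : L →* M :=
    { toFun := fun y => ⟨⁅b, (y : G)⁆, c.cover.comm (Subgroup.commutator_mem_commutator hbL y.2)⟩
      map_one' := Subtype.ext (commutatorElement_one_right b)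
      map_mul' := fun y z => Subtype.ext (by
        show ⁅b, (y : G) * z⁆ = ⁅b, (y : G)⁆ * ⁅b, (z : G)⁆
        have h := c.central y y.2 _ (c.cover.comm (Subgroup.commutator_mem_commutator hbL z.2))
        calc ⁅b, (y : G) * z⁆ = ⁅b, (y : G)⁆ * ((y : G) * ⁅b, (z : G)⁆ * (y : G)⁻¹) := by
              simp only [commutatorElement_def]; group
          _ = _ := by rw [h, mul_inv_cancel_right]) }
  have hψ := c.range_eq_top hc hK (b := ⟨b, hbL⟩) hk hkb ψ fun y => rfl
  -- every coset of `D` contains a fixed point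
  have hfixed : ∀ x ∈ L, ∃ y ∈ L, x⁻¹ * y ∈ D ∧ ∀ k ∈ K, k ∈ H₀ → k * y = y * k := by
    intro x hx
    set Q := K ⊓ H₀ with hQ
    have hQp : IsPGroup q Q := fun h => by
      obtain ⟨j, hj⟩ := hK.pow h h.2.1
      exact ⟨j, Subtype.ext (Subgroup.disjoint_def.1 hc.disjoint hj (H₀.pow_mem h.2.2 _))⟩
    have hDn : D.Normal := inferInstance
    have hclosed : ∀ (h : Q) (y : {y : G // x⁻¹ * y ∈ D}), x⁻¹ * (h * y.1 * (h : G)⁻¹) ∈ D := by
      intro h y
      have e : x⁻¹ * (h * y.1 * (h : G)⁻¹) =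
          ⁅x⁻¹, (h : G)⁆ * ((h : G) * (x⁻¹ * y.1) * (h : G)⁻¹) := by
        simp only [commutatorElement_def]; group
      rw [e]
      refine D.mul_mem (Subgroup.mem_sup_right ?_) (hDn.conj_mem _ y.2 _)
      rw [Subgroup.commutator_comm]
      exact Subgroup.commutator_mem_commutator (L.inv_mem hx) h.2.1
    letI : MulAction Q {y : G // x⁻¹ * y ∈ D} :=
      { smul := fun h y => ⟨h * y.1 * (h : G)⁻¹, hclosed h y⟩
        one_smul := fun y => Subtype.ext (show (1 : G) * y.1 * (1 : G)⁻¹ = y.1 by simp)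
        mul_smul := fun a a' y => Subtype.ext (show ((a : G) * a') * y.1 * ((a : G) * a')⁻¹ =
          (a : G) * ((a' : G) * y.1 * (a' : G)⁻¹) * (a : G)⁻¹ by group) }
    have hcard : ¬ q ∣ Nat.card {y : G // x⁻¹ * y ∈ D} := by
      rw [show Nat.card {y : G // x⁻¹ * y ∈ D} = Nat.card D from Nat.card_congr
        ((Equiv.mulLeft x⁻¹).subtypeEquiv fun y => Iff.rfl)]
      intro hd
      obtain ⟨i, hi⟩ := IsPGroup.iff_card.1 c.isPGroup
      have := c.qprime.dvd_of_dvd_pow (hi ▸ hd.trans (Subgroup.card_dvd_of_le hDL))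
      exact c.pq ((Nat.prime_dvd_prime_iff_eq c.qprime c.pprime).1 this).symm
    obtain ⟨y, hy⟩ := hQp.nonempty_fixed_point_of_prime_not_dvd_card _ hcard
    refine ⟨y.1, by simpa using L.mul_mem hx (hDL y.2), y.2, fun h hh hh0 => ?_⟩
    have h1 := congrArg Subtype.val (hy ⟨h, hh, hh0⟩)
    change h * y.1 * h⁻¹ = y.1 at h1
    calc h * y.1 = h * y.1 * h⁻¹ * h := by group
      _ = y.1 * h := by rw [h1]
  set D' := D.subgroupOf L with hD'
  set ψD := ψ.comp D'.subtype with hψD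
  have hsurj : ψD.range = ⊤ := by
    rw [eq_top_iff]
    intro m _
    obtain ⟨x, rfl⟩ : m ∈ ψ.range := hψ ▸ Subgroup.mem_top m
    obtain ⟨y, hy, hxy, hfix⟩ := hfixed x x.2
    have hyb : ψ ⟨y, hy⟩ = 1 :=
      Subtype.ext (commutatorElement_eq_one_iff_mul_comm.2 (hcD y hy hfix b hbD).symm)
    refine ⟨⟨(⟨y, hy⟩ : L)⁻¹ * x, ?_⟩, ?_⟩
    · rw [Subgroup.mem_subgroupOf]
      simpa using D.inv_mem hxy
    · show ψ ((⟨y, hy⟩ : L)⁻¹ * x) = ψ x
      rw [map_mul, map_inv, hyb, inv_one, one_mul]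
  have hker : Nat.card M < Nat.card ψD.ker := by
    let ι : M → ψD.ker := fun m => ⟨⟨⟨m, c.cover.le m.2⟩, hMD m.2⟩, Subtype.ext
      (commutatorElement_eq_one_iff_mul_comm.2 (c.central b hbL m m.2))⟩
    have hinj : Function.Injective ι := fun m m' h => Subtype.ext
      (congrArg (fun z : ψD.ker => (((z : D') : L) : G)) h)
    refine lt_of_le_of_ne (Nat.card_le_card_of_injective ι hinj) fun he => ?_
    have hs := (hinj.bijective_of_nat_card_le he.ge).2
    obtain ⟨m, hm⟩ := hs ⟨⟨⟨b, hbL⟩, hbD⟩, Subtype.ext (commutatorElement_self b)⟩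
    have hbM : b = m := (congrArg (fun z : ψD.ker => (((z : D') : L) : G)) hm).symm
    refine hkb ?_
    rw [commutatorElement_def, hfixM k hk b (hbM ▸ m.2), mul_inv_cancel_right, mul_inv_cancel]
    exact M.one_mem
  have h1 := ψD.ker.card_mul_index
  rw [Subgroup.index_ker, hsurj, Subgroup.card_top,
    Nat.card_congr (Subgroup.subgroupOfEquivOfLe hDL).toEquiv] at h1
  rw [← h1]
  exact Nat.mul_lt_mul_of_pos_right hker Nat.card_pos

end CfsgLib.ZerosCodegree.Palfy
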