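import Mathlib

/-!
# Nilpotent groups of class two in linear groups, and a divisibility

If `F` has class at most two and its centre acts faithfully by scalars on a space over a finite
field, the image of `F` spans a full matrix algebra of dimension `[F : Z(F)]`, so the dimension of
the space is a multiple of the square root of that index. The arithmetic lemma compares the powers
of a prime dividing the number of non-zero vectors in two such spaces.
-/

set_option autoImplicit false
set_option linter.style.haveILetI false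
set_option linter.unusedSectionVars false

open scoped commutatorElement

namespace CfsgLib.ZerosCodegree.Palfy

section ClassTwo

variable {F : Type*} [Group F] [Finite F] {K : Type*} [Field K] [Finite K]
  {W : Type*} [AddCommGroup W] [Module K W] [FiniteDimensional K W]

/-- The image of a group in the endomorphisms spans a subalgebra. -/
noncomputable def spanAlg (f : F →* Module.End K W) : Subalgebra K (Module.End K W) :=
  Algebra.adjoin K (Set.range f)

theorem spanAlg_toSubmodule (f : F →* Module.End K W) :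
    Subalgebra.toSubmodule (spanAlg f) = Submodule.span K (Set.range f) := by
  rw [spanAlg, Algebra.adjoin_eq_span,
    show Set.range f = ((MonoidHom.mrange f : Submonoid (Module.End K W)) : Set (Module.End K W))
      from (MonoidHom.coe_mrange f).symm, Submonoid.closure_eq]

variable (f : F →* Module.End K W) (χ : Subgroup.center F →* K)
  (hχ : ∀ z : Subgroup.center F, f z = χ z • (1 : Module.End K W))

/-- Representatives of the cosets of the centre. -/
noncomputable def rep (q : F ⧸ Subgroup.center F) : F := q.out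

include hχ in
theorem f_eq_smul (g : F) :
    ∃ c : K, f g = c • f (rep (g : F ⧸ Subgroup.center F)) := by
  have h : (rep (g : F ⧸ Subgroup.center F))⁻¹ * g ∈ Subgroup.center F :=
    QuotientGroup.eq.1 (Quotient.out_eq' _)
  refine ⟨χ ⟨_, h⟩, ?_⟩
  conv_lhs => rw [← mul_inv_cancel_left (rep (g : F ⧸ Subgroup.center F)) g, map_mul]
  rw [show f ((rep (g : F ⧸ Subgroup.center F))⁻¹ * g) = χ ⟨_, h⟩ • (1 : Module.End K W) from
    hχ ⟨_, h⟩, mul_smul_comm, mul_one]

variable (hcomm : commutator F ≤ Subgroup.center F) (hinj : Function.Injective χ)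

include hχ hcomm hinj in
/-- A non-zero combination generates, as an ideal, a unit. -/
theorem exists_unit_mem [Fintype (F ⧸ Subgroup.center F)]
    (I : Submodule K (Module.End K W)) (hI : ∀ g, ∀ a ∈ I, f g * a * f g⁻¹ ∈ I)
    (c : F ⧸ Subgroup.center F → K) (q₀ : F ⧸ Subgroup.center F) (hc : c q₀ ≠ 0)
    (hmem : ∑ q, c q • f (rep q) ∈ I) : f (rep q₀) ∈ I := by
  classical
  let β : F → F ⧸ Subgroup.center F → K := fun g q =>
    χ ⟨⁅g, rep q⁆, hcomm (Subgroup.commutator_mem_commutator (Subgroup.mem_top g)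
      (Subgroup.mem_top _))⟩
  have hβ : ∀ g q, f g * f (rep q) * f g⁻¹ = β g q • f (rep q) := fun g q => by
    rw [← map_mul, ← map_mul, show g * rep q * g⁻¹ = ⁅g, rep q⁆ * rep q by
      simp [commutatorElement_def, mul_assoc], map_mul]
    rw [show f ⁅g, rep q⁆ = β g q • (1 : Module.End K W) from hχ ⟨_, _⟩, smul_mul_assoc, one_mul]
  have hsep : ∀ q, q ≠ q₀ → ∃ g, β g q ≠ β g q₀ := by
    intro q hq
    by_contra hh
    push Not at hh
    refine hq ?_
    rw [← Quotient.out_eq' q, ← Quotient.out_eq' q₀]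
    refine QuotientGroup.eq.2 ?_
    rw [Subgroup.mem_center_iff]
    intro g
    have h1 : ⁅g, rep q⁆ = ⁅g, rep q₀⁆ := congrArg Subtype.val (hinj (hh g))
    have h2 : g * rep q * g⁻¹ * (rep q)⁻¹ = g * rep q₀ * g⁻¹ * (rep q₀)⁻¹ := by
      simpa [commutatorElement_def] using h1
    have hz : g * rep q₀ * g⁻¹ * (rep q₀)⁻¹ ∈ Subgroup.center F :=
      hcomm (Subgroup.commutator_mem_commutator (Subgroup.mem_top g) (Subgroup.mem_top _))
    have h3 : g * rep q * g⁻¹ = g * rep q₀ * g⁻¹ * (rep q₀)⁻¹ * rep q := by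
      rw [← h2, inv_mul_cancel_right]
    have h4 : g * rep q₀ * g⁻¹ = g * rep q₀ * g⁻¹ * (rep q₀)⁻¹ * rep q₀ := by
      rw [inv_mul_cancel_right]
    show g * ((rep q)⁻¹ * rep q₀) = (rep q)⁻¹ * rep q₀ * g
    have h5 : g * ((rep q)⁻¹ * rep q₀) * g⁻¹ = (rep q)⁻¹ * rep q₀ := by
      calc g * ((rep q)⁻¹ * rep q₀) * g⁻¹
          = (g * rep q * g⁻¹)⁻¹ * (g * rep q₀ * g⁻¹) := by group
        _ = (rep q)⁻¹ * rep q₀ := by
          conv_lhs => rw [h3]; arg 2; rw [h4]
          group
    rw [← h5, inv_mul_cancel_right]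
    exact h5.symm ▸ rfl
  suffices H : ∀ s : Finset (F ⧸ Subgroup.center F), ∀ c : F ⧸ Subgroup.center F → K,
      c q₀ ≠ 0 → (∀ q ∉ s, q ≠ q₀ → c q = 0) → ∑ q, c q • f (rep q) ∈ I → f (rep q₀) ∈ I from
    H Finset.univ c hc (fun q hq => absurd (Finset.mem_univ q) hq) hmem
  intro s
  induction s using Finset.induction with
  | empty =>
    intro c hc h0 hm
    rw [Finset.sum_eq_single q₀ (fun q _ hq => by rw [h0 q (Finset.notMem_empty q) hq, zero_smul])
      (fun h => absurd (Finset.mem_univ _) h)] at hm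
    simpa [smul_smul, inv_mul_cancel₀ hc] using I.smul_mem (c q₀)⁻¹ hm
  | insert a s ha ih =>
    intro c hc h0 hm
    by_cases haq : a = q₀
    · exact ih c hc (fun q hq hne => h0 q (by simp [haq, hne, hq]) hne) hm
    obtain ⟨g, hg⟩ := hsep a haq
    refine ih (fun q => (β g q - β g a) * c q) (mul_ne_zero (sub_ne_zero.2 hg.symm) hc)
      (fun q hq hne => ?_) ?_
    · by_cases hqa : q = a
      · simp [hqa]
      · simp [h0 q (by simp [hqa, hq]) hne]
    · have e : ∑ q, ((β g q - β g a) * c q) • f (rep q) =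
          f g * (∑ q, c q • f (rep q)) * f g⁻¹ - β g a • ∑ q, c q • f (rep q) := by
        rw [Finset.mul_sum, Finset.sum_mul, Finset.smul_sum, ← Finset.sum_sub_distrib]
        refine Finset.sum_congr rfl fun q _ => ?_
        rw [mul_smul_comm, smul_mul_assoc, hβ, smul_smul, smul_smul, ← sub_smul]
        congr 1
        ring
      rw [e]
      exact I.sub_mem (hI g _ hm) (I.smul_mem _ hm)

include hχ hcomm hinj in
/-- The dimension of a space on which a group of class two acts with scalar faithful centre. -/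
theorem exists_dim [Nontrivial W] :
    ∃ n : ℕ, n * n = (Subgroup.center F).index ∧ n ∣ Module.finrank K W ∧
      ((∀ U : Submodule K W, (∀ g, ∀ w ∈ U, f g w ∈ U) → U = ⊥ ∨ U = ⊤) →
        Module.finrank K W = n) := by
  classical
  haveI := Fintype.ofFinite (F ⧸ Subgroup.center F)
  set A := spanAlg f with hA
  let e : F ⧸ Subgroup.center F → A := fun q => ⟨f (rep q), Algebra.subset_adjoin ⟨_, rfl⟩⟩
  have hu : ∀ q, IsUnit (f (rep q)) := fun q => (Group.isUnit (rep q)).map f
  have hone : (1 : Module.End K W) ≠ 0 := one_ne_zero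
  have hrepr : ∀ a : A, ∃ c : F ⧸ Subgroup.center F → K, a = ∑ q, c q • e q := by
    intro a
    have h1 : (a : Module.End K W) ∈ Submodule.span K (Set.range fun q => f (rep q)) := by
      have h2 : (a : Module.End K W) ∈ Submodule.span K (Set.range f) := by
        rw [← spanAlg_toSubmodule f]; exact a.2
      refine Submodule.span_le.2 ?_ h2
      rintro _ ⟨g, rfl⟩
      obtain ⟨c, hc⟩ := f_eq_smul f χ hχ g
      rw [hc]
      exact Submodule.smul_mem _ _ (Submodule.subset_span ⟨_, rfl⟩)
    obtain ⟨c, hc⟩ := (Submodule.mem_span_range_iff_exists_fun K).1 h1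
    exact ⟨c, Subtype.ext (by simp [e, ← hc])⟩
  have hcoe : ∀ c : F ⧸ Subgroup.center F → K,
      ((∑ q, c q • e q : A) : Module.End K W) = ∑ q, c q • f (rep q) := fun c => by simp [e]
  have hindep : LinearIndependent K e := by
    rw [Fintype.linearIndependent_iff]
    intro c hc q₀
    by_contra hne
    have h1 := exists_unit_mem f χ hχ hcomm hinj ⊥ (fun g a ha => by simp_all) c q₀ hne (by
      rw [← hcoe, hc]; simp)
    rw [Submodule.mem_bot] at h1
    have h2 := hu q₀
    rw [h1] at h2
    exact hone (isUnit_zero_iff.1 h2).symm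
  have hdim : Module.finrank K A = (Subgroup.center F).index := by
    rw [Subgroup.index, Nat.card_eq_fintype_card]
    exact Module.finrank_eq_card_basis (Module.Basis.mk hindep fun a _ => by
      obtain ⟨c, rfl⟩ := hrepr a
      exact Submodule.sum_mem _ fun q _ => Submodule.smul_mem _ _ (Submodule.subset_span ⟨q, rfl⟩))
  haveI : Nontrivial A := ⟨⟨0, 1, fun h => hone (congrArg Subtype.val h).symm⟩⟩
  haveI : IsSimpleRing A := IsSimpleRing.of_eq_bot_or_eq_top fun I => by
    by_cases hI : I = ⊥
    · exact Or.inl hI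
    refine Or.inr ?_
    obtain ⟨a, ha, ha0⟩ : ∃ a ∈ I, a ≠ 0 := by
      by_contra h
      push Not at h
      exact hI (TwoSidedIdeal.ext fun x => ⟨fun hx => by
        rw [TwoSidedIdeal.mem_bot]; exact h x hx, fun hx => by
        rw [TwoSidedIdeal.mem_bot] at hx; rw [hx]; exact I.zero_mem⟩)
    obtain ⟨c, rfl⟩ := hrepr a
    obtain ⟨q₀, hq₀⟩ : ∃ q, c q ≠ 0 := by
      by_contra h
      push Not at h
      exact ha0 (by simp [h])
    let J : Submodule K (Module.End K W) :=
      { carrier := {x | ∃ y : A, y ∈ I ∧ (y : Module.End K W) = x}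
        zero_mem' := ⟨0, I.zero_mem, rfl⟩
        add_mem' := fun ⟨y, hy, hyx⟩ ⟨y', hy', hyx'⟩ =>
          ⟨y + y', I.add_mem hy hy', by rw [← hyx, ← hyx']; rfl⟩
        smul_mem' := fun k x ⟨y, hy, hyx⟩ => ⟨(algebraMap K A k) * y, I.mul_mem_left _ _ hy, by
          rw [← hyx]; simp [Algebra.smul_def]⟩ }
    obtain ⟨y, hy, hy'⟩ := exists_unit_mem f χ hχ hcomm hinj J
      (fun g x ⟨y, hy, hyx⟩ => ⟨⟨f g, Algebra.subset_adjoin ⟨g, rfl⟩⟩ * y *
        ⟨f g⁻¹, Algebra.subset_adjoin ⟨_, rfl⟩⟩, I.mul_mem_right _ _ (I.mul_mem_left _ _ hy),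
        by rw [← hyx]; rfl⟩) c q₀ hq₀ ⟨_, ha, hcoe c⟩
    rw [← TwoSidedIdeal.one_mem_iff]
    have h1 := I.mul_mem_right y ⟨f (rep q₀)⁻¹, Algebra.subset_adjoin ⟨_, rfl⟩⟩ hy
    convert h1 using 1
    exact Subtype.ext (by
      show (1 : Module.End K W) = (y : Module.End K W) * f (rep q₀)⁻¹
      rw [hy', ← map_mul, mul_inv_cancel, map_one])
  haveI : IsArtinianRing A := IsArtinianRing.of_finite K A
  obtain ⟨n, hn, D, hD, hKD, hfin, ⟨φ⟩⟩ := IsSimpleRing.exists_algEquiv_matrix_divisionRing_finite K A
  haveI : Finite D := Module.finite_of_finite K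
  letI : Field D := littleWedderburn D
  have hz : ∀ d : D, ∃ k : K, algebraMap K D k = d := by
    intro d
    set a := φ.symm (Matrix.scalar (Fin n) d) with ha
    obtain ⟨c, hc⟩ := hrepr a
    have hcentral : ∀ q, q ≠ ((1 : F) : F ⧸ Subgroup.center F) → c q = 0 := by
      intro q₀ hq₀
      by_contra hne
      obtain ⟨g, hg⟩ : ∃ g : F, ⁅g, rep q₀⁆ ≠ 1 := by
        refine Classical.byContradiction fun h => ?_
        simp only [not_exists, not_not] at h
        refine hq₀ ?_
        rw [← Quotient.out_eq' q₀]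
        refine QuotientGroup.eq.2 ?_
        rw [mul_one]
        refine Subgroup.inv_mem _ (Subgroup.mem_center_iff.2 fun g => ?_)
        exact commutatorElement_eq_one_iff_mul_comm.1 (h g)
      have hcm : (⟨f g, Algebra.subset_adjoin ⟨g, rfl⟩⟩ : A) * a =
          a * ⟨f g, Algebra.subset_adjoin ⟨g, rfl⟩⟩ := by
        apply φ.injective
        rw [map_mul, map_mul, ha, φ.apply_symm_apply]
        exact ((Matrix.scalar_commute d (fun _ => Commute.all _ _) _)).symm.eq
      have hbr : ∀ q, ⁅g, rep q⁆ ∈ Subgroup.center F := fun q =>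
        hcomm (Subgroup.commutator_mem_commutator (Subgroup.mem_top g) (Subgroup.mem_top _))
      have h0 : ∑ q, (c q * (χ ⟨_, hbr q⟩ - 1)) • e q = 0 := by
        apply Subtype.ext
        have h2 := congrArg Subtype.val hcm
        rw [Subalgebra.coe_mul, Subalgebra.coe_mul, hc, hcoe, Finset.mul_sum,
          Finset.sum_mul] at h2
        have h3 : ∀ q, f g * c q • f (rep q) =
            (c q * χ ⟨_, hbr q⟩) • f (rep q) * f g := fun q => by
          rw [mul_smul_comm, ← map_mul, show g * rep q = ⁅g, rep q⁆ * (rep q * g) by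
            simp [commutatorElement_def, mul_assoc], map_mul, map_mul,
            show f ⁅g, rep q⁆ = χ ⟨_, hbr q⟩ • (1 : Module.End K W) from hχ ⟨_, hbr q⟩,
            smul_mul_assoc, one_mul, smul_smul, smul_mul_assoc]
        rw [Finset.sum_congr rfl (fun q _ => h3 q), ← Finset.sum_mul, ← Finset.sum_mul] at h2
        have h4 := ((Group.isUnit g).map f).mul_left_inj.1 h2
        rw [hcoe, ZeroMemClass.coe_zero]
        rw [← sub_eq_zero, ← Finset.sum_sub_distrib] at h4
        rw [← h4]
        refine Finset.sum_congr rfl fun q _ => ?_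
        rw [← sub_smul]
        congr 1
        ring
      have h5 := Fintype.linearIndependent_iff.1 hindep _ h0 q₀
      rcases mul_eq_zero.1 h5 with h | h
      · exact hne h
      · exact hg (congrArg Subtype.val (hinj ((sub_eq_zero.1 h).trans (map_one χ).symm)))
    rw [Fintype.sum_eq_single ((1 : F) : F ⧸ Subgroup.center F) (fun q hq => by
      rw [hcentral q hq, zero_smul])] at hc
    have h1 : e ((1 : F) : F ⧸ Subgroup.center F) =
        algebraMap K A (χ ⟨rep ((1 : F) : F ⧸ Subgroup.center F), by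
          have h := QuotientGroup.eq.1 (Quotient.out_eq' ((1 : F) : F ⧸ Subgroup.center F))
          rw [mul_one] at h
          exact inv_mem_iff.1 h⟩) := Subtype.ext (by
      rw [Subalgebra.coe_algebraMap, Algebra.algebraMap_eq_smul_one]
      exact hχ ⟨_, _⟩)
    rw [h1, Algebra.smul_def, ← map_mul] at hc
    refine ⟨c ((1 : F) : F ⧸ Subgroup.center F) * χ ⟨rep ((1 : F) : F ⧸ Subgroup.center F), by
      have h := QuotientGroup.eq.1 (Quotient.out_eq' ((1 : F) : F ⧸ Subgroup.center F))
      rw [mul_one] at h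
      exact inv_mem_iff.1 h⟩, ?_⟩
    have h2 := congrArg φ hc
    rw [ha, φ.apply_symm_apply, AlgEquiv.commutes] at h2
    have h3 := congrArg (fun M : Matrix (Fin n) (Fin n) D => M 0 0) h2
    simpa [Matrix.scalar_apply, Matrix.algebraMap_matrix_apply] using h3.symm
  have hDK : Module.finrank K D = 1 :=
    finrank_eq_one (1 : D) one_ne_zero fun d => by
      obtain ⟨k, hk⟩ := hz d
      exact ⟨k, by rw [← hk, Algebra.algebraMap_eq_smul_one]⟩
  refine ⟨n, ?_, ?_⟩
  · rw [← hdim, φ.toLinearEquiv.finrank_eq, Module.finrank_matrix, hDK]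
    simp
  -- matrix units
  let ψ : Matrix (Fin n) (Fin n) D →ₐ[K] Module.End K W := A.val.comp φ.symm.toAlgHom
  let E : Fin n → Fin n → Module.End K W := fun i j => ψ (Matrix.single i j 1)
  have hmul : ∀ i j k, E i j * E j k = E i k := fun i j k => by
    simp only [E, ← map_mul, Matrix.single_mul_single_same, mul_one]
  have hmul0 : ∀ i j k l, j ≠ k → E i j * E k l = 0 := fun i j k l h => by
    simp only [E, ← map_mul]
    rw [Matrix.single_mul_single_of_ne (h := h), map_zero]
  have hsum : ∑ i, E i i = 1 := by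
    simp only [E, ← map_sum]
    rw [show (∑ i, Matrix.single i i (1 : D)) = 1 by
      ext a b
      simp [Matrix.sum_apply, Matrix.single_apply, Matrix.one_apply, Finset.sum_ite_eq', ite_and],
      map_one]
  let U : Submodule K W := LinearMap.range (E 0 0)
  let Φ : W ≃ₗ[K] (Fin n → U) :=
    { toFun := fun w i => ⟨E 0 i w, E 0 i w, by rw [← Module.End.mul_apply, hmul]⟩
      map_add' := fun a b => by ext; simp
      map_smul' := fun k a => by ext; simp
      invFun := fun u => ∑ i, E i 0 (u i : W)
      left_inv := fun w => by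
        simp only [← Module.End.mul_apply, hmul, ← LinearMap.sum_apply, hsum]
        rfl
      right_inv := fun u => by
        funext i
        apply Subtype.ext
        show E 0 i (∑ j, E j 0 (u j : W)) = (u i : W)
        rw [map_sum, Finset.sum_eq_single i (fun j _ hj => by
          rw [← Module.End.mul_apply, hmul0 0 i j 0 hj.symm, LinearMap.zero_apply])
          (fun h => absurd (Finset.mem_univ i) h)]
        obtain ⟨w, hw⟩ := (u i).2
        rw [← Module.End.mul_apply, hmul, ← hw, ← Module.End.mul_apply, hmul] }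
  have hW : Module.finrank K W = n * Module.finrank K U := by
    rw [Φ.finrank_eq, Module.finrank_pi_fintype, Finset.sum_const, Finset.card_univ,
      Fintype.card_fin, smul_eq_mul]
  refine ⟨⟨_, hW⟩, fun hirr => ?_⟩
  obtain ⟨w, hw⟩ : ∃ w : U, w ≠ 0 := by
    by_contra h
    push Not at h
    haveI : Subsingleton U := ⟨fun a b => by rw [h a, h b]⟩
    rw [Module.finrank_zero_of_subsingleton (R := K) (M := U), mul_zero] at hW
    exact (Module.finrank_pos (R := K) (M := W)).ne' hW
  let T : Submodule K W := Submodule.span K (Set.range fun i => E i 0 (w : W))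
  have hT : ∀ g, ∀ x ∈ T, f g x ∈ T := by
    intro g
    set a : A := ⟨f g, Algebra.subset_adjoin ⟨g, rfl⟩⟩
    have hfg : f g = ∑ i, ∑ j, ψ (Matrix.single i j (φ a i j)) := by
      simp only [← map_sum, ← Matrix.matrix_eq_sum_single (φ a)]
      show _ = A.val (φ.symm (φ a))
      rw [φ.symm_apply_apply]; rfl
    have hs : ∀ i j (d : D), ∃ k : K, ψ (Matrix.single i j d) = k • E i j := fun i j d => by
      obtain ⟨k, rfl⟩ := hz d
      refine ⟨k, ?_⟩
      simp only [E, ← map_smul]
      congr 1
      ext a b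
      simp [Matrix.single_apply, Algebra.algebraMap_eq_smul_one]
    intro x hx
    refine (Submodule.span_le (p := T.comap (f g))).2 ?_ hx
    rintro _ ⟨l, rfl⟩
    show f g (E l 0 (w : W)) ∈ T
    rw [hfg, LinearMap.sum_apply]
    refine Submodule.sum_mem _ fun i _ => ?_
    rw [LinearMap.sum_apply]
    refine Submodule.sum_mem _ fun j _ => ?_
    obtain ⟨k, hk⟩ := hs i j (φ a i j)
    rw [hk, LinearMap.smul_apply, ← Module.End.mul_apply]
    refine Submodule.smul_mem _ _ ?_
    by_cases hjl : j = l
    · subst hjl; rw [hmul]; exact Submodule.subset_span ⟨i, rfl⟩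
    · rw [hmul0 i j l 0 hjl, LinearMap.zero_apply]; exact T.zero_mem
  have hwT : (w : W) ∈ T := by
    obtain ⟨v, hv⟩ := w.2
    refine Submodule.subset_span ⟨0, ?_⟩
    show E 0 0 (w : W) = (w : W)
    rw [← hv, ← Module.End.mul_apply, hmul]
  rcases hirr T hT with h | h
  · exact absurd (Subtype.ext ((Submodule.mem_bot K).1 (h ▸ hwT)) : w = 0) hw
  have hle : Module.finrank K W ≤ n := by
    rw [← finrank_top K W, ← h]
    exact (finrank_range_le_card (R := K) fun i => E i 0 (w : W)).trans_eq (Fintype.card_fin n)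
  refine le_antisymm hle (Nat.le_of_dvd Module.finrank_pos ⟨_, hW⟩)

end ClassTwo

section Arith

/-- Exact power of `u` in `q ^ (u ^ e) - 1` against the lower bound for multiples of `u ^ c`. -/
theorem exists_bound {u q c d e : ℕ} (hu : u.Prime) (hq : 1 < q) (huq : u ∣ q - 1) (hd : 0 < d)
    (he : e = c + d) (hex : ¬ (u = 2 ∧ c = 0 ∧ ¬ 4 ∣ q - 1)) :
    ∃ K : ℕ, (∀ j, u ^ K ∣ q ^ (u ^ c * j) - 1) ∧ ¬ u ^ (2 * d + K) ∣ q ^ (u ^ e) - 1 := by
  haveI := Fact.mk hu
  have hxu : ¬ u ∣ q := fun h => by
    have : u ∣ 1 := by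
      have h' := Nat.dvd_sub h huq
      rwa [show q - (q - 1) = 1 by omega] at h'
    exact hu.not_dvd_one this
  have hne : ∀ {k}, k ≠ 0 → q ^ k - 1 ≠ 0 := fun {k} hk =>
    Nat.sub_ne_zero_of_lt (Nat.one_lt_pow hk hq)
  refine ⟨padicValNat u (q ^ (u ^ c) - 1), fun j => ?_, ?_⟩
  · refine pow_padicValNat_dvd.trans ?_
    rw [pow_mul]
    simpa using Nat.sub_dvd_pow_sub_pow (q ^ (u ^ c)) 1 j
  rw [padicValNat_dvd_iff_le (hne (pow_ne_zero _ hu.ne_zero))]
  push Not
  have hvc : ∀ k, padicValNat u (u ^ k) = k := fun k => padicValNat.prime_pow k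
  by_cases h2 : u = 2
  · subst h2
    have hqo : ¬ 2 ∣ q := hxu
    have he0 : e ≠ 0 := by omega
    have h1 := padicValNat.pow_two_sub_one hq hqo (pow_ne_zero e two_ne_zero)
      ((Nat.even_pow.2 ⟨even_two, he0⟩))
    rw [hvc] at h1
    by_cases hc0 : c = 0
    · subst hc0
      have h4 : 4 ∣ q - 1 := by
        by_contra h
        exact hex ⟨rfl, rfl, h⟩
      have hplus : padicValNat 2 (q + 1) = 1 := by
        have h2' : 2 ^ 1 ∣ q + 1 := by omega
        have h4' : ¬ 2 ^ 2 ∣ q + 1 := by omega
        rw [padicValNat_dvd_iff_le (by omega)] at h2' h4'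
        omega
      simp only [pow_zero, pow_one]
      omega
    · have h3 := padicValNat.pow_two_sub_one hq hqo (pow_ne_zero c two_ne_zero)
        ((Nat.even_pow.2 ⟨even_two, hc0⟩))
      rw [hvc] at h3
      omega
  · have hodd : Odd u := hu.odd_of_ne_two h2
    have h1 := padicValNat.pow_sub_pow (p := u) hodd (x := q) (y := 1) hq huq hxu
      (pow_ne_zero e hu.ne_zero)
    have h3 := padicValNat.pow_sub_pow (p := u) hodd (x := q) (y := 1) hq huq hxu
      (pow_ne_zero c hu.ne_zero)
    simp only [one_pow, hvc] at h1 h3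
    omega

/-- Two representations of a number as a repunit in powers of the same prime agree. -/
theorem eq_of_repunit {p n a b m k : ℕ} (hp : p.Prime) (ha : 0 < a) (hb : 0 < b) (ham : a < m)
    (hbk : b < k) (h1 : p ^ m - 1 = n * (p ^ a - 1)) (h2 : p ^ k - 1 = n * (p ^ b - 1)) :
    m = k := by
  haveI := Fact.mk hp
  have one : ∀ {a m}, 0 < a → a < m → p ^ m - 1 = n * (p ^ a - 1) → padicValNat p (n - 1) = a := by
    intro a m ha ham h
    have hpa : 1 < p ^ a := Nat.one_lt_pow ha.ne' hp.one_lt
    have hpm : p ^ a < p ^ m := Nat.pow_lt_pow_right hp.one_lt ham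
    have hn : 1 < n := by
      by_contra hn
      interval_cases n <;> omega
    have e : (n - 1) * (p ^ a - 1) = p ^ a * (p ^ (m - a) - 1) := by
      rw [Nat.sub_mul, ← h, one_mul, Nat.mul_sub, mul_one, ← pow_add, Nat.add_sub_cancel' ham.le]
      omega
    have hv := congrArg (padicValNat p) e
    have hma : 1 < p ^ (m - a) := Nat.one_lt_pow (by omega) hp.one_lt
    rw [padicValNat.mul (by omega) (by omega), padicValNat.mul (by omega) (by omega),
      padicValNat.prime_pow] at hv
    have z : ∀ {x : ℕ}, x ≠ 0 → ¬ p ∣ p ^ x - 1 := fun {x} hx h' => by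
      have h'' := Nat.dvd_sub (dvd_pow_self p hx) h'
      rw [show p ^ x - (p ^ x - 1) = 1 by have := Nat.one_lt_pow hx hp.one_lt; omega] at h''
      exact hp.not_dvd_one h''
    rw [padicValNat.eq_zero_of_not_dvd (z ha.ne'),
      padicValNat.eq_zero_of_not_dvd (z (x := m - a) (by omega))] at hv
    omega
  have hab : a = b := (one ha ham h1).symm.trans (one hb hbk h2)
  subst hab
  have hpm : p ^ m = p ^ k := by
    have h3 := Nat.one_le_pow m p hp.pos
    have h4 := Nat.one_le_pow k p hp.pos
    omega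
  exact Nat.pow_right_injective hp.two_le hpm

end Arith

end CfsgLib.ZerosCodegree.Palfy
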