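import Mathlib

/-!
# Abelian normal subgroups when every vector is fixed by exactly one Sylow subgroup

If a finite group acts faithfully and irreducibly on a finite abelian group and every non-zero
vector is fixed by exactly one Sylow `t`-subgroup, where `t` is an odd prime dividing the order of
the group, then the image of every abelian normal subgroup generates a field of endomorphisms.
-/

set_option autoImplicit false
set_option linter.style.haveILetI false
set_option linter.unusedSectionVars false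

open scoped Pointwise

namespace CfsgLib.ZerosCodegree.Palfy

variable {H : Type*} [Group H] [Finite H] {V : Type*} [AddCommGroup V] [Finite V]
  (ρ : H →* AddMonoid.End V)

/-- Every element of `S` fixes `v`. -/
def Fixes (S : Subgroup H) (v : V) : Prop := ∀ x ∈ S, ρ x v = v

/-- Every non-zero vector is fixed by exactly one Sylow `t`-subgroup. -/
def Spread (t : ℕ) : Prop := ∀ v : V, v ≠ 0 → ∃! S : Sylow t H, Fixes ρ S v

/-- Irreducibility. -/
def Irr : Prop :=
  ∀ U : AddSubgroup V, (∀ h : H, ∀ v ∈ U, ρ h v ∈ U) → U = ⊥ ∨ U = ⊤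

variable {ρ}

theorem rho_mul_apply (a b : H) (v : V) : ρ (a * b) v = ρ a (ρ b v) := by rw [map_mul]; rfl

theorem rho_one_apply (v : V) : ρ 1 v = v := by rw [map_one]; rfl

theorem rho_inv_apply (a : H) (v : V) : ρ a⁻¹ (ρ a v) = v := by
  rw [← rho_mul_apply, inv_mul_cancel, rho_one_apply]

theorem rho_injective (a : H) : Function.Injective (ρ a) := fun v w h => by
  rw [← rho_inv_apply (ρ := ρ) a v, h, rho_inv_apply]

theorem eq_one_of_fixes (hρ : Function.Injective ρ) {x : H} (h : ∀ v, ρ x v = v) : x = 1 :=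
  hρ (DFunLike.ext _ _ fun v => (h v).trans (rho_one_apply v).symm)

theorem fixes_smul {t : ℕ} {g : H} {S : Sylow t H} {v : V} (h : Fixes ρ S v) :
    Fixes ρ (g • S : Sylow t H) (ρ g v) := by
  intro x hx
  rw [Sylow.coe_subgroup_smul, Subgroup.mem_pointwise_smul_iff_inv_smul_mem] at hx
  have h1 : ρ (g⁻¹ * x * g) v = v := h _ (by
    simpa [MulAut.smul_def, ← map_inv, MulAut.conj_apply] using hx)
  rw [rho_mul_apply, rho_mul_apply] at h1
  apply rho_injective (ρ := ρ) g⁻¹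
  rw [h1, rho_inv_apply]

variable [Nontrivial V]

/-- A normal `t`-subgroup is trivial. -/
theorem core_trivial (hρ : Function.Injective ρ) {t : ℕ} [Fact t.Prime] (hsp : Spread ρ t)
    {N : Subgroup H} [hN : N.Normal] (hp : IsPGroup t N) : N = ⊥ := by
  rw [eq_bot_iff]
  intro x hx
  rw [Subgroup.mem_bot]
  refine eq_one_of_fixes hρ fun v => ?_
  by_cases hv : v = 0
  · rw [hv, map_zero]
  obtain ⟨S, hS, -⟩ := hsp v hv
  obtain ⟨Q, hQ⟩ := hp.exists_le_sylow
  obtain ⟨g, hg⟩ := MulAction.exists_smul_eq H Q S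
  refine hS x ?_
  rw [← hg, Sylow.coe_subgroup_smul, Subgroup.mem_pointwise_smul_iff_inv_smul_mem]
  refine hQ ?_
  simpa [MulAut.smul_def, ← map_inv, MulAut.conj_apply] using hN.conj_mem x hx g⁻¹

theorem exists_not_fixes (hρ : Function.Injective ρ) {t : ℕ} [Fact t.Prime] (ht : t ∣ Nat.card H)
    (S : Sylow t H) : ∃ v, ¬ Fixes ρ S v := by
  by_contra h
  push Not at h
  refine S.ne_bot_of_dvd_card ht ((Subgroup.eq_bot_iff_forall _).2 fun x hx => ?_)
  exact eq_one_of_fixes hρ fun v => h v x hx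

variable (ρ)

/-- The subring generated by the image of `Z`. -/
def scalarRing (Z : Subgroup H) : Subring (AddMonoid.End V) := Subring.closure (ρ '' (Z : Set H))

variable {ρ}

theorem scalarRing_comm {Z : Subgroup H} (hZ : ∀ a ∈ Z, ∀ b ∈ Z, a * b = b * a)
    {a b : AddMonoid.End V} (ha : a ∈ scalarRing ρ Z) (hb : b ∈ scalarRing ρ Z) :
    a * b = b * a := by
  haveI : IsMulCommutative (Subring.closure (ρ '' (Z : Set H))) :=
    Subring.isMulCommutative_closure (by
      rintro _ ⟨x, hx, rfl⟩ _ ⟨y, hy, rfl⟩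
      rw [← map_mul, ← map_mul, hZ x hx y hy])
  exact congrArg Subtype.val (IsMulCommutative.is_comm.comm (⟨a, ha⟩ : Subring.closure _) ⟨b, hb⟩)

theorem scalarRing_conj {Z : Subgroup H} [hN : Z.Normal] (g : H) {a : AddMonoid.End V}
    (ha : a ∈ scalarRing ρ Z) : ρ g * a * ρ g⁻¹ ∈ scalarRing ρ Z := by
  have hc : ρ g⁻¹ * ρ g = 1 := by rw [← map_mul, inv_mul_cancel, map_one]
  induction ha using Subring.closure_induction with
  | mem x hx =>
    obtain ⟨z, hz, rfl⟩ := hx
    rw [← map_mul, ← map_mul]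
    exact Subring.subset_closure ⟨_, hN.conj_mem z hz g, rfl⟩
  | zero => simp
  | one => rw [mul_one, ← map_mul, mul_inv_cancel, map_one]; exact Subring.one_mem _
  | add x y _ _ hx hy => rw [mul_add, add_mul]; exact Subring.add_mem _ hx hy
  | neg x _ hx => rw [mul_neg, neg_mul]; exact Subring.neg_mem _ hx
  | mul x y _ _ hx hy =>
    rw [show ρ g * (x * y) * ρ g⁻¹ = (ρ g * x * ρ g⁻¹) * (ρ g * y * ρ g⁻¹) by
      simp only [mul_assoc]; rw [← mul_assoc (ρ g⁻¹) (ρ g), hc, one_mul]]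
    exact Subring.mul_mem _ hx hy

/-- The image of an abelian normal subgroup generates a ring of injective maps. -/
theorem scalarRing_injective (hρ : Function.Injective ρ) (hirr : Irr ρ) {t : ℕ} [Fact t.Prime]
    (htodd : Odd t) (ht : t ∣ Nat.card H) (hsp : Spread ρ t) (Z : Subgroup H) [hN : Z.Normal]
    (hZ : ∀ a ∈ Z, ∀ b ∈ Z, a * b = b * a) :
    ∀ a ∈ scalarRing ρ Z, a ≠ 0 → Function.Injective a := by
  classical
  -- a minimal invariant subgroup
  obtain ⟨U, hUne, hUinv, hUmin⟩ : ∃ U : AddSubgroup V, U ≠ ⊥ ∧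
      (∀ z ∈ Z, ∀ u ∈ U, ρ z u ∈ U) ∧ ∀ U' : AddSubgroup V, U' ≠ ⊥ →
        (∀ z ∈ Z, ∀ u ∈ U', ρ z u ∈ U') → U' ≤ U → U' = U := by
    haveI : Nonempty {U : AddSubgroup V // U ≠ ⊥ ∧ ∀ z ∈ Z, ∀ u ∈ U, ρ z u ∈ U} :=
      ⟨⟨⊤, top_ne_bot, fun _ _ _ _ => trivial⟩⟩
    obtain ⟨U, hU⟩ := Finite.exists_min (fun U : {U : AddSubgroup V // U ≠ ⊥ ∧
      ∀ z ∈ Z, ∀ u ∈ U, ρ z u ∈ U} => Nat.card U.1)
    exact ⟨U.1, U.2.1, U.2.2, fun U' h1 h2 h3 =>
      AddSubgroup.eq_of_le_of_card_ge h3 (hU ⟨U', h1, h2⟩)⟩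
  have hpres : ∀ a ∈ scalarRing ρ Z, ∀ u ∈ U, a u ∈ U := by
    intro a ha
    induction ha using Subring.closure_induction with
    | mem x hx => obtain ⟨z, hz, rfl⟩ := hx; exact hUinv z hz
    | zero => exact fun u _ => U.zero_mem
    | one => exact fun u hu => hu
    | add x y _ _ hx hy => exact fun u hu => U.add_mem (hx u hu) (hy u hu)
    | neg x _ hx => exact fun u hu => U.neg_mem (hx u hu)
    | mul x y _ _ hx hy => exact fun u hu => hx _ (hy u hu)
  let Ann : H → Set (AddMonoid.End V) := fun x =>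
    {a | a ∈ scalarRing ρ Z ∧ ∀ u ∈ U, a (ρ x u) = 0}
  have htrans : ∀ a ∈ scalarRing ρ Z, ∀ x, ∀ u ∈ U, ∃ u' ∈ U, a (ρ x u) = ρ x u' :=
    fun a ha x u hu => ⟨(ρ x⁻¹ * a * ρ x⁻¹⁻¹) u, hpres _ (scalarRing_conj x⁻¹ ha) u hu, by
      rw [inv_inv]
      show a (ρ x u) = ρ x (ρ x⁻¹ (a (ρ x u)))
      rw [← rho_mul_apply, mul_inv_cancel, rho_one_apply]⟩
  have hinj : ∀ a ∈ scalarRing ρ Z, ∀ x, a ∉ Ann x → ∀ u ∈ U, a (ρ x u) = 0 → u = 0 := by
    intro a ha x hax u hu h0
    by_contra hu0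
    let U' : AddSubgroup V :=
      { carrier := {w | w ∈ U ∧ a (ρ x w) = 0}
        zero_mem' := ⟨U.zero_mem, by simp⟩
        add_mem' := fun {w w'} h h' => ⟨U.add_mem h.1 h'.1, by simp [h.2, h'.2]⟩
        neg_mem' := fun {w} h => ⟨U.neg_mem h.1, by simp [h.2]⟩ }
    have hU' : U' = U := hUmin U' (fun h => hu0 ((AddSubgroup.mem_bot).1 (h ▸ (⟨hu, h0⟩ :
      u ∈ U')))) (fun z hz w hw => ⟨hUinv z hz w hw.1, by
      rw [← rho_mul_apply, show x * z = (x * z * x⁻¹) * x by group, rho_mul_apply]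
      show (a * ρ (x * z * x⁻¹)) (ρ x w) = 0
      rw [scalarRing_comm hZ ha (Subring.subset_closure ⟨_, hN.conj_mem z hz x, rfl⟩)]
      show ρ (x * z * x⁻¹) (a (ρ x w)) = 0
      rw [hw.2, map_zero]⟩) (fun w hw => hw.1)
    exact hax ⟨ha, fun w hw => (hU'.symm ▸ hw : w ∈ U').2⟩
  obtain ⟨u₀, hu₀, hu₀ne⟩ := (AddSubgroup.bot_or_exists_ne_zero U).resolve_left hUne
  have hpinj : ∀ a ∈ scalarRing ρ Z, ∀ x, a ∉ Ann x → ∀ i : ℕ, ∀ u ∈ U,
      (a ^ i) (ρ x u) = 0 → u = 0 := by
    intro a ha x hax i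
    induction i with
    | zero => exact fun u _ h => rho_injective (ρ := ρ) x ((h : ρ x u = 0).trans (map_zero _).symm)
    | succ i ih =>
      intro u hu h
      rw [pow_succ] at h
      obtain ⟨u', hu', he⟩ := htrans a ha x u hu
      change (a ^ i) (a (ρ x u)) = 0 at h
      rw [he] at h
      have := ih u' hu' h
      rw [this, map_zero] at he
      exact hinj a ha x hax u hu he
  haveI : Finite (AddMonoid.End V) := Finite.of_injective _ DFunLike.coe_injective
  have hpow : ∀ a ∈ scalarRing ρ Z, ∀ x, a ∉ Ann x →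
      ∃ k, 0 < k ∧ ∀ u ∈ U, (a ^ k) (ρ x u) = ρ x u := by
    intro a ha x hax
    obtain ⟨i, j, hij, he⟩ := Finite.exists_ne_map_eq_of_infinite fun k : ℕ => a ^ k
    wlog hlt : i < j generalizing i j
    · exact this j i hij.symm he.symm (by omega)
    refine ⟨j - i, by omega, fun u hu => ?_⟩
    obtain ⟨u', hu', hu''⟩ := htrans _ (Subring.pow_mem _ ha (j - i)) x u hu
    rw [hu'']
    refine congrArg _ (sub_eq_zero.1 (hpinj a ha x hax i _ (U.sub_mem hu' hu) ?_))
    rw [map_sub, map_sub, ← hu'']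
    show (a ^ i * a ^ (j - i)) (ρ x u) - (a ^ i) (ρ x u) = 0
    rw [← pow_add, Nat.add_sub_cancel' hlt.le, ← he, sub_self]
  have hsub1 : ∀ a ∈ scalarRing ρ Z, ∀ k : ℕ, a ^ k - 1 ∈ scalarRing ρ Z := fun a ha k =>
    Subring.sub_mem _ (Subring.pow_mem _ ha k) (Subring.one_mem _)
  have hmax : ∀ x y, Ann x ⊆ Ann y → Ann x = Ann y := by
    intro x y h
    refine h.antisymm fun a ha => ?_
    by_contra hax
    obtain ⟨k, hk, hk'⟩ := hpow a ha.1 x hax
    have h1 : a ^ k - 1 ∈ Ann y := h ⟨hsub1 a ha.1 k, fun u hu => by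
      show (a ^ k) (ρ x u) - ρ x u = 0
      rw [hk' u hu, sub_self]⟩
    have h2 : (a ^ k) (ρ y u₀) - ρ y u₀ = 0 := h1.2 u₀ hu₀
    obtain ⟨m, rfl⟩ : ∃ m, k = m + 1 := ⟨k - 1, by omega⟩
    rw [pow_succ] at h2
    change (a ^ m) (a (ρ y u₀)) - ρ y u₀ = 0 at h2
    rw [ha.2 u₀ hu₀, map_zero, zero_sub, neg_eq_zero] at h2
    exact hu₀ne (rho_injective (ρ := ρ) y (h2.trans (map_zero _).symm))
  have hequiv : ∀ g x y, Ann x = Ann y → Ann (g * x) = Ann (g * y) := by
    suffices H : ∀ g x y, Ann x = Ann y → Ann (g * x) ⊆ Ann (g * y) from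
      fun g x y h => (H g x y h).antisymm (H g y x h.symm)
    intro g x y h a ha
    refine ⟨ha.1, fun u hu => ?_⟩
    have key : ∀ (z : H) (w : V), (ρ g⁻¹ * a * ρ g⁻¹⁻¹) (ρ z w) = ρ g⁻¹ (a (ρ (g * z) w)) :=
      fun z w => by
        show ρ g⁻¹ (a (ρ g⁻¹⁻¹ (ρ z w))) = _
        rw [inv_inv, rho_mul_apply]
    have h1 : ρ g⁻¹ * a * ρ g⁻¹⁻¹ ∈ Ann x := ⟨scalarRing_conj g⁻¹ ha.1, fun w hw => by
      rw [key, ha.2 w hw, map_zero]⟩
    rw [h] at h1
    have h2 := h1.2 u hu
    rw [key] at h2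
    exact rho_injective (ρ := ρ) g⁻¹ (h2.trans (map_zero _).symm)
  have hsep : ∀ x (l : List H), (∀ y ∈ l, Ann y ≠ Ann x) →
      ∃ e ∈ scalarRing ρ Z, e ∉ Ann x ∧ ∀ y ∈ l, e ∈ Ann y := by
    intro x l
    induction l with
    | nil =>
      refine fun _ => ⟨1, Subring.one_mem _, fun h => hu₀ne (rho_injective (ρ := ρ) x
        ((h.2 u₀ hu₀).trans (map_zero _).symm)), fun y hy => absurd hy List.not_mem_nil⟩
    | cons y l ih =>
      intro hl
      obtain ⟨e, he, hex, hel⟩ := ih fun z hz => hl z (List.mem_cons_of_mem _ hz)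
      obtain ⟨b, hby, hbx⟩ := Set.not_subset.1 fun h =>
        hl y List.mem_cons_self (hmax y x h)
      refine ⟨e * b, Subring.mul_mem _ he hby.1, fun h => hu₀ne ?_, fun z hz => ?_⟩
      · obtain ⟨u', hu', h'⟩ := htrans b hby.1 x u₀ hu₀
        have h2 : e (b (ρ x u₀)) = 0 := h.2 u₀ hu₀
        rw [h'] at h2
        rw [hinj e he x hex u' hu' h2, map_zero] at h'
        exact hinj b hby.1 x hbx u₀ hu₀ h'
      · refine ⟨Subring.mul_mem _ he hby.1, fun u hu => ?_⟩
        rcases List.mem_cons.1 hz with rfl | hz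
        · show e (b (ρ z u)) = 0
          rw [hby.2 u hu, map_zero]
        · rw [scalarRing_comm hZ he hby.1]
          show b (e (ρ z u)) = 0
          rw [(hel z hz).2 u hu, map_zero]
  have hpair : ∀ x y, Ann x ≠ Ann y → ∀ u ∈ U, ∀ u' ∈ U, u ≠ 0 →
      ρ x u + ρ y u' ≠ 0 := by
    intro x y hxy u hu u' hu' hune h
    obtain ⟨e, he, hex, hey⟩ := hsep x [y] (by simpa using hxy.symm)
    have h1 := congrArg e h
    rw [map_add, (hey y List.mem_cons_self).2 u' hu', add_zero, map_zero] at h1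
    exact hune (hinj e he x hex u hu h1)
  have hboth : ∀ x y, Ann x ≠ Ann y → ∀ u ∈ U, ∀ u' ∈ U, u ≠ 0 → u' ≠ 0 → ∀ S : Sylow t H,
      Fixes ρ S (ρ x u + ρ y u') → Fixes ρ S (ρ x u) ∧ Fixes ρ S (ρ y u') := by
    have half : ∀ x y, Ann x ≠ Ann y → ∀ u ∈ U, ∀ u' ∈ U, u ≠ 0 → u' ≠ 0 → ∀ S : Sylow t H,
        Fixes ρ S (ρ x u + ρ y u') → Fixes ρ S (ρ x u) := by
      intro x y hxy u hu u' hu' hune hune' S hS
      have one : ∀ s ∈ (S : Subgroup H), ∀ x y : H, ∀ u ∈ U, ∀ u' ∈ U, u ≠ 0 → Ann x ≠ Ann y →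
          ρ (s * x) u + ρ (s * y) u' = ρ x u + ρ y u' →
          Ann (s * x) = Ann x ∨ Ann (s * y) = Ann x := by
        intro s _ x y u hu u' hu' hune hxy h
        by_contra hne
        push Not at hne
        obtain ⟨e, he, hex, hey⟩ := hsep x [y, s * x, s * y] (by
          simp only [List.mem_cons, List.not_mem_nil, or_false]
          rintro z (rfl | rfl | rfl)
          exacts [hxy.symm, hne.1, hne.2])
        have h1 := congrArg e h
        rw [map_add, map_add, (hey (s * x) (by simp)).2 u hu, (hey (s * y) (by simp)).2 u' hu',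
          (hey y (by simp)).2 u' hu', add_zero, add_zero] at h1
        exact hune (hinj e he x hex u hu h1.symm)
      intro s hs
      have h0 : ρ (s * x) u + ρ (s * y) u' = ρ x u + ρ y u' := by
        rw [rho_mul_apply, rho_mul_apply, ← map_add]; exact hS s hs
      have h1 := one s hs x y u hu u' hu' hune hxy h0
      have h2 := one s hs y x u' hu' u hu hune' hxy.symm (by rw [add_comm, h0, add_comm])
      have hPmul : ∀ g g' : H, (Ann (g * x) = Ann x ∧ Ann (g * y) = Ann y) →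
          (Ann (g' * x) = Ann x ∧ Ann (g' * y) = Ann y) →
          (Ann (g * g' * x) = Ann x ∧ Ann (g * g' * y) = Ann y) := fun g g' h h' =>
        ⟨by rw [mul_assoc, hequiv g _ _ h'.1, h.1], by rw [mul_assoc, hequiv g _ _ h'.2, h.2]⟩
      have hs' : Ann (s * x) = Ann x := by
        rcases h1 with h1 | h1
        · exact h1
        rcases h2 with h2 | h2
        · exact absurd (h1.symm.trans h2) hxy
        have hsq : Ann (s * s * x) = Ann x ∧ Ann (s * s * y) = Ann y :=
          ⟨by rw [mul_assoc, hequiv s _ _ h2, h1], by rw [mul_assoc, hequiv s _ _ h1, h2]⟩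
        have hodd : Odd (orderOf s) := by
          obtain ⟨k, hk⟩ := S.2 ⟨s, hs⟩
          obtain ⟨j, -, hj⟩ := (Nat.dvd_prime_pow Fact.out).1
            (orderOf_dvd_of_pow_eq_one (congrArg Subtype.val hk : s ^ t ^ k = 1))
          rw [hj]; exact htodd.pow
        obtain ⟨m, hm⟩ := hodd
        have hall : ∀ k : ℕ, Ann ((s * s) ^ k * x) = Ann x ∧ Ann ((s * s) ^ k * y) = Ann y := by
          intro k
          induction k with
          | zero => simp
          | succ k ih => rw [pow_succ]; exact hPmul _ _ ih hsq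
        have h3 := (hall (m + 1)).1
        rwa [show (s * s) ^ (m + 1) = s by
          rw [← sq, ← pow_mul, show 2 * (m + 1) = orderOf s + 1 by omega, pow_succ,
            pow_orderOf_eq_one, one_mul]] at h3
      have hsy : Ann (s * y) = Ann y := by
        rcases h2 with h2 | h2
        · exact h2
        · exact absurd (hs'.symm.trans h2) hxy
      obtain ⟨a, hay, hax⟩ := Set.not_subset.1 fun h => hxy (hmax y x h).symm
      obtain ⟨k, hk, hk'⟩ := hpow a hay.1 x hax
      have hkill : ∀ z, a ∈ Ann z → ∀ w ∈ U, (a ^ k) (ρ z w) = 0 := by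
        intro z hz w hw
        obtain ⟨m, rfl⟩ : ∃ m, k = m + 1 := ⟨k - 1, by omega⟩
        rw [pow_succ]
        show (a ^ m) (a (ρ z w)) = 0
        rw [hz.2 w hw, map_zero]
      have h5 : (a ^ k) (ρ (s * x) u) = ρ (s * x) u := by
        have h6 : a ^ k - 1 ∈ Ann (s * x) := by
          rw [hs']
          exact ⟨hsub1 a hay.1 k, fun w hw => by
            show (a ^ k) (ρ x w) - ρ x w = 0
            rw [hk' w hw, sub_self]⟩
        exact sub_eq_zero.1 (h6.2 u hu)
      have h7 := congrArg (a ^ k) h0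
      rw [map_add, map_add, h5, hk' u hu, hkill y hay u' hu',
        hkill (s * y) (hsy.symm ▸ hay) u' hu', add_zero, add_zero, rho_mul_apply] at h7
      exact h7
    intro x y hxy u hu u' hu' hune hune' S hS
    exact ⟨half x y hxy u hu u' hu' hune hune' S hS,
      half y x hxy.symm u' hu' u hu hune' hune S (by rwa [add_comm])⟩
  -- all translates have the same annihilator
  have hsame : ∀ x y, Ann x = Ann y := by
    by_contra hne
    push Not at hne
    obtain ⟨x₀, y₀, hxy⟩ := hne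
    have hne0 : ∀ x, ∀ u ∈ U, u ≠ 0 → ρ x u ≠ 0 := fun x u _ h h' =>
      h (rho_injective (ρ := ρ) x (h'.trans (map_zero _).symm))
    have hlink : ∀ x y, Ann x ≠ Ann y → ∀ u ∈ U, ∀ u' ∈ U, u ≠ 0 → u' ≠ 0 → ∀ S : Sylow t H,
        Fixes ρ S (ρ y u') → Fixes ρ S (ρ x u) := by
      intro x y hxy u hu u' hu' hune hune' S hS
      obtain ⟨S', hS', -⟩ := hsp _ (hpair x y hxy u hu u' hu' hune)
      obtain ⟨h1, h2⟩ := hboth x y hxy u hu u' hu' hune hune' S' hS'
      obtain ⟨T, -, huniq⟩ := hsp _ (hne0 y u' hu' hune')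
      rw [show S = S' from (huniq S hS).trans (huniq S' h2).symm]
      exact h1
    obtain ⟨S₀, hS₀, -⟩ := hsp _ (hne0 x₀ u₀ hu₀ hu₀ne)
    have hall : ∀ x, ∀ u ∈ U, Fixes ρ S₀ (ρ x u) := by
      intro x u hu
      by_cases hu0 : u = 0
      · intro s _; simp [hu0]
      by_cases hx : Ann x = Ann x₀
      · exact hlink x y₀ (hx.symm ▸ hxy) u hu u₀ hu₀ hu0 hu₀ne S₀
          (hlink y₀ x₀ hxy.symm u₀ hu₀ u₀ hu₀ hu₀ne hu₀ne S₀ hS₀)
      · exact hlink x x₀ hx u hu u₀ hu₀ hu0 hu₀ne S₀ hS₀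
    let X : AddSubgroup V := AddSubgroup.closure {w | ∃ x : H, ∃ u ∈ U, ρ x u = w}
    have hX : X = ⊤ := (hirr X fun h v hv => by
      induction hv using AddSubgroup.closure_induction with
      | mem w hw =>
        obtain ⟨x, u, hu, rfl⟩ := hw
        exact AddSubgroup.subset_closure ⟨h * x, u, hu, rho_mul_apply h x u⟩
      | zero => rw [map_zero]; exact X.zero_mem
      | add a b _ _ ha hb => rw [map_add]; exact X.add_mem ha hb
      | neg a _ ha => rw [map_neg]; exact X.neg_mem ha).resolve_left fun h => hu₀ne (by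
        have hm : u₀ ∈ X := AddSubgroup.subset_closure ⟨1, u₀, hu₀, rho_one_apply u₀⟩
        rw [h] at hm
        exact (AddSubgroup.mem_bot).1 hm)
    obtain ⟨v, hv⟩ := exists_not_fixes hρ ht S₀
    refine hv fun s hs => ?_
    clear hv
    have hvX : v ∈ X := hX ▸ AddSubgroup.mem_top v
    induction hvX using AddSubgroup.closure_induction with
    | mem w hw => obtain ⟨x, u, hu, rfl⟩ := hw; exact hall x u hu s hs
    | zero => exact map_zero _
    | add a b _ _ ha hb => rw [map_add, ha, hb]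
    | neg a _ ha => rw [map_neg, ha]
  intro a ha hane
  have hker : ∀ b ∈ scalarRing ρ Z, b ∈ Ann 1 → b = 0 := by
    intro b hb hb1
    let Y : AddSubgroup V := AddSubgroup.closure {w | ∃ x : H, ∃ u ∈ U, ρ x u = w}
    have hY : Y = ⊤ := (hirr Y fun h v hv => by
      induction hv using AddSubgroup.closure_induction with
      | mem w hw =>
        obtain ⟨x, u, hu, rfl⟩ := hw
        exact AddSubgroup.subset_closure ⟨h * x, u, hu, rho_mul_apply h x u⟩
      | zero => rw [map_zero]; exact Y.zero_mem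
      | add p q _ _ hp hq => rw [map_add]; exact Y.add_mem hp hq
      | neg p _ hp => rw [map_neg]; exact Y.neg_mem hp).resolve_left fun h => hu₀ne (by
        have hm : u₀ ∈ Y := AddSubgroup.subset_closure ⟨1, u₀, hu₀, rho_one_apply u₀⟩
        rw [h] at hm
        exact (AddSubgroup.mem_bot).1 hm)
    refine DFunLike.ext _ _ fun v => ?_
    have hvY : v ∈ Y := hY ▸ AddSubgroup.mem_top v
    induction hvY using AddSubgroup.closure_induction with
    | mem w hw =>
      obtain ⟨x, u, hu, rfl⟩ := hw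
      exact ((hsame 1 x ▸ hb1 : b ∈ Ann x)).2 u hu
    | zero => exact map_zero b
    | add p q _ _ hp hq => rw [map_add, hp, hq]; simp
    | neg p _ hp => rw [map_neg, hp]; simp
  obtain ⟨k, hk, hk'⟩ := hpow a ha 1 fun h => hane (hker a ha h)
  have h1 : a ^ k = 1 := sub_eq_zero.1 (hker _ (hsub1 a ha k) ⟨hsub1 a ha k, fun u hu => by
    show (a ^ k) (ρ 1 u) - ρ 1 u = 0
    rw [hk' u hu, sub_self]⟩)
  intro v w hvw
  obtain ⟨m, rfl⟩ : ∃ m, k = m + 1 := ⟨k - 1, by omega⟩
  have h2 : ∀ v, (a ^ m) (a v) = v := fun v => by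
    show (a ^ m * a) v = v
    rw [← pow_succ, h1]; rfl
  rw [← h2 v, hvw, h2]

end CfsgLib.ZerosCodegree.Palfy
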