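import Cfsg.Agent.Lib.ZerosCodegree.PalfyClassTwo
import Cfsg.Agent.Lib.ZerosCodegree.PalfyField

/-!
# Counting fixed vectors under a normal subgroup of class two

A Sylow subgroup commuting with the scalars, whose conjugates fix each non-zero vector exactly once,
can move a normal `u`-subgroup of class two with scalar centre only when `u = 2`, the subgroup has
centre of order two and the Sylow subgroup fixes nothing outside that centre.
-/

set_option autoImplicit false
set_option linter.style.haveILetI false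
set_option linter.unusedSectionVars false

open scoped Pointwise commutatorElement

namespace CfsgLib.ZerosCodegree.Palfy

theorem card_center_eq {H : Type*} [Group H] (E : Subgroup H) :
    Nat.card (Subgroup.center E) =
      Nat.card (E ⊓ Subgroup.centralizer (E : Set H) : Subgroup H) := by
  refine Nat.card_congr
    { toFun := fun z => ⟨z.1.1, z.1.2, Subgroup.mem_centralizer_iff.2 fun y hy =>
        congrArg Subtype.val (Subgroup.mem_center_iff.1 z.2 ⟨y, hy⟩)⟩
      invFun := fun z => ⟨⟨z.1, z.2.1⟩, Subgroup.mem_center_iff.2 fun y =>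
        Subtype.ext (Subgroup.mem_centralizer_iff.1 z.2.2 y y.2)⟩
      left_inv := fun z => rfl
      right_inv := fun z => rfl }

theorem center_ne_bot {H : Type*} [Group H] [Finite H] {p : ℕ} [Fact p.Prime] {E : Subgroup H}
    (hE : IsPGroup p E) (hne : E ≠ ⊥) : Subgroup.center E ≠ ⊥ := by
  haveI : Nontrivial E := (Subgroup.nontrivial_iff_ne_bot E).2 hne
  exact (Subgroup.nontrivial_iff_ne_bot _).1 hE.center_nontrivial

variable {H : Type*} [Group H] [Finite H] {V : Type*} [AddCommGroup V] [Finite V] [Nontrivial V]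
  {K : Type*} [Field K] [Finite K] [Module K V] {ρ : H →* AddMonoid.End V}

/-- A group of `K`-linear maps restricted to an invariant subspace. -/
def restrictHom (G : Subgroup H) (hlin : ∀ g ∈ G, ∀ (k : K) v, ρ g (k • v) = k • ρ g v)
    (W : Submodule K V) (hW : ∀ g ∈ G, ∀ v ∈ W, ρ g v ∈ W) : G →* Module.End K W where
  toFun g :=
    { toFun := fun w => ⟨ρ g w, hW g g.2 w w.2⟩
      map_add' := fun a b => Subtype.ext (by simp)
      map_smul' := fun k a => Subtype.ext (hlin g g.2 k a) }
  map_one' := by ext w; exact rho_one_apply (w : V)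
  map_mul' a b := by ext w; exact rho_mul_apply (a : H) b (w : V)

@[simp] theorem coe_restrictHom (G : Subgroup H)
    (hlin : ∀ g ∈ G, ∀ (k : K) v, ρ g (k • v) = k • ρ g v) (W : Submodule K V)
    (hW : ∀ g ∈ G, ∀ v ∈ W, ρ g v ∈ W) (g : G) (w : W) :
    ((restrictHom G hlin W hW g w : W) : V) = ρ g w := rfl

/-- Dimensions of invariant subspaces. -/
theorem dim_invariant (hρ : Function.Injective ρ) (G : Subgroup H)
    (hlin : ∀ g ∈ G, ∀ (k : K) v, ρ g (k • v) = k • ρ g v)
    (hscal : ∀ z : Subgroup.center G, ∃ k : K, ∀ v, ρ ((z : G) : H) v = k • v)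
    (hcl : commutator G ≤ Subgroup.center G) (W : Submodule K V) (hWne : W ≠ ⊥)
    (hW : ∀ g ∈ G, ∀ v ∈ W, ρ g v ∈ W) :
    ∃ n : ℕ, n * n = (Subgroup.center G).index ∧ n ∣ Module.finrank K W ∧
      ((∀ U : Submodule K V, U ≤ W → (∀ g ∈ G, ∀ v ∈ U, ρ g v ∈ U) → U = ⊥ ∨ U = W) →
        Module.finrank K W = n) := by
  classical
  haveI : Nontrivial W := Submodule.nontrivial_iff_ne_bot.2 hWne
  choose χ hχ using hscal
  obtain ⟨v₀, hv₀⟩ := exists_ne (0 : V)
  have huniq : ∀ {k k' : K}, k • v₀ = k' • v₀ → k = k' := fun h => smul_left_injective K hv₀ h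
  let χ' : Subgroup.center G →* K :=
    { toFun := χ
      map_one' := huniq (by rw [← hχ, one_smul]; exact rho_one_apply v₀)
      map_mul' := fun a b => huniq (by
        rw [← hχ, mul_smul, ← hχ, ← hχ]; exact rho_mul_apply _ _ _) }
  have hinj : Function.Injective χ' := fun a b h => by
    apply Subtype.ext
    apply Subtype.ext
    apply hρ
    exact DFunLike.ext _ _ fun v => by rw [hχ, hχ]; exact congrArg (· • v) h
  obtain ⟨n, hn, hdvd, hirr⟩ := exists_dim (restrictHom G hlin W hW) χ'
    (fun z => by ext w; exact hχ z (w : V)) hcl hinj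
  refine ⟨n, hn, hdvd, fun h => hirr fun U hU => ?_⟩
  rcases h (U.map W.subtype) (Submodule.map_subtype_le W U) (fun g hg v hv => by
    obtain ⟨u, hu, rfl⟩ := Submodule.mem_map.1 hv
    exact Submodule.mem_map.2 ⟨_, hU ⟨g, hg⟩ u hu, rfl⟩) with h' | h'
  · exact Or.inl (Submodule.map_injective_of_injective W.subtype_injective
      (h'.trans (Submodule.map_bot _).symm))
  · exact Or.inr (Submodule.map_injective_of_injective W.subtype_injective
      (h'.trans (Submodule.map_subtype_top W).symm))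

/-- The exceptional configuration is the only one. -/
theorem exceptional (hρ : Function.Injective ρ) {t u : ℕ} [Fact t.Prime] [Fact u.Prime]
    (htu : t ≠ u) (hsp : Spread ρ t) (C : Subgroup H) [C.Normal]
    (hlin : ∀ c ∈ C, ∀ (k : K) v, ρ c (k • v) = k • ρ c v) (E : Subgroup H) [E.Normal]
    (hEC : E ≤ C) (hEp : IsPGroup u E) (hcl : commutator E ≤ Subgroup.center E)
    (hscal : ∀ z ∈ E ⊓ Subgroup.centralizer (E : Set H), ∃ k : K, ∀ v, ρ z v = k • v)
    (S : Sylow t H) (hSC : (S : Subgroup H) ≤ C)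
    (hmove : ¬ E ≤ Subgroup.centralizer (S : Set H)) :
    u = 2 ∧ Nat.card (Subgroup.center E) = 2 ∧
      E ⊓ Subgroup.centralizer (S : Set H) ≤ Subgroup.centralizer (E : Set H) := by
  classical
  set Zu : Subgroup H := E ⊓ Subgroup.centralizer (E : Set H) with hZu
  have hEne : E ≠ ⊥ := fun h => hmove (h ▸ bot_le)
  -- every Sylow subgroup lies in `C`
  have hallC : ∀ T : Sylow t H, (T : Subgroup H) ≤ C := by
    intro T x hx
    obtain ⟨g, rfl⟩ := MulAction.exists_smul_eq H S T
    rw [Sylow.coe_subgroup_smul, Subgroup.mem_pointwise_smul_iff_inv_smul_mem] at hx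
    have h := Subgroup.Normal.conj_mem (H := C) inferInstance _ (hSC hx) g
    simpa [MulAut.smul_def, ← map_inv, MulAut.conj_apply, mul_assoc] using h
  -- scalars commute with everything in `C`
  have hZC : ∀ z ∈ Zu, ∀ c ∈ C, z * c = c * z := by
    intro z hz c hc
    obtain ⟨k, hk⟩ := hscal z hz
    exact hρ (DFunLike.ext _ _ fun v => by
      rw [rho_mul_apply, rho_mul_apply, hk, hk, hlin c hc])
  -- centralisers of Sylow subgroups in `E`
  let E' : Sylow t H → Subgroup H := fun T => E ⊓ Subgroup.centralizer (T : Set H)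
  have hcent : ∀ T : Sylow t H, E' T ⊓ Subgroup.centralizer (E' T : Set H) = Zu := by
    intro T
    ext z
    constructor
    · rintro ⟨⟨hzE, hzT⟩, hzC⟩
      refine ⟨hzE, Subgroup.mem_centralizer_iff.2 fun e he => ?_⟩
      -- a fixed point in the coset of the centraliser of `z` in `E`
      let Kz : Subgroup E := (Subgroup.centralizer {z}).subgroupOf E
      have hhom : ∀ a b : E, ⁅z, (a * b : H)⁆ = ⁅z, (a : H)⁆ * ⁅z, (b : H)⁆ := by
        intro a b
        have hc : ⁅(⟨z, hzE⟩ : E), b⁆ ∈ Subgroup.center E :=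
          hcl (Subgroup.commutator_mem_commutator (Subgroup.mem_top _) (Subgroup.mem_top _))
        have hc' : (a : H) * ⁅z, (b : H)⁆ = ⁅z, (b : H)⁆ * a :=
          congrArg Subtype.val (Subgroup.mem_center_iff.1 hc a)
        rw [show ⁅z, (a * b : H)⁆ = ⁅z, (a : H)⁆ * ((a : H) * ⁅z, (b : H)⁆ * (a : H)⁻¹) by
          simp [commutatorElement_def, mul_assoc], hc', mul_inv_cancel_right]
      have hinv : ∀ a : E, ⁅z, (a : H)⁆ * ⁅z, (a : H)⁻¹⁆ = 1 := fun a => by
        simpa using (hhom a a⁻¹).symm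
      have hinv' : ∀ a : E, ⁅z, (a : H)⁻¹⁆ * ⁅z, (a : H)⁆ = 1 := fun a => by
        simpa using (hhom a⁻¹ a).symm
      have hmemK : ∀ a : E, a ∈ Kz ↔ ⁅z, (a : H)⁆ = 1 := by
        intro a
        rw [Subgroup.mem_subgroupOf, Subgroup.mem_centralizer_iff,
          commutatorElement_eq_one_iff_mul_comm]
        simp [eq_comm]
      haveI : Kz.Normal := ⟨fun a ha g => by
        rw [hmemK] at ha ⊢
        push_cast
        have h1 := hhom (g * a) g⁻¹
        push_cast at h1
        rw [h1, hhom, ha, mul_one, hinv]⟩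
      have hTfix : ∀ s ∈ (T : Subgroup H), ∀ a : E, ⁅z, s * a * s⁻¹⁆ = ⁅z, (a : H)⁆ := by
        intro s hs a
        have h1 : s * ⁅z, (a : H)⁆ * s⁻¹ = ⁅z, (a : H)⁆ := by
          have hz' : ⁅z, (a : H)⁆ ∈ Zu := by
            have hc : ⁅(⟨z, hzE⟩ : E), a⁆ ∈ Subgroup.center E :=
              hcl (Subgroup.commutator_mem_commutator (Subgroup.mem_top _) (Subgroup.mem_top _))
            exact ⟨(⁅(⟨z, hzE⟩ : E), a⁆).2, Subgroup.mem_centralizer_iff.2 fun y hy =>
              congrArg Subtype.val (Subgroup.mem_center_iff.1 hc ⟨y, hy⟩)⟩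
          rw [← hZC _ hz' s (hallC T hs), mul_inv_cancel_right]
        have h2 : s * z * s⁻¹ = z := by
          rw [Subgroup.mem_centralizer_iff.1 hzT s hs, mul_inv_cancel_right]
        calc ⁅z, s * a * s⁻¹⁆ = ⁅s * z * s⁻¹, s * a * s⁻¹⁆ := by rw [h2]
          _ = s * ⁅z, (a : H)⁆ * s⁻¹ := (conjugate_commutatorElement _ _ _).symm
          _ = ⁅z, (a : H)⁆ := h1
      -- the coset as a set on which `T` acts
      let X := {x : E // ⁅z, (x : H)⁆ = ⁅z, e⁆}
      letI : MulAction T X :=
        { smul := fun s x => ⟨⟨s * x * (s : H)⁻¹,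
            Subgroup.Normal.conj_mem inferInstance _ x.1.2 _⟩, (hTfix s s.2 x.1).trans x.2⟩
          one_smul := fun x => Subtype.ext (Subtype.ext (by
            show (1 : H) * x.1 * (1 : H)⁻¹ = x.1; simp))
          mul_smul := fun a b x => Subtype.ext (Subtype.ext (by
            show (a * b : H) * x.1 * (a * b : H)⁻¹ = (a : H) * ((b : H) * x.1 * (b : H)⁻¹) * (a : H)⁻¹
            group)) }
      have hX : Nat.card X = Nat.card Kz := Nat.card_congr
        { toFun := fun x => ⟨(⟨e, he⟩ : E)⁻¹ * x.1, by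
            rw [hmemK, Subgroup.coe_mul, hhom, x.2]
            exact hinv' ⟨e, he⟩⟩
          invFun := fun k => ⟨⟨e, he⟩ * k.1, by
            show ⁅z, ((⟨e, he⟩ : E) : H) * (k.1 : H)⁆ = ⁅z, e⁆
            rw [hhom, (hmemK _).1 k.2, mul_one]⟩
          left_inv := fun x => Subtype.ext (mul_inv_cancel_left _ _)
          right_inv := fun k => Subtype.ext (inv_mul_cancel_left _ _) }
      obtain ⟨x, hx⟩ := T.2.nonempty_fixed_point_of_prime_not_dvd_card (α := X) (by
        obtain ⟨k, hk⟩ := IsPGroup.iff_card.1 (hEp.to_subgroup Kz)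
        rw [hX, hk]
        exact fun h => htu ((Nat.prime_dvd_prime_iff_eq Fact.out Fact.out).1
          ((Fact.out : t.Prime).dvd_of_dvd_pow h)))
      have hxT : (x.1 : H) ∈ E' T := ⟨x.1.2, Subgroup.mem_centralizer_iff.2 fun s hs => by
        have h1 : s * (x.1 : H) * s⁻¹ = x.1 :=
          congrArg (fun y : X => (y.1 : H)) (hx ⟨s, hs⟩)
        exact mul_inv_eq_iff_eq_mul.1 h1⟩
      have h1 : ⁅z, e⁆ = 1 := by
        rw [← x.2, commutatorElement_eq_one_iff_mul_comm]
        exact (Subgroup.mem_centralizer_iff.1 hzC _ hxT).symm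
      exact (commutatorElement_eq_one_iff_mul_comm.1 h1).symm
    · intro hz
      have hzT : z ∈ Subgroup.centralizer (T : Set H) := Subgroup.mem_centralizer_iff.2 fun s hs =>
        (hZC z hz s (hallC T hs)).symm
      exact ⟨⟨hz.1, hzT⟩, Subgroup.mem_centralizer_iff.2 fun y hy =>
        Subgroup.mem_centralizer_iff.1 hz.2 y hy.1⟩
  -- conjugate centralisers have the same order
  have hcard : ∀ T : Sylow t H, Nat.card (E' T) = Nat.card (E' S) := by
    intro T
    obtain ⟨g, rfl⟩ := MulAction.exists_smul_eq H S T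
    have key : ∀ (g : H) (T : Sylow t H), ∀ x ∈ E' T, g * x * g⁻¹ ∈ E' (g • T) := by
      intro g T x hx
      refine ⟨Subgroup.Normal.conj_mem inferInstance x hx.1 g,
        Subgroup.mem_centralizer_iff.2 fun s hs => ?_⟩
      change s ∈ ((g • T : Sylow t H) : Subgroup H) at hs
      rw [Sylow.coe_subgroup_smul, Subgroup.mem_pointwise_smul_iff_inv_smul_mem] at hs
      have h1 := Subgroup.mem_centralizer_iff.1 hx.2 _ hs
      simp only [MulAut.smul_def, ← map_inv, MulAut.conj_apply, inv_inv] at h1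
      calc s * (g * x * g⁻¹) = g * (g⁻¹ * s * g * x) * g⁻¹ := by group
        _ = g * (x * (g⁻¹ * s * g)) * g⁻¹ := by rw [h1]
        _ = g * x * g⁻¹ * s := by group
    refine (Nat.card_congr
      { toFun := fun x : E' S => (⟨g * (x : H) * g⁻¹, key g S x x.2⟩ : E' (g • S))
        invFun := fun x : E' (g • S) =>
          (⟨g⁻¹ * (x : H) * g, by simpa using key g⁻¹ (g • S) x x.2⟩ : E' S)
        left_inv := fun x => Subtype.ext (by group)
        right_inv := fun x => Subtype.ext (by group) }).symm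
  -- dimensions
  have hsc : ∀ G : Subgroup H, G ⊓ Subgroup.centralizer (G : Set H) = Zu →
      ∀ z : Subgroup.center G, ∃ k : K, ∀ v, ρ ((z : G) : H) v = k • v := by
    intro G hG z
    refine hscal _ ?_
    rw [← hG]
    exact ⟨z.1.2, Subgroup.mem_centralizer_iff.2 fun y hy =>
      congrArg Subtype.val (Subgroup.mem_center_iff.1 z.2 ⟨y, hy⟩)⟩
  have hclT : ∀ T, commutator (E' T) ≤ Subgroup.center (E' T) := by
    intro T
    refine Subgroup.commutator_le.2 fun a _ b _ => Subgroup.mem_center_iff.2 fun y => Subtype.ext ?_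
    have hc : ⁅(⟨a.1, a.2.1⟩ : E), ⟨b.1, b.2.1⟩⁆ ∈ Subgroup.center E :=
      hcl (Subgroup.commutator_mem_commutator (Subgroup.mem_top _) (Subgroup.mem_top _))
    exact congrArg (fun w : E => (w : H)) (Subgroup.mem_center_iff.1 hc ⟨y.1, y.2.1⟩)
  have hdimT : ∀ T, ∀ W : Submodule K V, W ≠ ⊥ → (∀ g ∈ E' T, ∀ v ∈ W, ρ g v ∈ W) →
      ∃ n : ℕ, n * n = (Subgroup.center (E' S)).index ∧ n ∣ Module.finrank K W := by
    intro T W hne hW
    obtain ⟨n, hn, hd, -⟩ := dim_invariant hρ (E' T) (fun g hg => hlin g (hEC hg.1))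
      (hsc _ (hcent T)) (hclT T) W hne hW
    refine ⟨n, hn.trans ?_, hd⟩
    have h1 := (Subgroup.center (E' T)).index_mul_card
    have h2 := (Subgroup.center (E' S)).index_mul_card
    rw [card_center_eq, hcent] at h1 h2
    rw [hcard T, ← h2] at h1
    exact Nat.eq_of_mul_eq_mul_right Nat.card_pos h1
  -- an irreducible subspace
  haveI : Nonempty {W : Submodule K V // W ≠ ⊥ ∧ ∀ g ∈ E, ∀ v ∈ W, ρ g v ∈ W} :=
    ⟨⟨⊤, top_ne_bot, fun _ _ _ _ => trivial⟩⟩
  haveI : Finite (Submodule K V) := Finite.of_injective _ SetLike.coe_injective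
  obtain ⟨⟨W, hWne, hW⟩, hWmin⟩ := Finite.exists_min
    (fun W : {W : Submodule K V // W ≠ ⊥ ∧ ∀ g ∈ E, ∀ v ∈ W, ρ g v ∈ W} => Nat.card W.1)
  obtain ⟨N, hN, -, hNirr⟩ := dim_invariant hρ E (fun g hg => hlin g (hEC hg))
    (hsc E rfl) hcl W hWne hW
  have hdimW : Module.finrank K W = N := by
    refine hNirr fun U hUW hU => ?_
    by_cases hU0 : U = ⊥
    · exact Or.inl hU0
    · exact Or.inr (Submodule.toAddSubgroup_injective (AddSubgroup.eq_of_le_of_card_ge
        (fun v hv => hUW hv) (hWmin ⟨U, hU0, hU⟩)))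
  -- prime power arithmetic
  obtain ⟨a, ha⟩ := IsPGroup.iff_card.1 hEp
  obtain ⟨b, hb⟩ := IsPGroup.iff_card.1 (hEp.to_le (inf_le_left : E' S ≤ E))
  have hupow : ∀ {G : Subgroup H} {k m : ℕ}, Nat.card G = u ^ k →
      m * m = (Subgroup.center G).index → ∃ i, m = u ^ i := by
    intro G k m hG hm
    obtain ⟨i, -, hi⟩ := (Nat.dvd_prime_pow Fact.out).1 (((Dvd.intro m rfl).trans
      (hm ▸ (Subgroup.index_dvd_card _))).trans hG.dvd)
    exact ⟨i, hi⟩
  obtain ⟨e, rfl⟩ := hupow ha hN
  obtain ⟨n0, hn0, -⟩ := hdimT S ⊤ top_ne_bot (fun _ _ _ _ => trivial)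
  obtain ⟨c, rfl⟩ := hupow hb hn0
  have hZcard : Nat.card (Subgroup.center E) = Nat.card (Subgroup.center (E' S)) := by
    rw [card_center_eq, card_center_eq, hcent]
  have hEcard : Nat.card E = u ^ (2 * e) * Nat.card (Subgroup.center E) := by
    rw [← (Subgroup.center E).index_mul_card, ← hN, ← pow_add, two_mul]
  have hScard : Nat.card (E' S) = u ^ (2 * c) * Nat.card (Subgroup.center E) := by
    rw [hZcard, ← (Subgroup.center (E' S)).index_mul_card, ← hn0, ← pow_add, two_mul]
  have hlt : Nat.card (E' S) < Nat.card E := lt_of_le_of_ne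
    (Subgroup.card_le_of_le inf_le_left) fun h => hmove (by
      rw [← Subgroup.eq_of_le_of_card_ge inf_le_left h.ge]; exact inf_le_right)
  have hu1 : 1 < u := (Fact.out : u.Prime).one_lt
  have hce : c < e := by
    rw [hScard, hEcard] at hlt
    have := (Nat.pow_lt_pow_iff_right hu1).1 (Nat.lt_of_mul_lt_mul_right hlt)
    omega
  -- the centre embeds into the units of the field
  choose κ hκ using hsc E rfl
  obtain ⟨v₀, hv₀⟩ := exists_ne (0 : V)
  have huniq : ∀ {k k' : K}, k • v₀ = k' • v₀ → k = k' := fun h => smul_left_injective K hv₀ h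
  let κ' : Subgroup.center E →* K :=
    { toFun := κ
      map_one' := huniq (by rw [← hκ, one_smul]; exact rho_one_apply v₀)
      map_mul' := fun a b => huniq (by
        rw [← hκ, mul_smul, ← hκ, ← hκ]; exact rho_mul_apply _ _ _) }
  have hκinj : Function.Injective κ'.toHomUnits := fun a b h => by
    apply Subtype.ext
    apply Subtype.ext
    apply hρ
    exact DFunLike.ext _ _ fun v => by
      rw [hκ, hκ]; exact congrArg (fun x : Kˣ => (x : K) • v) h
  have hZdvd : Nat.card (Subgroup.center E) ∣ Nat.card K - 1 := by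
    rw [← Nat.card_units K]; exact Subgroup.card_dvd_of_injective _ hκinj
  obtain ⟨z, hz⟩ := IsPGroup.iff_card.1 (hEp.to_subgroup (Subgroup.center E))
  have hz1 : 1 ≤ z := by
    by_contra h
    rw [show z = 0 by omega, pow_zero] at hz
    exact center_ne_bot hEp hEne (Subgroup.eq_bot_of_card_eq _ hz)
  have huq : u ∣ Nat.card K - 1 := (dvd_pow_self u (by omega : z ≠ 0)).trans (hz ▸ hZdvd)
  by_cases hex : u = 2 ∧ c = 0 ∧ ¬ 4 ∣ Nat.card K - 1
  · obtain ⟨hu2, hc0, h4⟩ := hex
    refine ⟨hu2, ?_, ?_⟩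
    · have hz2 : z = 1 := by
        by_contra h
        refine h4 ((?_ : 4 ∣ u ^ z).trans (hz ▸ hZdvd))
        rw [hu2]
        exact pow_dvd_pow 2 (show 2 ≤ z by omega)
      rw [hz, hu2, hz2, pow_one]
    · have h1 : E' S = Zu := by
        refine (Subgroup.eq_of_le_of_card_ge ((hcent S).symm.le.trans inf_le_left) ?_).symm
        rw [← card_center_eq E, hScard, hc0]
        simp
      show E' S ≤ _
      rw [h1]
      exact inf_le_right
  exfalso
  obtain ⟨d, rfl⟩ : ∃ d, e = c + d := ⟨e - c, by omega⟩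
  obtain ⟨k₀, hk₀, hk₁⟩ := exists_bound (Fact.out : u.Prime) (Finite.one_lt_card (α := K)) huq
    (show 0 < d by omega) rfl hex
  refine hk₁ ?_
  -- count the non-zero vectors of `W` by the subgroup fixing them
  haveI := Fintype.ofFinite W
  haveI := Fintype.ofFinite (Sylow t H)
  set P : Finset W := Finset.univ.filter fun w : W => w ≠ 0
  let fix' : W → Sylow t H := fun w => if h : (w : V) = 0 then S else (hsp (w : V) h).choose
  have hfix : ∀ w ∈ P, Fixes ρ (fix' w) (w : V) ∧ ∀ T : Sylow t H, Fixes ρ T (w : V) → T = fix' w := by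
    intro w hw
    have hw0 : (w : V) ≠ 0 := fun h => (Finset.mem_filter.1 hw).2 (Subtype.ext h)
    simp only [fix', dif_neg hw0]
    exact (hsp (w : V) hw0).choose_spec
  have hPcard : P.card = Nat.card K ^ (u ^ (c + d)) - 1 := by
    rw [← hdimW, ← Module.natCard_eq_pow_finrank, Nat.card_eq_fintype_card,
      show P = Finset.univ.erase 0 by ext; simp [P], Finset.card_erase_of_mem (Finset.mem_univ _),
      Finset.card_univ]
  rw [← hPcard]
  let F : Sylow t H → ℕ := fun T => (P.filter fun w => fix' w = T).card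
  have hFeq : ∀ T : Sylow t H, (P.filter fun w => fix' w = T) =
      P.filter fun w : W => Fixes ρ T (w : V) := fun T => Finset.filter_congr fun w hw =>
    ⟨fun h => h ▸ (hfix w hw).1, fun h => ((hfix w hw).2 T h).symm⟩
  have hFdvd : ∀ T, u ^ k₀ ∣ F T := by
    intro T
    let X : Submodule K V :=
      { carrier := {v | v ∈ W ∧ Fixes ρ T v}
        zero_mem' := ⟨W.zero_mem, fun x _ => map_zero _⟩
        add_mem' := fun {a b} ha hb => ⟨W.add_mem ha.1 hb.1, fun x hx => by
          rw [map_add, ha.2 x hx, hb.2 x hx]⟩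
        smul_mem' := fun k a ha => ⟨W.smul_mem k ha.1, fun x hx => by
          rw [hlin x (hallC T hx), ha.2 x hx]⟩ }
    have hFX : F T = Nat.card X - 1 := by
      haveI := Fintype.ofFinite X
      have e : F T = ((Finset.univ : Finset X).erase 0).card := by
        show (P.filter fun w => fix' w = T).card = _
        rw [hFeq]
        refine Finset.card_bij (fun w hw => (⟨(w : V), w.2, (Finset.mem_filter.1 hw).2⟩ : X)) ?_ ?_ ?_
        · intro w hw
          simp only [Finset.mem_erase, Finset.mem_univ, and_true]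
          exact fun h => (Finset.mem_filter.1 (Finset.mem_filter.1 hw).1).2
            (Subtype.ext (congrArg (fun x : X => (x : V)) h))
        · intro a _ b _ h
          exact Subtype.ext (congrArg Subtype.val h :)
        · intro x hx
          refine ⟨⟨x, x.2.1⟩, Finset.mem_filter.2 ⟨Finset.mem_filter.2 ⟨Finset.mem_univ _,
            fun h => (Finset.mem_erase.1 hx).1 (Subtype.ext (congrArg Subtype.val h :))⟩, x.2.2⟩, rfl⟩
      rw [e, Finset.card_erase_of_mem (Finset.mem_univ _), Finset.card_univ,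
        Nat.card_eq_fintype_card]
    by_cases hX : X = ⊥
    · rw [hFX, hX]; simp
    obtain ⟨n, hn, j, hj⟩ := hdimT T X hX fun g hg v hv => ⟨hW g hg.1 v hv.1, fun x hx => by
      rw [← rho_mul_apply, Subgroup.mem_centralizer_iff.1 hg.2 x hx, rho_mul_apply, hv.2 x hx]⟩
    have hnc : n = u ^ c := Nat.mul_self_inj.1 (hn.trans hn0.symm)
    rw [hFX, Module.natCard_eq_pow_finrank (K := K), hj, hnc]
    exact hk₀ j
  have horb : ∀ T : Sylow t H, u ^ (2 * d) ∣ Nat.card (MulAction.orbit E T) := by
    intro T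
    have hstab : MulAction.stabilizer E T = (E' T).subgroupOf E := by
      ext g
      rw [MulAction.mem_stabilizer_iff, Subgroup.mem_subgroupOf]
      show (g : H) • T = T ↔ _
      rw [Sylow.smul_eq_iff_mem_normalizer]
      constructor
      · intro hg
        refine ⟨g.2, Subgroup.mem_centralizer_iff.2 fun s hs => ?_⟩
        have h1 : ⁅(g : H), s⁆ ∈ E := by
          rw [commutatorElement_def, mul_assoc, mul_assoc]
          exact E.mul_mem g.2 (by
            simpa [mul_assoc] using Subgroup.Normal.conj_mem inferInstance _ (E.inv_mem g.2) s)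
        have h2 : ⁅(g : H), s⁆ ∈ (T : Subgroup H) :=
          (T : Subgroup H).mul_mem ((Subgroup.mem_normalizer_iff.1 hg s).1 hs)
            ((T : Subgroup H).inv_mem hs)
        have h3 : ⁅(g : H), s⁆ = 1 := by
          have hdis := IsPGroup.disjoint_of_ne u t htu.symm E T hEp T.2
          exact (Subgroup.disjoint_def.1 hdis) h1 h2
        exact (commutatorElement_eq_one_iff_mul_comm.1 h3).symm
      · intro hg
        exact Subgroup.centralizer_le_normalizer _ hg.2
    have h1 : Nat.card (MulAction.orbit E T) = ((E' T).subgroupOf E).index := by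
      rw [← hstab, MulAction.index_stabilizer, Nat.card_coe_set_eq]
    have h2 := Subgroup.index_mul_card ((E' T).subgroupOf E)
    rw [Nat.card_congr (Subgroup.subgroupOfEquivOfLe (inf_le_left : E' T ≤ E)).toEquiv,
      hcard T, hScard, hEcard, ← h1, ← mul_assoc] at h2
    have h3 := Nat.eq_of_mul_eq_mul_right Nat.card_pos h2
    rw [show 2 * (c + d) = 2 * d + 2 * c by ring, pow_add] at h3
    exact (Nat.eq_of_mul_eq_mul_right (pow_pos (by omega) _) h3).symm.dvd
  have hFinv : ∀ (g : E) (T : Sylow t H), F (g • T) = F T := by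
    intro g T
    show (P.filter fun w => fix' w = g • T).card = (P.filter fun w => fix' w = T).card
    rw [hFeq, hFeq]
    refine (Finset.card_bij (fun (w : W) _ => (⟨ρ g (w : V), hW g g.2 (w : V) w.2⟩ : W)) ?_ ?_ ?_).symm
    · intro w hw
      rw [Finset.mem_filter] at hw ⊢
      refine ⟨Finset.mem_filter.2 ⟨Finset.mem_univ _, fun h => (Finset.mem_filter.1 hw.1).2 ?_⟩,
        fixes_smul hw.2⟩
      exact Subtype.ext (rho_injective (ρ := ρ) (g : H)
        ((congrArg Subtype.val h :).trans (map_zero _).symm))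
    · intro a _ b _ h
      exact Subtype.ext (rho_injective (ρ := ρ) (g : H) (congrArg Subtype.val h :))
    · intro w hw
      rw [Finset.mem_filter] at hw
      refine ⟨⟨ρ (g : H)⁻¹ w, hW _ (E.inv_mem g.2) w w.2⟩, ?_, Subtype.ext ?_⟩
      · rw [Finset.mem_filter]
        refine ⟨Finset.mem_filter.2 ⟨Finset.mem_univ _, fun h => (Finset.mem_filter.1 hw.1).2 ?_⟩, ?_⟩
        · exact Subtype.ext (rho_injective (ρ := ρ) (g : H)⁻¹
            ((congrArg Subtype.val h :).trans (map_zero _).symm))
        · have h := fixes_smul (g := (g : H)⁻¹) hw.2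
          rwa [show ((g : H)⁻¹ • ((g : E) • T) : Sylow t H) = T from inv_smul_smul (g : H) T] at h
      · show ρ (g : H) (ρ (g : H)⁻¹ w) = w
        rw [← rho_mul_apply, mul_inv_cancel, rho_one_apply]
  rw [Finset.card_eq_sum_card_fiberwise (f := fix') (t := Finset.univ) (fun _ _ => Finset.mem_univ _)]
  show u ^ (2 * d + k₀) ∣ ∑ T, F T
  rw [← Finset.sum_fiberwise Finset.univ (fun T : Sylow t H =>
    Quotient.mk (MulAction.orbitRel E (Sylow t H)) T) F]
  refine Finset.dvd_sum fun o _ => ?_
  induction o using Quotient.inductionOn with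
  | _ T =>
    have hset : ∀ T', (T' ∈ (Finset.univ.filter fun T' : Sylow t H =>
        Quotient.mk (MulAction.orbitRel E (Sylow t H)) T' = Quotient.mk _ T)) ↔
        T' ∈ MulAction.orbit E T := fun T' => by
      rw [Finset.mem_filter, Quotient.eq]
      simp [MulAction.orbitRel_apply]
    rw [Finset.sum_congr rfl (fun T' hT' => by
      obtain ⟨g, hg⟩ := (hset T').1 hT'
      rw [← hg]; exact hFinv g T : ∀ T' ∈ _, F T' = F T), Finset.sum_const, smul_eq_mul, pow_add]
    refine mul_dvd_mul ?_ (hFdvd T)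
    refine (horb T).trans (dvd_of_eq ?_)
    rw [Nat.card_eq_fintype_card, ← Set.toFinset_card]
    congr 1
    ext T'
    rw [Set.mem_toFinset]
    exact (hset T').symm

end CfsgLib.ZerosCodegree.Palfy
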