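import Cfsg.Agent.Lib.Clifford.DetChar
import Cfsg.Agent.Lib.Clifford.Extension
import Cfsg.Agent.Lib.CharDegreesTheory.ResidualSum
import Cfsg.Agent.Lib.BrauerCharacters.ClassMul
import Cfsg.Agent.Lib.BlockLocal.NormalInduce
import Cfsg.Agent.Lib.CharTheory.Ito
import Cfsg.Agent.Lib.CharDegreesTheory.GoodCharacters
import Cfsg.Prelude.Def_DegreeGraph

/-!
# The common divisor graph on the degrees relative to a normal subgroup

For `N` normal in `G` inside the derived subgroup, all degrees over non-trivial linear characters of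
`N` lie in one connected component of the common divisor graph of the relative degrees, and so does
every relative degree prime to some prime divisor of the index of the derived subgroup of `N`.
-/

set_option autoImplicit false
set_option linter.style.haveILetI false
set_option linter.unusedSectionVars false

namespace CfsgLib.ZerosCodegree.RelGraph

open Cfsg CfsgLib.CharTheory CfsgLib.Clifford

universe u

section Det

variable {G : Type u} [Group G] [Finite G]

/-- The determinant of the character of a representation. -/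
theorem detChar_character {V : Type*} [AddCommGroup V] [Module ℂ V] [FiniteDimensional ℂ V]
    (τ : Representation ℂ G V) (g : G) : detChar τ.character g = LinearMap.det (τ g) := by
  let e := (Module.finBasis ℂ V).equivFun
  let σ : Representation ℂ G (Fin (Module.finrank ℂ V) → ℂ) :=
    { toFun := fun x => e.toLinearMap ∘ₗ τ x ∘ₗ e.symm.toLinearMap
      map_one' := by ext; simp
      map_mul' := fun a b => by ext; simp }
  have hσ : σ.character = τ.character := funext fun x => by
    show LinearMap.trace ℂ _ (e.toLinearMap ∘ₗ τ x ∘ₗ e.symm.toLinearMap) = _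
    exact LinearMap.trace_conj' (τ x) e
  rw [detChar_eq σ hσ, linFun_apply, detHom_apply]
  exact LinearMap.det_conj _ e

theorem detChar_zero (g : G) : detChar (0 : G → ℂ) g = 1 := by
  let τ : Representation ℂ G (Fin 0 → ℂ) := 1
  have h : τ.character = 0 := funext fun x => by
    show LinearMap.trace ℂ _ (τ x) = 0
    rw [show τ x = 0 from Subsingleton.elim _ _, map_zero]
  rw [← h, detChar_character, show τ g = 1 from Subsingleton.elim _ _, map_one]

theorem detChar_add {χ ψ : G → ℂ} (hχ : IsCharacter G χ) (hψ : IsCharacter G ψ) (g : G) :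
    detChar (χ + ψ) g = detChar χ g * detChar ψ g := by
  obtain ⟨n, ρ, rfl⟩ := hχ
  obtain ⟨m, σ, rfl⟩ := hψ
  have e : (ρ.prod σ).character = ρ.character + σ.character := funext fun x =>
    LinearMap.trace_prodMap' (ρ x) (σ x)
  rw [← e, detChar_character, detChar_character, detChar_character]
  exact LinearMap.det_prodMap _ _

theorem detChar_sum {ι : Type*} (s : Finset ι) (f : ι → G → ℂ)
    (hf : ∀ i ∈ s, IsCharacter G (f i)) (g : G) :
    IsCharacter G (∑ i ∈ s, f i) ∧ detChar (∑ i ∈ s, f i) g = ∏ i ∈ s, detChar (f i) g := by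
  classical
  induction s using Finset.induction with
  | empty =>
    refine ⟨⟨0, 1, funext fun x => ?_⟩, by simp [detChar_zero]⟩
    show LinearMap.trace ℂ _ ((1 : Representation ℂ G (Fin 0 → ℂ)) x) = _
    rw [show (1 : Representation ℂ G (Fin 0 → ℂ)) x = 0 from Subsingleton.elim _ _, map_zero]
    simp
  | insert a s ha ih =>
    obtain ⟨h1, h2⟩ := ih fun i hi => hf i (Finset.mem_insert_of_mem hi)
    have h3 := hf a (Finset.mem_insert_self a s)
    rw [Finset.sum_insert ha, Finset.prod_insert ha]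
    exact ⟨CfsgLib.Coherence.isCharacter_add h3 h1, by rw [detChar_add h3 h1, h2]⟩

theorem detChar_linFun (l : G →* ℂˣ) : detChar (linFun l) = linFun l :=
  CfsgLib.CharDegreesTheory.detChar_of_degree_one (isCharacter_linFun l)
    (by simp [linFun_apply])

end Det

section Over

variable {G : Type u} [Group G] [Fintype G] (N : Subgroup G) [N.Normal] [Fintype N]

/-- `χ` lies over `θ`. -/
def Over (χ : IrrCharacter G) (θ : IrrCharacter N) : Prop :=
  classInner (fun n : N => (χ : G → ℂ) n) (θ : N → ℂ) ≠ 0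

theorem exists_mult {χ : IrrCharacter G} {θ : IrrCharacter N} (h : Over N χ θ) :
    ∃ e : ℕ, classInner (fun n : N => (χ : G → ℂ) n) (θ : N → ℂ) = e ∧
      charDegree (χ : G → ℂ) =
        e * (conjOrbit N (θ : N → ℂ)).card * charDegree (θ : N → ℂ) := by
  obtain ⟨e, he⟩ := IsCharacter.exists_classInner_eq_nat
    (CfsgLib.Coherence.isCharacter_comp (IsIrrCharacter.isCharacter χ.2) N.subtype) θ
  have he' : classInner (fun n : N => (χ : G → ℂ) n) (θ : N → ℂ) = e := he
  refine ⟨e, he', ?_⟩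
  have h1 := apply_one_eq N χ.2 θ.2 h
  rw [he', (BrauerCharacters.charDegree_spec χ).1, (BrauerCharacters.charDegree_spec θ).1] at h1
  exact_mod_cast h1

theorem index_dvd {χ : IrrCharacter G} {θ : IrrCharacter N} (h : Over N χ θ) :
    (inertia N (θ : N → ℂ)).index ∣ charDegree (χ : G → ℂ) := by
  obtain ⟨e, -, hd⟩ := exists_mult N h
  rw [card_conjOrbit N (θ : N → ℂ) _ (mem_inertia N (θ : N → ℂ))] at hd
  exact hd ▸ Dvd.dvd.mul_right (dvd_mul_left _ _) _

theorem degree_dvd {χ : IrrCharacter G} {θ : IrrCharacter N} (h : Over N χ θ) :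
    charDegree (θ : N → ℂ) ∣ charDegree (χ : G → ℂ) := by
  obtain ⟨e, -, hd⟩ := exists_mult N h
  exact hd ▸ dvd_mul_left _ _

/-- The determinant of a character of `G` is trivial on a subgroup of the derived subgroup. -/
theorem prod_det_eq_one (hNG : N ≤ commutator G) {χ : IrrCharacter G} {θ : IrrCharacter N}
    (h : Over N χ θ) :
    ∃ e : ℕ, charDegree (χ : G → ℂ) =
        e * (conjOrbit N (θ : N → ℂ)).card * charDegree (θ : N → ℂ) ∧
      ∀ n : N, (∏ η ∈ conjOrbit N (θ : N → ℂ), detChar η n) ^ e = 1 := by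
  classical
  obtain ⟨e, he, hd⟩ := exists_mult N h
  refine ⟨e, hd, fun n => ?_⟩
  have hres := res_eq N χ.2 θ.2 h
  rw [he] at hres
  have hsum : (fun n : N => (χ : G → ℂ) n) =
      ∑ i ∈ (Finset.range e ×ˢ conjOrbit N (θ : N → ℂ)), i.2 := by
    rw [hres, Finset.sum_product]
    simp [Finset.card_range, ← Nat.cast_smul_eq_nsmul ℂ]
  obtain ⟨-, hdet⟩ := detChar_sum (Finset.range e ×ˢ conjOrbit N (θ : N → ℂ))
    (fun i => i.2) (fun i hi => by
      obtain ⟨g, hg⟩ := (mem_conjOrbit N).1 (Finset.mem_product.1 hi).2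
      rw [← hg]
      exact IsIrrCharacter.isCharacter (isIrrCharacter_conjChar N θ.2 g)) n
  rw [← hsum, Finset.prod_product] at hdet
  simp only [Finset.prod_const, Finset.card_range] at hdet
  rw [← hdet, ← detChar_restrict N (IsIrrCharacter.isCharacter χ.2) (fun m => rfl) n]
  obtain ⟨l, hl⟩ := exists_detChar_eq (IsIrrCharacter.isCharacter χ.2)
  rw [hl, linFun_apply]
  have hker : commutator G ≤ l.ker := Abelianization.commutator_subset_ker l
  rw [MonoidHom.mem_ker.1 (hker (hNG n.2)), Units.val_one]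

/-- A linear character of `N` as an irreducible character. -/
def linIrr (μ : N →* ℂˣ) : IrrCharacter N := ⟨linFun μ, isIrrCharacter_linear μ⟩

@[simp] theorem coe_linIrr (μ : N →* ℂˣ) : (linIrr N μ : N → ℂ) = linFun μ := rfl

theorem charDegree_linIrr (μ : N →* ℂˣ) : charDegree (linIrr N μ : N → ℂ) = 1 := by
  have h := (BrauerCharacters.charDegree_spec (linIrr N μ)).1
  rw [show (linIrr N μ : N → ℂ) 1 = 1 by show linFun μ 1 = 1; simp [linFun_apply]] at h
  exact_mod_cast h.symm

theorem conjOrbit_of_top {θ : N → ℂ} (h : inertia N θ = ⊤) : conjOrbit N θ = {θ} := by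
  classical
  ext η
  rw [mem_conjOrbit, Finset.mem_singleton]
  refine ⟨fun ⟨g, hg⟩ => ?_, fun hη => ⟨1, by rw [conjChar_one, hη]⟩⟩
  rw [← hg, (mem_inertia N θ g).1 (h ▸ Subgroup.mem_top g)]

/-- The order of an invariant linear character divides the degrees over it. -/
theorem orderOf_dvd_of_invariant (hNG : N ≤ commutator G) {μ : N →* ℂˣ}
    (hμ : inertia N (linFun μ) = ⊤) {χ : IrrCharacter G} (h : Over N χ (linIrr N μ)) :
    orderOf μ ∣ charDegree (χ : G → ℂ) := by
  obtain ⟨e, hd, hone⟩ := prod_det_eq_one N hNG h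
  have horb : conjOrbit N (linIrr N μ : N → ℂ) = {linFun μ} := conjOrbit_of_top N hμ
  rw [charDegree_linIrr, horb, Finset.card_singleton, mul_one, mul_one] at hd
  rw [hd]
  refine orderOf_dvd_of_pow_eq_one (MonoidHom.ext fun n => Units.ext ?_)
  have h1 := hone n
  rw [horb, Finset.prod_singleton, detChar_linFun, linFun_apply] at h1
  simpa using h1

/-- The relative degree of a character over a non-principal character. -/
theorem mem_rel {χ : IrrCharacter G} {θ : IrrCharacter N} (h : Over N χ θ)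
    (hθ : (θ : N → ℂ) ≠ fun _ => 1) :
    charDegree (χ : G → ℂ) ∈ relCharDegrees N := by
  refine ⟨χ, ?_, rfl⟩
  by_contra hcon
  push Not at hcon
  refine h ?_
  have e : (fun n : N => (χ : G → ℂ) n) = (χ : G → ℂ) 1 • (trivIrr N : N → ℂ) := funext fun n => by
    rw [Pi.smul_apply, hcon n n.2, smul_eq_mul]
    show _ = _ * 1
    rw [mul_one]
  rw [e, classInner_smul_left, classInner_eq_zero_of_ne (trivIrr N).2 θ.2 (fun h' => hθ h'.symm),
    mul_zero]

theorem linFun_ne_one {μ : N →* ℂˣ} (hμ : μ ≠ 1) : (linIrr N μ : N → ℂ) ≠ fun _ => 1 :=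
  fun h => hμ (linFun_injective (h.trans (funext fun n => by simp [linFun_apply])))

/-- Two relative degrees lie in the same connected component. -/
def Con (a b : ℕ) : Prop :=
  ∃ (ha : a ∈ relCharDegrees N) (hb : b ∈ relCharDegrees N),
    (commonDivisorGraph.induce (relCharDegrees N)).Reachable ⟨a, ha⟩ ⟨b, hb⟩

theorem Con.symm {a b : ℕ} (h : Con N a b) : Con N b a :=
  let ⟨ha, hb, hr⟩ := h; ⟨hb, ha, hr.symm⟩

theorem Con.trans {a b c : ℕ} (h : Con N a b) (h' : Con N b c) : Con N a c :=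
  let ⟨ha, _, hr⟩ := h; let ⟨_, hc, hr'⟩ := h'; ⟨ha, hc, hr.trans hr'⟩

theorem con_of_common {a b s : ℕ} (ha : a ∈ relCharDegrees N) (hb : b ∈ relCharDegrees N)
    (hs : s ≠ 1) (hsa : s ∣ a) (hsb : s ∣ b) : Con N a b := by
  refine ⟨ha, hb, ?_⟩
  by_cases hab : a = b
  · subst hab; rfl
  · refine SimpleGraph.Adj.reachable ?_
    show a ≠ b ∧ 1 < Nat.gcd a b
    refine ⟨hab, ?_⟩
    have ha0 : a ≠ 0 := by
      obtain ⟨χ, -, rfl⟩ := ha
      exact (BrauerCharacters.charDegree_spec χ).2.1.ne'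
    have hg : s ∣ Nat.gcd a b := Nat.dvd_gcd hsa hsb
    rcases Nat.lt_trichotomy 1 (Nat.gcd a b) with h | h | h
    · exact h
    · exact absurd (Nat.dvd_one.1 (h ▸ hg)) hs
    · exact absurd (Nat.lt_one_iff.1 h) (Nat.gcd_ne_zero_left ha0)

/-- A degree over a linear character `μ`. -/
def IsOver (μ : N →* ℂˣ) (a : ℕ) : Prop :=
  ∃ χ : IrrCharacter G, charDegree (χ : G → ℂ) = a ∧ Over N χ (linIrr N μ)

theorem exists_isOver (μ : N →* ℂˣ) : ∃ a, IsOver N μ a :=
  let ⟨χ, hχ⟩ := CfsgLib.BlockLocal.exists_over N (linIrr N μ)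
  ⟨_, χ, rfl, hχ⟩

theorem IsOver.mem {μ : N →* ℂˣ} {a : ℕ} (hμ : μ ≠ 1) (h : IsOver N μ a) :
    a ∈ relCharDegrees N := by
  obtain ⟨χ, rfl, hχ⟩ := h
  exact mem_rel N hχ (linFun_ne_one N hμ)

theorem IsOver.index_dvd {μ : N →* ℂˣ} {a : ℕ} (h : IsOver N μ a) :
    (inertia N (linFun μ)).index ∣ a := by
  obtain ⟨χ, rfl, hχ⟩ := h
  have h1 := RelGraph.index_dvd N hχ
  rw [coe_linIrr] at h1
  exact h1

theorem inertia_inv (μ : N →* ℂˣ) : inertia N (linFun μ) ≤ inertia N (linFun μ⁻¹) := fun g hg => by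
  rw [mem_inertia] at hg ⊢
  funext n
  have := congrFun hg n
  simp only [conjChar_apply, linFun_apply, MonoidHom.inv_apply, Units.val_inv_eq_inv_val] at this ⊢
  rw [this]

theorem inertia_mul (μ ν : N →* ℂˣ) :
    inertia N (linFun μ) ⊓ inertia N (linFun ν) ≤ inertia N (linFun (μ * ν)) := fun g hg => by
  rw [mem_inertia]
  funext n
  have h1 := congrFun ((mem_inertia N (linFun μ) g).1 hg.1) n
  have h2 := congrFun ((mem_inertia N (linFun ν) g).1 hg.2) n
  simp only [conjChar_apply, linFun_apply, MonoidHom.mul_apply, Units.val_mul] at h1 h2 ⊢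
  rw [h1, h2]

theorem linFun_one_ne {μ : N →* ℂˣ} (h : inertia N (linFun μ) ≠ ⊤) : μ ≠ 1 := fun h1 => h (by
  rw [h1, eq_top_iff]
  intro g _
  rw [mem_inertia]
  funext n
  simp [conjChar_apply, linFun_apply])

theorem inertia_mul_invariant {μ ν : N →* ℂˣ} (hμ : inertia N (linFun μ) = ⊤) :
    inertia N (linFun (μ * ν)) = inertia N (linFun ν) := by
  refine le_antisymm (fun g hg => ?_) (le_trans (by rw [hμ, top_inf_eq]) (inertia_mul N μ ν))
  have h1 := inertia_mul N μ⁻¹ (μ * ν) (⟨inertia_inv N μ (hμ ▸ Subgroup.mem_top g), hg⟩ :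
    g ∈ inertia N (linFun μ⁻¹) ⊓ inertia N (linFun (μ * ν)))
  rwa [show μ⁻¹ * (μ * ν) = ν from by ext n; simp] at h1

/-- The determinant identity for a linear character of `N`. -/
theorem exists_norm_pow_eq_one (hNG : N ≤ commutator G) {ν : N →* ℂˣ} {χ : IrrCharacter G}
    (h : Over N χ (linIrr N ν)) :
    ∃ e : ℕ, e ∣ charDegree (χ : G → ℂ) ∧
      ∀ n : N, (∏ η ∈ conjOrbit N (linFun ν), η n) ^ e = 1 := by
  classical
  obtain ⟨e, hd, hone⟩ := prod_det_eq_one N hNG h
  refine ⟨e, ?_, fun n => ?_⟩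
  · rw [hd, mul_assoc]
    exact dvd_mul_right _ _
  · have h1 := hone n
    rw [coe_linIrr] at h1
    rw [← h1]
    refine congrArg (fun x : ℂ => x ^ e) (Finset.prod_congr rfl fun η hη => ?_)
    obtain ⟨g, rfl⟩ := (mem_conjOrbit N).1 hη
    have : conjChar N (linFun ν) g = linFun (ν.comp (MulAut.conjNormal g).toMonoidHom) := by
      rw [conjChar_eq_comp]; rfl
    rw [this, detChar_linFun]

/-- The norm of the product with an invariant linear character. -/
theorem prod_orbit_mul_invariant {μ ν : N →* ℂˣ} (hμ : inertia N (linFun μ) = ⊤) (n : N) :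
    ∏ η ∈ conjOrbit N (linFun (μ * ν)), η n =
      (μ n : ℂ) ^ (inertia N (linFun ν)).index * ∏ η ∈ conjOrbit N (linFun ν), η n := by
  classical
  have key : ∀ g, conjChar N (linFun (μ * ν)) g = linFun μ * conjChar N (linFun ν) g := fun g => by
    funext m
    have h1 := congrFun ((mem_inertia N (linFun μ) g).1 (hμ ▸ Subgroup.mem_top g)) m
    simp only [conjChar_apply, linFun_apply, Pi.mul_apply, MonoidHom.mul_apply,
      Units.val_mul] at h1 ⊢
    rw [h1]
  have horb : conjOrbit N (linFun (μ * ν)) =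
      (conjOrbit N (linFun ν)).image fun η => linFun μ * η := by
    ext η
    simp only [Finset.mem_image, mem_conjOrbit]
    constructor
    · rintro ⟨g, rfl⟩; exact ⟨_, ⟨g, rfl⟩, (key g).symm⟩
    · rintro ⟨_, ⟨g, rfl⟩, rfl⟩; exact ⟨g, key g⟩
  rw [horb, Finset.prod_image, ← card_conjOrbit N _ _ (mem_inertia N (linFun ν)),
    ← Finset.prod_const, ← Finset.prod_mul_distrib]
  · rfl
  · intro x _ y _ hxy
    funext m
    simpa [linFun_apply] using congrFun hxy m

/-- Degrees over a moved and over an invariant linear character. -/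
theorem con_invariant_moved (hNG : N ≤ commutator G) {μ ν : N →* ℂˣ} {a b : ℕ}
    (hμ1 : μ ≠ 1) (hμ : inertia N (linFun μ) = ⊤) (hν : inertia N (linFun ν) ≠ ⊤)
    (ha : IsOver N μ a) (hb : IsOver N ν b) : Con N a b := by
  have hν1 := linFun_one_ne N hν
  have ho1 : (inertia N (linFun ν)).index ≠ 1 := fun h => hν (Subgroup.index_eq_one.1 h)
  have hmemA := ha.mem N hμ1
  have hmemB := hb.mem N hν1
  obtain ⟨s, hsdef⟩ : ∃ s, s = (orderOf μ).minFac := ⟨_, rfl⟩
  have hs : s.Prime := hsdef ▸ Nat.minFac_prime fun h => hμ1 (orderOf_eq_one_iff.1 h)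
  have hsμ : s ∣ orderOf μ := hsdef ▸ Nat.minFac_dvd _
  have hsa : s ∣ a := by
    obtain ⟨χ, rfl, hχ⟩ := ha
    exact hsμ.trans (orderOf_dvd_of_invariant N hNG hμ hχ)
  by_cases hso : s ∣ (inertia N (linFun ν)).index
  · exact con_of_common N hmemA hmemB hs.ne_one hsa (hso.trans hb.index_dvd)
  -- replace `μ` by a power of order `s`
  obtain ⟨μ', hμ'top, hord'⟩ : ∃ μ' : N →* ℂˣ, inertia N (linFun μ') = ⊤ ∧ orderOf μ' = s := by
    refine ⟨μ ^ (orderOf μ / s), eq_top_iff.2 fun g _ => ?_, ?_⟩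
    · rw [mem_inertia]
      funext n
      have h1 := congrFun ((mem_inertia N (linFun μ) g).1 (hμ ▸ Subgroup.mem_top g)) n
      simp only [conjChar_apply, linFun_apply] at h1
      simp only [conjChar_apply, linFun_apply, MonoidHom.pow_apply, Units.val_pow_eq_pow_val, h1]
    · rw [orderOf_pow' _ (Nat.div_pos (Nat.le_of_dvd (orderOf_pos μ) hsμ) hs.pos).ne',
        Nat.gcd_eq_right (Nat.div_dvd_of_dvd hsμ), Nat.div_div_self hsμ (orderOf_pos μ).ne']
  have hTeq := inertia_mul_invariant N (ν := ν) hμ'top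
  have hμν1 : μ' * ν ≠ 1 := linFun_one_ne N (hTeq ▸ hν)
  obtain ⟨c, hc⟩ := exists_isOver N (μ' * ν)
  have hmemC := hc.mem N hμν1
  have hbc : Con N b c := con_of_common N hmemB hmemC ho1 hb.index_dvd (hTeq ▸ hc.index_dvd)
  obtain ⟨χb, rfl, hχb⟩ := hb
  obtain ⟨χc, rfl, hχc⟩ := hc
  obtain ⟨e₀, hd₀, hone₀⟩ := exists_norm_pow_eq_one N hNG hχb
  obtain ⟨e₁, hd₁, hone₁⟩ := exists_norm_pow_eq_one N hNG hχc
  have hdvd : orderOf μ' ∣ (inertia N (linFun ν)).index * (e₀ * e₁) := by
    refine orderOf_dvd_of_pow_eq_one (MonoidHom.ext fun n => Units.ext ?_)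
    have h1 := hone₁ n
    rw [prod_orbit_mul_invariant N hμ'top] at h1
    have h2 := congrArg (fun x : ℂ => x ^ e₀) h1
    have h3 : ((∏ η ∈ conjOrbit N (linFun ν), η n) ^ e₁) ^ e₀ = 1 := by
      rw [← pow_mul, mul_comm, pow_mul, hone₀ n, one_pow]
    rw [mul_pow, mul_pow, one_pow, h3, mul_one, ← pow_mul, ← pow_mul] at h2
    rw [MonoidHom.pow_apply, Units.val_pow_eq_pow_val, MonoidHom.one_apply, Units.val_one]
    convert h2 using 2
    ring
  rw [hord'] at hdvd
  rcases hs.dvd_mul.1 hdvd with h | h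
  · exact absurd h hso
  rcases hs.dvd_mul.1 h with h | h
  · exact con_of_common N hmemA hmemB hs.ne_one hsa (h.trans hd₀)
  · exact (con_of_common N hmemA hmemC hs.ne_one hsa (h.trans hd₁)).trans N hbc.symm

/-- A non-trivial linear character of prime power order whose inertia group has index prime to
its order. -/
def Good (μ : N →* ℂˣ) : Prop :=
  ∃ r j : ℕ, r.Prime ∧ μ ≠ 1 ∧ orderOf μ ∣ r ^ j ∧ ¬ r ∣ (inertia N (linFun μ)).index

theorem conjChar_linFun_mul (μ ν : N →* ℂˣ) (g : G) :
    conjChar N (linFun (μ * ν)) g = conjChar N (linFun μ) g * conjChar N (linFun ν) g := by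
  funext n
  simp [conjChar_apply, linFun_apply]

theorem inertia_le_pow (μ : N →* ℂˣ) (k : ℕ) :
    inertia N (linFun μ) ≤ inertia N (linFun (μ ^ k)) := fun g hg => by
  rw [mem_inertia]
  funext n
  have h1 := congrFun ((mem_inertia N (linFun μ) g).1 hg) n
  simp only [conjChar_apply, linFun_apply, MonoidHom.pow_apply, Units.val_pow_eq_pow_val] at h1 ⊢
  rw [h1]

/-- If the orbit lengths of `μ` and `ν` are coprime and that of `μν` is coprime to the first one,
the orbit of `μν` is `μ` times the orbit of `ν`, which forces the conjugates of `μ` to differ by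
elements of exponent the orbit length of `ν`. -/
theorem pow_index_invariant {μ ν : N →* ℂˣ}
    (hg : Nat.Coprime (inertia N (linFun μ)).index (inertia N (linFun ν)).index)
    (hC : Nat.Coprime (inertia N (linFun μ)).index (inertia N (linFun (μ * ν))).index) (g : G) :
    g ∈ inertia N (linFun (μ ^ (inertia N (linFun ν)).index)) := by
  classical
  set A := inertia N (linFun μ)
  set B := inertia N (linFun ν)
  set C := inertia N (linFun (μ * ν))
  set S := (Finset.univ : Finset A).image fun a : A => conjChar N (linFun ν) (a : G) with hS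
  set O₂ := conjOrbit N (linFun ν)
  set O₃ := conjOrbit N (linFun (μ * ν))
  have hsub : S ⊆ O₂ := fun η hη => by
    obtain ⟨a, -, rfl⟩ := Finset.mem_image.1 hη
    exact (mem_conjOrbit N).2 ⟨a, rfl⟩
  have hO₂ : O₂.card = B.index := card_conjOrbit N _ _ (mem_inertia N (linFun ν))
  have hO₃ : O₃.card = C.index := card_conjOrbit N _ _ (mem_inertia N (linFun (μ * ν)))
  -- the orbit of `ν` under the inertia group of `μ` is everything
  have hfib : Nat.card A ≤ S.card * Nat.card (A ⊓ B : Subgroup G) := by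
    rw [Nat.card_eq_fintype_card (α := A), ← Finset.card_univ,
      Finset.card_eq_sum_card_image (fun a : A => conjChar N (linFun ν) (a : G)) Finset.univ,
      ← hS, ← smul_eq_mul, ← Finset.sum_const]
    refine Finset.sum_le_sum fun η hη => ?_
    obtain ⟨a₀, -, ha₀⟩ := Finset.mem_image.1 hη
    rw [Nat.card_eq_fintype_card, ← Finset.card_univ]
    refine Finset.card_le_card_of_injOn (fun a : A =>
      if h : ((a : G) * (a₀ : G)⁻¹) ∈ A ⊓ B then (⟨_, h⟩ : (A ⊓ B : Subgroup G)) else 1)
      (fun a _ => Finset.mem_univ _) fun a ha b hb hab => ?_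
    have hmem : ∀ c : A, conjChar N (linFun ν) (c : G) = η → (c : G) * (a₀ : G)⁻¹ ∈ A ⊓ B :=
      fun c hc => ⟨A.mul_mem c.2 (A.inv_mem a₀.2), by
        show (c : G) * (a₀ : G)⁻¹ ∈ inertia N (linFun ν)
        rw [mem_inertia, ← conjChar_conjChar, hc, ← ha₀, conjChar_conjChar, mul_inv_cancel,
          conjChar_one]⟩
    simp only [Finset.coe_filter, Finset.mem_univ, true_and, Set.mem_ofPred_eq] at ha hb
    simp only [dif_pos (hmem a ha), dif_pos (hmem b hb)] at hab
    exact Subtype.ext (mul_right_cancel (congrArg Subtype.val hab))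
  have hidx : A.index * B.index ∣ (A ⊓ B).index :=
    hg.mul_dvd_of_dvd_of_dvd (Subgroup.index_dvd_of_le inf_le_left)
      (Subgroup.index_dvd_of_le inf_le_right)
  have hle : B.index ≤ S.card := by
    have h1 := (A ⊓ B).card_mul_index
    rw [← A.card_mul_index] at h1
    have h2 : A.index * B.index ≤ (A ⊓ B).index :=
      Nat.le_of_dvd (Nat.pos_of_ne_zero Subgroup.index_ne_zero_of_finite) hidx
    have hpos : 0 < Nat.card (A ⊓ B : Subgroup G) * A.index :=
      Nat.mul_pos Nat.card_pos (Nat.pos_of_ne_zero Subgroup.index_ne_zero_of_finite)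
    refine Nat.le_of_mul_le_mul_left ?_ hpos
    calc Nat.card (A ⊓ B : Subgroup G) * A.index * B.index
        ≤ Nat.card (A ⊓ B : Subgroup G) * (A ⊓ B).index := by
          rw [mul_assoc]; exact Nat.mul_le_mul_left _ h2
      _ = Nat.card A * A.index := h1
      _ ≤ S.card * Nat.card (A ⊓ B : Subgroup G) * A.index := Nat.mul_le_mul_right _ hfib
      _ = _ := by ring
  have hSeq : S = O₂ := Finset.eq_of_subset_of_card_le hsub (hO₂ ▸ hle)
  have hμinj : ∀ x : G, Function.Injective fun η : N → ℂ => conjChar N (linFun μ) x * η := by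
    intro x η η' h
    funext n
    have := congrFun h n
    simpa [conjChar_apply, linFun_apply] using this
  have hinj₀ : Function.Injective fun η : N → ℂ => linFun μ * η := by
    have h := hμinj 1
    rw [conjChar_one] at h
    exact h
  -- the orbit of `μν`
  have himg : O₃ = O₂.image fun η => linFun μ * η := by
    symm
    refine Finset.eq_of_subset_of_card_le (fun η hη => ?_) ?_
    · obtain ⟨η', hη', rfl⟩ := Finset.mem_image.1 hη
      rw [← hSeq] at hη'
      obtain ⟨a, -, rfl⟩ := Finset.mem_image.1 hη'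
      refine (mem_conjOrbit N).2 ⟨a, ?_⟩
      rw [conjChar_linFun_mul, (mem_inertia N (linFun μ) a).1 a.2]
    · rw [Finset.card_image_of_injective _ hinj₀, hO₂, hO₃]
      refine Nat.le_of_dvd (Nat.pos_of_ne_zero Subgroup.index_ne_zero_of_finite)
        (Nat.Coprime.dvd_of_dvd_mul_left hC.symm ?_)
      refine (Subgroup.index_dvd_of_le (inertia_mul N μ ν)).trans ?_
      have h1 := (A ⊓ B).card_mul_index
      rw [← A.card_mul_index] at h1
      have h2 : (A ⊓ B).index ≤ A.index * B.index := Subgroup.index_inf_le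
      rw [Nat.le_antisymm h2
        (Nat.le_of_dvd (Nat.pos_of_ne_zero Subgroup.index_ne_zero_of_finite) hidx)]
  have himg' : O₃ = O₂.image fun η => conjChar N (linFun μ) g * η := by
    symm
    refine Finset.eq_of_subset_of_card_le (fun η hη => ?_) ?_
    · obtain ⟨η', hη', rfl⟩ := Finset.mem_image.1 hη
      obtain ⟨x, rfl⟩ := (mem_conjOrbit N).1 hη'
      have h1 : linFun μ * conjChar N (linFun ν) (x * g⁻¹) ∈ O₃ := by
        rw [himg]
        exact Finset.mem_image.2 ⟨_, (mem_conjOrbit N).2 ⟨_, rfl⟩, rfl⟩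
      obtain ⟨y, hy⟩ := (mem_conjOrbit N).1 h1
      refine (mem_conjOrbit N).2 ⟨y * g, ?_⟩
      rw [← conjChar_conjChar, hy]
      funext n
      simp [conjChar_apply, linFun_apply, mul_assoc]
    · rw [Finset.card_image_of_injective _ (hμinj g), himg,
        Finset.card_image_of_injective _ hinj₀]
  rw [mem_inertia]
  funext n
  have h3 : ∏ η ∈ O₂, (linFun μ * η) n = ∏ η ∈ O₂, (conjChar N (linFun μ) g * η) n := by
    rw [← Finset.prod_image (g := fun η => linFun μ * η) (f := fun η => η n)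
        (fun x _ y _ h => hinj₀ h),
      ← Finset.prod_image (g := fun η => conjChar N (linFun μ) g * η) (f := fun η => η n)
        (fun x _ y _ h => hμinj g h), ← himg, ← himg']
  simp only [Pi.mul_apply, Finset.prod_mul_distrib, Finset.prod_const, hO₂] at h3
  have hne : ∏ η ∈ O₂, η n ≠ 0 := Finset.prod_ne_zero_iff.2 fun η hη => by
    obtain ⟨x, rfl⟩ := (mem_conjOrbit N).1 hη
    simp [conjChar_apply, linFun_apply]
  have h4 := mul_right_cancel₀ hne h3
  simp only [conjChar_apply, linFun_apply, MonoidHom.pow_apply, Units.val_pow_eq_pow_val] at h4 ⊢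
  exact h4.symm

/-- Degrees over two moved good linear characters. -/
theorem con_moved {μ ν : N →* ℂˣ} {a b : ℕ} (hG₁ : Good N μ) (hG₂ : Good N ν)
    (hμ : inertia N (linFun μ) ≠ ⊤) (hν : inertia N (linFun ν) ≠ ⊤)
    (ha : IsOver N μ a) (hb : IsOver N ν b) : Con N a b := by
  obtain ⟨r, i, hr, hμ1, hμo, hμi⟩ := hG₁
  obtain ⟨s, j, hs, hν1, hνo, hνi⟩ := hG₂
  set A := inertia N (linFun μ)
  set B := inertia N (linFun ν)
  have hA1 : A.index ≠ 1 := fun h => hμ (Subgroup.index_eq_one.1 h)
  have hB1 : B.index ≠ 1 := fun h => hν (Subgroup.index_eq_one.1 h)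
  by_cases hg : Nat.gcd A.index B.index = 1
  · have hne : μ * ν ≠ 1 := by
      intro h
      have hν' : ν = μ⁻¹ := MonoidHom.ext fun n => eq_inv_of_mul_eq_one_right (DFunLike.congr_fun h n)
      have h1 : B.index ∣ A.index := Subgroup.index_dvd_of_le (by
        show A ≤ inertia N (linFun ν)
        rw [hν']
        exact inertia_inv N μ)
      exact hB1 (Nat.dvd_one.1 (hg ▸ Nat.dvd_gcd h1 dvd_rfl))
    set C := inertia N (linFun (μ * ν))
    -- the orbit of the product shares a factor with both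
    have hboth : Nat.gcd A.index C.index ≠ 1 ∧ Nat.gcd B.index C.index ≠ 1 := by
      by_cases hrs : r = s
      · subst hrs
        have key : ∀ α β : N →* ℂˣ, inertia N (linFun α) ≠ ⊤ →
            orderOf α ∣ r ^ (i + j) → ¬ r ∣ (inertia N (linFun β)).index →
            Nat.Coprime (inertia N (linFun α)).index (inertia N (linFun β)).index →
            Nat.gcd (inertia N (linFun α)).index (inertia N (linFun (α * β))).index ≠ 1 := by
          intro α β hα hαo hβ hcop hC
          refine hα (eq_top_iff.2 fun g _ => ?_)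
          obtain ⟨k, hk⟩ := exists_pow_eq_self_of_coprime (G := N →* ℂˣ) (x := α)
            (n := (inertia N (linFun β)).index)
            ((((hr.coprime_iff_not_dvd.2 hβ).pow_left (i + j)).coprime_dvd_left hαo).symm)
          rw [← hk]
          exact inertia_le_pow N _ k (pow_index_invariant N hcop hC g)
        refine ⟨key μ ν hμ (hμo.trans (pow_dvd_pow r (Nat.le_add_right i j))) hνi hg, ?_⟩
        have h := key ν μ hν (hνo.trans (pow_dvd_pow r (Nat.le_add_left j i))) hμi
          (Nat.Coprime.symm hg)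
        rwa [mul_comm ν μ] at h
      · -- different primes: the powers give back both factors
        have hcop : (orderOf μ).Coprime (orderOf ν) :=
          ((((Nat.coprime_primes hr hs).2 hrs).pow i j).coprime_dvd_left hμo).coprime_dvd_right hνo
        have key : ∀ α β : N →* ℂˣ, (orderOf α).Coprime (orderOf β) →
            inertia N (linFun (α * β)) ≤ inertia N (linFun α) := by
          intro α β hab
          obtain ⟨k, hk⟩ := exists_pow_eq_self_of_coprime (G := N →* ℂˣ) (x := α)
            (n := orderOf β) hab.symm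
          refine le_trans ((inertia_le_pow N (α * β) (orderOf β)).trans
            (inertia_le_pow N _ k)) (le_of_eq ?_)
          congr 2
          rw [show (α * β) ^ orderOf β = α ^ orderOf β from by
            rw [(Commute.all α β).mul_pow, pow_orderOf_eq_one, mul_one], hk]
        have hA : A.index ∣ C.index := Subgroup.index_dvd_of_le (key μ ν hcop)
        have hB : B.index ∣ C.index := Subgroup.index_dvd_of_le (by
          show inertia N (linFun (μ * ν)) ≤ B
          rw [mul_comm μ ν]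
          exact key ν μ hcop.symm)
        rw [Nat.gcd_eq_left hA, Nat.gcd_eq_left hB]
        exact ⟨hA1, hB1⟩
    obtain ⟨c, hc⟩ := exists_isOver N (μ * ν)
    exact (con_of_common N (ha.mem N hμ1) (hc.mem N hne) hboth.1
      ((Nat.gcd_dvd_left _ _).trans ha.index_dvd)
      ((Nat.gcd_dvd_right _ _).trans hc.index_dvd)).trans N
      (con_of_common N (hc.mem N hne) (hb.mem N hν1) hboth.2
        ((Nat.gcd_dvd_right _ _).trans hc.index_dvd)
        ((Nat.gcd_dvd_left _ _).trans hb.index_dvd))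
  · exact con_of_common N (ha.mem N hμ1) (hb.mem N hν1) hg
      ((Nat.gcd_dvd_left _ _).trans ha.index_dvd) ((Nat.gcd_dvd_right _ _).trans hb.index_dvd)

/-- All degrees over good linear characters lie in one component. -/
theorem con_linear (hNG : N ≤ commutator G) {μ ν : N →* ℂˣ} {a b : ℕ}
    (hG₁ : Good N μ) (hG₂ : Good N ν) (ha : IsOver N μ a) (hb : IsOver N ν b) : Con N a b := by
  have hμ1 : μ ≠ 1 := by obtain ⟨-, -, -, h, -⟩ := hG₁; exact h
  have hν1 : ν ≠ 1 := by obtain ⟨-, -, -, h, -⟩ := hG₂; exact h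
  by_cases hμ : inertia N (linFun μ) = ⊤ <;> by_cases hν : inertia N (linFun ν) = ⊤
  · set s := (orderOf μ).minFac
    set t := (orderOf ν).minFac
    have hs : s.Prime := Nat.minFac_prime fun h => hμ1 (orderOf_eq_one_iff.1 h)
    have ht : t.Prime := Nat.minFac_prime fun h => hν1 (orderOf_eq_one_iff.1 h)
    have hsa : s ∣ a := by
      obtain ⟨χ, rfl, hχ⟩ := ha
      exact (Nat.minFac_dvd _).trans (orderOf_dvd_of_invariant N hNG hμ hχ)
    have htb : t ∣ b := by
      obtain ⟨χ, rfl, hχ⟩ := hb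
      exact (Nat.minFac_dvd _).trans (orderOf_dvd_of_invariant N hNG hν hχ)
    by_cases hst : s = t
    · exact con_of_common N (ha.mem N hμ1) (hb.mem N hν1) hs.ne_one hsa (hst ▸ htb)
    set μ' := μ ^ (orderOf μ / s)
    set ν' := ν ^ (orderOf ν / t)
    have ho : ∀ (l : N →* ℂˣ), l ≠ 1 → orderOf (l ^ (orderOf l / (orderOf l).minFac)) =
        (orderOf l).minFac := fun l hl => by
      rw [orderOf_pow' _ (Nat.div_pos (Nat.minFac_le (orderOf_pos l))
          (Nat.minFac_pos _)).ne', Nat.gcd_eq_right (Nat.div_dvd_of_dvd (Nat.minFac_dvd _)),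
        Nat.div_div_self (Nat.minFac_dvd _) (orderOf_pos l).ne']
    have hprod : orderOf (μ' * ν') = s * t := by
      rw [(Commute.all μ' ν').orderOf_mul_eq_mul_orderOf_of_coprime, ho μ hμ1, ho ν hν1]
      rw [ho μ hμ1, ho ν hν1]
      exact (Nat.coprime_primes hs ht).2 hst
    have hne : μ' * ν' ≠ 1 := fun h => by
      rw [h, orderOf_one] at hprod
      exact hs.ne_one (Nat.dvd_one.1 (hprod ▸ dvd_mul_right s t))
    have htop : inertia N (linFun (μ' * ν')) = ⊤ := by
      rw [eq_top_iff]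
      intro g _
      rw [mem_inertia]
      funext n
      have h1 := congrFun ((mem_inertia N (linFun μ) g).1 (hμ ▸ Subgroup.mem_top g)) n
      have h2 := congrFun ((mem_inertia N (linFun ν) g).1 (hν ▸ Subgroup.mem_top g)) n
      simp only [conjChar_apply, linFun_apply] at h1 h2
      simp only [μ', ν', conjChar_apply, linFun_apply, MonoidHom.mul_apply, MonoidHom.pow_apply,
        Units.val_mul, Units.val_pow_eq_pow_val, h1, h2]
    obtain ⟨c, χ, rfl, hχ⟩ := exists_isOver N (μ' * ν')
    have hc := hprod ▸ orderOf_dvd_of_invariant N hNG htop hχ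
    have hmem := mem_rel N hχ (linFun_ne_one N hne)
    exact (con_of_common N (ha.mem N hμ1) hmem hs.ne_one hsa
      ((dvd_mul_right s t).trans hc)).trans N
      (con_of_common N hmem (hb.mem N hν1) ht.ne_one ((dvd_mul_left t s).trans hc) htb)
  · exact con_invariant_moved N hNG hμ1 hμ hν ha hb
  · exact (con_invariant_moved N hNG hν1 hν hμ hb ha).symm
  · exact con_moved N hG₁ hG₂ hμ hν ha hb

/-- The dual of `N` has as many elements as the index of the derived subgroup of `N`. -/
theorem card_linear : Nat.card (N →* ℂˣ) = ⁅N, N⁆.relIndex N := by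
  have h1 : Nat.card (N →* ℂˣ) = Nat.card (Abelianization N →* ℂˣ) :=
    Nat.card_congr Abelianization.lift
  obtain ⟨e⟩ := CommGroup.monoidHom_mulEquiv_of_hasEnoughRootsOfUnity (Abelianization N) ℂ
  rw [h1, Nat.card_congr e.toEquiv, Subgroup.relIndex]
  show (commutator N).index = _
  congr 1
  rw [← Subgroup.map_subtype_commutator N]
  exact (Subgroup.comap_map_eq_self_of_injective N.subtype_injective _).symm

theorem orderOf_linear_dvd_card (μ : N →* ℂˣ) : orderOf μ ∣ Nat.card N :=
  orderOf_dvd_of_pow_eq_one (MonoidHom.ext fun n => by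
    rw [MonoidHom.pow_apply, ← map_pow, pow_card_eq_one', map_one, MonoidHom.one_apply])

theorem detChar_conjChar {θ : N → ℂ} (hθ : IsCharacter N θ) (g : G) (n : N) :
    detChar (conjChar N θ g) n = detChar θ (MulAut.conjNormal g n) := by
  rw [conjChar_eq_comp]
  exact congrFun (CfsgLib.CharDegreesTheory.detChar_comp (MulAut.conjNormal g).toMonoidHom hθ) n

/-- A good linear character for every prime dividing `[N : N']`. -/
theorem exists_good {r : ℕ} (hr : r.Prime) (hrm : r ∣ ⁅N, N⁆.relIndex N) :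
    ∃ μ : N →* ℂˣ, Good N μ ∧ orderOf μ = r ∧ ¬ r ∣ (inertia N (linFun μ)).index := by
  classical
  haveI := Fact.mk hr
  haveI : Finite (N →* ℂˣ) := Nat.finite_of_card_ne_zero (by
    rw [card_linear]
    exact fun h => Subgroup.index_ne_zero_of_finite (H := ⁅N, N⁆.subgroupOf N) h)
  let K : Subgroup (N →* ℂˣ) := (powMonoidHom r).ker
  haveI : Fintype (N →* ℂˣ) := Fintype.ofFinite _
  have hK : IsPGroup r K := fun x => ⟨1, Subtype.ext (by
    rw [pow_one, SubmonoidClass.coe_pow]
    exact x.2)⟩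
  have hdvd : r ∣ Nat.card K := by
    rw [← card_linear N] at hrm
    obtain ⟨x, hx⟩ := exists_prime_orderOf_dvd_card' r hrm
    have hxK : x ∈ K := by
      show x ^ r = 1
      rw [← hx, pow_orderOf_eq_one]
    rw [← hx]
    exact Subgroup.orderOf_dvd_natCard _ hxK
  set Ω : Finset (N → ℂ) :=
    (Finset.univ.filter fun μ : N →* ℂˣ => μ ∈ K ∧ μ ≠ 1).image fun μ => linFun μ with hΩ
  have hΩcard : Ω.card + 1 = Nat.card K := by
    rw [hΩ, Finset.card_image_of_injective _ linFun_injective,
      show (Finset.univ.filter fun μ : N →* ℂˣ => μ ∈ K ∧ μ ≠ 1) =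
        ((K : Set (N →* ℂˣ)).toFinset).erase 1 by ext; simp [and_comm],
      Finset.card_erase_of_mem (by simp [K.one_mem]), Nat.sub_add_cancel (Finset.card_pos.2
        ⟨1, by simp [K.one_mem]⟩), Set.toFinset_card, Nat.card_eq_fintype_card]
    rfl
  by_contra hcon
  push Not at hcon
  have hall : ∀ μ : N →* ℂˣ, μ ∈ K → μ ≠ 1 → r ∣ (inertia N (linFun μ)).index := by
    intro μ hμ hμ1
    have ho : orderOf μ = r := ((Nat.dvd_prime hr).1 (orderOf_dvd_of_pow_eq_one hμ)).resolve_left
      fun h => hμ1 (orderOf_eq_one_iff.1 h)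
    by_contra hn
    exact hn (hcon μ ⟨r, 1, hr, hμ1, by rw [pow_one, ho], hn⟩ ho)
  have hΩdvd : r ∣ Ω.card := by
    rw [Finset.card_eq_sum_card_image (fun η => conjOrbit N η) Ω]
    refine Finset.dvd_sum fun O hO => ?_
    obtain ⟨η, hη, rfl⟩ := Finset.mem_image.1 hO
    obtain ⟨μ, hμ, rfl⟩ := Finset.mem_image.1 hη
    rw [Finset.mem_filter] at hμ
    have hfib : Ω.filter (fun η => conjOrbit N η = conjOrbit N (linFun μ)) =
        conjOrbit N (linFun μ) := by
      ext η
      rw [Finset.mem_filter]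
      constructor
      · rintro ⟨-, h⟩
        rw [← h, mem_conjOrbit]
        exact ⟨1, conjChar_one N η⟩
      · intro h
        obtain ⟨g, rfl⟩ := (mem_conjOrbit N).1 h
        refine ⟨Finset.mem_image.2 ⟨μ.comp (MulAut.conjNormal g).toMonoidHom,
          Finset.mem_filter.2 ⟨Finset.mem_univ _, ?_, ?_⟩, ?_⟩, ?_⟩
        · show (μ.comp (MulAut.conjNormal (H := N) g).toMonoidHom) ^ r = 1
          ext n
          have := DFunLike.congr_fun (show μ ^ r = 1 from hμ.2.1) (MulAut.conjNormal g n)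
          simpa using congrArg (fun u : ℂˣ => (u : ℂ)) this
        · intro h1
          refine hμ.2.2 ?_
          ext n : 1
          obtain ⟨m, rfl⟩ := (MulAut.conjNormal g).surjective n
          exact DFunLike.congr_fun h1 m
        · rw [conjChar_eq_comp]; rfl
        · ext η'
          simp only [mem_conjOrbit, conjChar_conjChar]
          exact ⟨fun ⟨x, hx⟩ => ⟨g * x, hx⟩, fun ⟨x, hx⟩ => ⟨g⁻¹ * x, by
            rwa [← mul_assoc, mul_inv_cancel, one_mul]⟩⟩
    rw [hfib, card_conjOrbit N _ _ (mem_inertia N (linFun μ))]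
    exact hall μ hμ.2.1 hμ.2.2
  have h1 : r ∣ 1 := (Nat.dvd_add_right hΩdvd).1 (hΩcard ▸ hdvd)
  exact hr.not_dvd_one h1

/-- An invariant non-trivial `r`-part of the determinant of a constituent makes `r` divide the
degree. -/
theorem dvd_of_invariant_det (hNG : N ≤ commutator G) {r : ℕ} (hr : r.Prime)
    {θ' : IrrCharacter N} {δ' : N →* ℂˣ} (hδ' : detChar (θ' : N → ℂ) = linFun δ')
    {χ' : IrrCharacter G} (hover : Over N χ' θ')
    (htop : inertia N (linFun (δ' ^ ordCompl[r] (Nat.card N))) = ⊤)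
    (hne : δ' ^ ordCompl[r] (Nat.card N) ≠ 1) : r ∣ charDegree (χ' : G → ℂ) := by
  classical
  set k := ordCompl[r] (Nat.card N) with hk
  have pp : ∀ (x : N →* ℂˣ) (i j : ℕ), (x ^ i) ^ j = x ^ (i * j) :=
    fun x i j => (pow_mul (M := N →* ℂˣ) x i j).symm
  obtain ⟨e, hd, hone⟩ := prod_det_eq_one N hNG hover
  have h1 : (δ' ^ k) ^ ((conjOrbit N (θ' : N → ℂ)).card * e) = 1 := by
    refine MonoidHom.ext fun n => Units.ext ?_
    have h2 := congrArg (fun x : ℂ => x ^ k) (hone n)
    rw [one_pow, ← pow_mul, mul_comm, pow_mul, ← Finset.prod_pow,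
      Finset.prod_congr rfl (g := fun _ => ((δ' ^ k) n : ℂ)) (fun η hη => ?_),
      Finset.prod_const, ← pow_mul] at h2
    · rw [MonoidHom.pow_apply (δ' ^ k), Units.val_pow_eq_pow_val, MonoidHom.one_apply,
        Units.val_one]
      exact h2
    · obtain ⟨g, rfl⟩ := (mem_conjOrbit N).1 hη
      rw [detChar_conjChar N (IsIrrCharacter.isCharacter θ'.2), hδ']
      have h3 := congrFun ((mem_inertia N (linFun (δ' ^ k)) g).1 (htop ▸ Subgroup.mem_top g)) n
      rw [conjChar_eq_comp] at h3
      simpa [linFun_apply] using h3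
  have h4 := orderOf_dvd_of_pow_eq_one (G := N →* ℂˣ) (x := δ' ^ k) h1
  have h5 : r ∣ orderOf (δ' ^ k) := by
    obtain ⟨j, -, hj⟩ := (Nat.dvd_prime_pow hr).1 (show orderOf (δ' ^ k) ∣
        r ^ (Nat.card N).factorization r from orderOf_dvd_of_pow_eq_one (by
      rw [pp, hk, mul_comm, Nat.ordProj_mul_ordCompl_eq_self]
      exact orderOf_dvd_iff_pow_eq_one.1 (orderOf_linear_dvd_card N δ')))
    rcases j with _ | j
    · exact absurd (orderOf_eq_one_iff.1 (by simpa using hj)) hne
    · rw [hj, pow_succ]; exact dvd_mul_left _ _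
  rcases hr.dvd_mul.1 (h5.trans h4) with h | h
  · exact hd ▸ Dvd.dvd.mul_right (Dvd.dvd.mul_left h _) _
  · exact hd ▸ Dvd.dvd.mul_right (Dvd.dvd.mul_right h _) _

/-- A relative degree prime to a prime divisor of `[N : N']` is connected to a degree over a good
linear character. -/
theorem exists_good_con (hNG : N ≤ commutator G) {r : ℕ} (hr : r.Prime)
    (hrm : r ∣ ⁅N, N⁆.relIndex N) {a : ℕ} (ha : a ∈ relCharDegrees N) (hra : ¬ r ∣ a) :
    ∃ (μ : N →* ℂˣ) (b : ℕ), Good N μ ∧ IsOver N μ b ∧ Con N a b := by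
  classical
  haveI := Fact.mk hr
  obtain ⟨χ, hχN, rfl⟩ := id ha
  obtain ⟨θ, hθ⟩ := CfsgLib.CharTheory.exists_constituent N (IsIrrCharacter.isCharacter χ.2)
    (apply_one_ne_zero_of_isIrr χ.2)
  have hθ1 : (θ : N → ℂ) ≠ fun _ => 1 := by
    intro h
    obtain ⟨x, hx, hne⟩ := hχN
    have hinv : ∀ g : G, conjChar N (θ : N → ℂ) g = (θ : N → ℂ) := fun g => by
      funext n; rw [conjChar_apply, h]
    have hres := res_eq_of_invariant N χ.2 θ.2 hinv hθ
    have e1 := congrFun hres ⟨x, hx⟩
    have e2 := congrFun hres 1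
    simp only [Pi.smul_apply, h, smul_eq_mul, mul_one, OneMemClass.coe_one] at e1 e2
    exact hne (e1.trans e2.symm)
  obtain ⟨δ, hδ⟩ := exists_detChar_eq (IsIrrCharacter.isCharacter θ.2)
  have pp : ∀ (x : N →* ℂˣ) (i j : ℕ), (x ^ i) ^ j = x ^ (i * j) :=
    fun x i j => (pow_mul (M := N →* ℂˣ) x i j).symm
  set k := ordCompl[r] (Nat.card N) with hk
  have hkr : ¬ r ∣ k := Nat.not_dvd_ordCompl hr Nat.card_pos.ne'
  set δr := δ ^ k with hδr
  have hconjdet : ∀ g : G, ∀ n : N,
      detChar (conjChar N (θ : N → ℂ) g) n = (δ (MulAut.conjNormal g n) : ℂ) := by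
    intro g n
    rw [detChar_conjChar N (IsIrrCharacter.isCharacter θ.2), hδ]
    rfl
  have key : ∀ (θ' : IrrCharacter N) (δ' : N →* ℂˣ), detChar (θ' : N → ℂ) = linFun δ' →
      ∀ χ' : IrrCharacter G, Over N χ' θ' → inertia N (linFun (δ' ^ k)) = ⊤ → δ' ^ k ≠ 1 →
        r ∣ charDegree (χ' : G → ℂ) :=
    fun _ _ hδ' _ hover htop hne => dvd_of_invariant_det N hNG hr hδ' hover htop hne
  have hTδ : inertia N (θ : N → ℂ) ≤ inertia N (linFun δr) := fun g hg => by
    refine inertia_le_pow N δ k ?_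
    rw [mem_inertia]
    funext n
    rw [conjChar_eq_comp, linFun_apply]
    show (δ (MulAut.conjNormal g n) : ℂ) = _
    rw [← hconjdet, (mem_inertia N (θ : N → ℂ) g).1 hg, hδ, linFun_apply]
  have hTr : ¬ r ∣ (inertia N (θ : N → ℂ)).index := fun h => hra (h.trans (RelGraph.index_dvd N hθ))
  by_cases hδ1 : δr = 1
  swap
  · -- the `r`-part of the determinant is non-trivial
    have hnot : inertia N (linFun δr) ≠ ⊤ := fun h => hra (key θ δ hδ χ hθ h hδ1)
    have hgood : Good N δr := by
      refine ⟨r, (Nat.card N).factorization r, hr, hδ1, orderOf_dvd_of_pow_eq_one ?_,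
        fun h => hTr (h.trans (Subgroup.index_dvd_of_le hTδ))⟩
      rw [hδr, pp, hk, mul_comm, Nat.ordProj_mul_ordCompl_eq_self]
      exact orderOf_dvd_iff_pow_eq_one.1 (orderOf_linear_dvd_card N δ)
    obtain ⟨b, hb⟩ := exists_isOver N δr
    exact ⟨δr, b, hgood, hb, con_of_common N ha (hb.mem N hδ1)
      (fun h => hnot (Subgroup.index_eq_one.1 h))
      ((Subgroup.index_dvd_of_le hTδ).trans (RelGraph.index_dvd N hθ)) hb.index_dvd⟩
  obtain ⟨lam, hgood, hlo, hli⟩ := exists_good N hr hrm
  have hlam1 : lam ≠ 1 := fun h => hr.ne_one (by rw [← hlo, h, orderOf_one])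
  obtain ⟨b, hb⟩ := exists_isOver N lam
  let θ' : IrrCharacter N := ⟨linFun lam * (θ : N → ℂ), isIrrCharacter_linFun_mul lam θ.2⟩
  set f := charDegree (θ : N → ℂ) with hf
  have hf' : charDegree (θ' : N → ℂ) = f := by
    have h1 := (BrauerCharacters.charDegree_spec θ').1
    rw [show (θ' : N → ℂ) 1 = (θ : N → ℂ) 1 by
      show linFun lam 1 * (θ : N → ℂ) 1 = _; simp [linFun_apply],
      (BrauerCharacters.charDegree_spec θ).1] at h1
    exact_mod_cast h1.symm
  have hrf : ¬ r ∣ f := fun h => hra (h.trans (degree_dvd N hθ))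
  have hδ' : detChar (θ' : N → ℂ) = linFun (lam ^ f * δ) := by
    rw [show (θ' : N → ℂ) = linFun lam * (θ : N → ℂ) from rfl,
      detChar_mul_linear lam (IsIrrCharacter.isCharacter θ.2)
        (BrauerCharacters.charDegree_spec θ).1, hδ]
    funext n
    simp [linFun_apply, hf]
  have hδ'k : (lam ^ f * δ) ^ k = lam ^ (f * k) := by
    refine MonoidHom.ext fun n => ?_
    have h1 : (δ n) ^ k = 1 := DFunLike.congr_fun hδ1 n
    simp [mul_pow, h1, pow_mul]
  obtain ⟨j, hj⟩ := exists_pow_eq_self_of_coprime (G := N →* ℂˣ) (x := lam) (n := f * k) (by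
    rw [hlo]
    exact Nat.Coprime.symm ((hr.coprime_iff_not_dvd).2 fun h => (hr.dvd_mul.1 h).elim hrf hkr))
  have hT' : inertia N (θ' : N → ℂ) ≤ inertia N (linFun lam) := by
    intro g hg
    rw [← hj]
    refine inertia_le_pow N _ j ?_
    rw [← hδ'k]
    refine inertia_le_pow N _ k ?_
    rw [mem_inertia]
    funext n
    have h1 : detChar (conjChar N (θ' : N → ℂ) g) n = detChar (θ' : N → ℂ) n := by
      rw [(mem_inertia N (θ' : N → ℂ) g).1 hg]
    rw [detChar_conjChar N (IsIrrCharacter.isCharacter θ'.2), hδ'] at h1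
    rw [conjChar_eq_comp]
    exact h1
  have hT'θ : inertia N (θ' : N → ℂ) ≤ inertia N (θ : N → ℂ) := by
    intro g hg
    rw [mem_inertia]
    funext n
    have h1 := congrFun ((mem_inertia N (θ' : N → ℂ) g).1 hg) n
    have h2 := congrFun ((mem_inertia N (linFun lam) g).1 (hT' hg)) n
    simp only [conjChar_apply, θ', Pi.mul_apply, linFun_apply] at h1 h2 ⊢
    rw [h2] at h1
    exact mul_left_cancel₀ (Units.ne_zero _) h1
  have hθ'1 : (θ' : N → ℂ) ≠ fun _ => 1 := by
    intro h
    have hd : detChar (θ' : N → ℂ) = linFun 1 := by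
      rw [show (θ' : N → ℂ) = linFun 1 from h.trans (funext fun n => by simp [linFun_apply]),
        detChar_linFun]
    rw [hδ'] at hd
    have h2 := linFun_injective hd
    have op : ∀ i : ℕ, (1 : N →* ℂˣ) ^ i = 1 := fun i => one_pow (M := N →* ℂˣ) i
    rw [h2, op] at hδ'k
    rw [← hδ'k, op] at hj
    exact hlam1 hj.symm
  obtain ⟨χ', hχ'⟩ := CfsgLib.BlockLocal.exists_over N θ'
  have hmem' := mem_rel N (show Over N χ' θ' from hχ') hθ'1
  -- from the product to `lam`
  have h2 : Con N (charDegree (χ' : G → ℂ)) b := by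
    by_cases hl : inertia N (linFun lam) = ⊤
    · have h1 : r ∣ charDegree (χ' : G → ℂ) := key θ' (lam ^ f * δ) hδ' χ' hχ'
        (by rw [hδ'k, eq_top_iff, ← hl]; exact inertia_le_pow N lam _)
        (by rw [hδ'k]; exact fun h => hlam1 (by rw [← hj, h]; exact one_pow (M := N →* ℂˣ) j))
      have h3 : r ∣ b := by
        obtain ⟨χb, rfl, hχb⟩ := hb
        exact hlo ▸ orderOf_dvd_of_invariant N hNG hl hχb
      exact con_of_common N hmem' (hb.mem N hlam1) hr.ne_one h1 h3
    · exact con_of_common N hmem' (hb.mem N hlam1) (fun h => hl (Subgroup.index_eq_one.1 h))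
        ((Subgroup.index_dvd_of_le hT').trans (RelGraph.index_dvd N hχ')) hb.index_dvd
  by_cases hTθ : inertia N (θ : N → ℂ) = ⊤
  · by_cases hf1 : f = 1
    · -- `θ` is an invariant linear character, of order prime to `r`
      obtain ⟨μ, hμ⟩ := exists_hom_of_degree_one θ.2 (by
        rw [(BrauerCharacters.charDegree_spec θ).1, ← hf, hf1, Nat.cast_one])
      have hθeq : θ = linIrr N μ := Subtype.ext hμ
      subst hθeq
      rw [coe_linIrr] at hTθ
      have hμ1 : μ ≠ 1 := fun h => hθ1 (by rw [h]; funext n; simp [linFun_apply])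
      obtain ⟨s, hsdef⟩ : ∃ s, s = (orderOf μ).minFac := ⟨_, rfl⟩
      have hs : s.Prime := hsdef ▸ Nat.minFac_prime fun h => hμ1 (orderOf_eq_one_iff.1 h)
      have hsμ : s ∣ orderOf μ := hsdef ▸ Nat.minFac_dvd _
      set μ₀ := μ ^ (orderOf μ / s)
      have ho : orderOf μ₀ = s := by
        rw [orderOf_pow' _ (Nat.div_pos (Nat.le_of_dvd (orderOf_pos μ) hsμ) hs.pos).ne',
          Nat.gcd_eq_right (Nat.div_dvd_of_dvd hsμ), Nat.div_div_self hsμ (orderOf_pos μ).ne']
      have hμ₀1 : μ₀ ≠ 1 := fun h => hs.ne_one (by rw [← ho, h, orderOf_one])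
      have htop₀ : inertia N (linFun μ₀) = ⊤ := eq_top_iff.2 (hTθ ▸ inertia_le_pow N μ _)
      refine ⟨μ₀, _, ⟨s, 1, hs, hμ₀1, by rw [pow_one, ho], by
        rw [htop₀, Subgroup.index_top]; exact hs.not_dvd_one⟩,
        (exists_isOver N μ₀).choose_spec, ?_⟩
      have hb₀ := (exists_isOver N μ₀).choose_spec
      obtain ⟨χ₀, hd₀, hχ₀⟩ := hb₀
      exact con_of_common N ha ((exists_isOver N μ₀).choose_spec.mem N hμ₀1) hs.ne_one
        (hsμ.trans (orderOf_dvd_of_invariant N hNG hTθ hθ))
        (hd₀ ▸ ho ▸ orderOf_dvd_of_invariant N hNG htop₀ hχ₀)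
    · exact ⟨lam, b, hgood, hb, (con_of_common N ha hmem' hf1 (degree_dvd N hθ)
        (hf' ▸ degree_dvd N hχ')).trans N h2⟩
  · exact ⟨lam, b, hgood, hb, (con_of_common N ha hmem'
      (fun h => hTθ (Subgroup.index_eq_one.1 h)) (RelGraph.index_dvd N hθ)
      ((Subgroup.index_dvd_of_le hT'θ).trans (RelGraph.index_dvd N hχ'))).trans N h2⟩

/-- Relative degrees prime to some prime divisors of `[N : N']` are connected. -/
theorem con_of_not_dvd (hNG : N ≤ commutator G) {r s a b : ℕ} (hr : r.Prime) (hs : s.Prime)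
    (hrm : r ∣ ⁅N, N⁆.relIndex N) (hsm : s ∣ ⁅N, N⁆.relIndex N)
    (ha : a ∈ relCharDegrees N) (hb : b ∈ relCharDegrees N) (hra : ¬ r ∣ a) (hsb : ¬ s ∣ b) :
    Con N a b := by
  obtain ⟨μ, a', hμ, ha', hc⟩ := exists_good_con N hNG hr hrm ha hra
  obtain ⟨ν, b', hν, hb', hc'⟩ := exists_good_con N hNG hs hsm hb hsb
  exact (hc.trans N (con_linear N hNG hμ hν ha' hb')).trans N hc'.symm

end Over

end CfsgLib.ZerosCodegree.RelGraph
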