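import Cfsg.Agent.Lib.ZerosCodegree.PalfyCount
import Cfsg.Agent.Lib.ZerosCodegree.RelDegreeGraph

/-!
# Two primes with one fixing Sylow subgroup for every vector

If a finite solvable group acts faithfully and irreducibly on a finite abelian group so that, for
two primes `q` and `r` dividing its order, every non-zero vector is fixed by exactly one Sylow
subgroup for each of them, then `q * r` divides the degree of an irreducible character.
-/

set_option autoImplicit false
set_option linter.style.haveILetI false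
set_option linter.unusedSectionVars false

open scoped Pointwise commutatorElement

namespace CfsgLib.ZerosCodegree.Palfy

open Cfsg CfsgLib.CharTheory CfsgLib.Clifford CfsgLib.ZerosCodegree.RelGraph

/-- A subgroup of index prime to `q` contains a Sylow `q`-subgroup. -/
theorem exists_sylow_le {H : Type*} [Group H] [Finite H] {q : ℕ} [Fact q.Prime] (T : Subgroup H)
    (h : ¬ q ∣ T.index) : ∃ S : Sylow q H, (S : Subgroup H) ≤ T := by
  obtain ⟨S⟩ : Nonempty (Sylow q T) := inferInstance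
  obtain ⟨Q, hQ⟩ := (S.2.map T.subtype).exists_le_sylow
  refine ⟨Q, ?_⟩
  rw [← Subgroup.eq_of_le_of_card_ge hQ ?_]
  · exact Subgroup.map_subtype_le _
  rw [Subgroup.card_map_of_injective T.subtype_injective, S.card_eq_multiplicity,
    Q.card_eq_multiplicity, ← T.index_mul_card,
    Nat.factorization_mul Subgroup.index_ne_zero_of_finite Nat.card_pos.ne']
  simp [Nat.factorization_eq_zero_of_not_dvd h]

/-- A linear character moved by all Sylow `q`- and `r`-subgroups gives a degree. -/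
theorem exists_degree_of_moved {H : Type*} [Group H] [Finite H] {q r : ℕ} [Fact q.Prime]
    [Fact r.Prime] (N : Subgroup H) [N.Normal] (μ : N →* ℂˣ)
    (hq : ∀ S : Sylow q H, ∃ s ∈ (S : Subgroup H), ∃ n : N, μ (MulAut.conjNormal s n) ≠ μ n)
    (hr : ∀ S : Sylow r H, ∃ s ∈ (S : Subgroup H), ∃ n : N, μ (MulAut.conjNormal s n) ≠ μ n) :
    ∃ χ : IrrCharacter H, q ∣ charDegree (χ : H → ℂ) ∧ r ∣ charDegree (χ : H → ℂ) := by
  haveI := Fintype.ofFinite H
  haveI := Fintype.ofFinite N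
  obtain ⟨χ, hχ⟩ := CfsgLib.BlockLocal.exists_over N (linIrr N μ)
  have h := RelGraph.index_dvd N (show Over N χ (linIrr N μ) from hχ)
  have key : ∀ {t : ℕ} [Fact t.Prime],
      (∀ S : Sylow t H, ∃ s ∈ (S : Subgroup H), ∃ n : N, μ (MulAut.conjNormal s n) ≠ μ n) →
      t ∣ (inertia N (linIrr N μ : N → ℂ)).index := by
    intro t _ ht
    by_contra hn
    obtain ⟨S, hS⟩ := exists_sylow_le _ hn
    obtain ⟨s, hs, n, hne⟩ := ht S
    have h1 := congrFun ((mem_inertia N (linIrr N μ : N → ℂ) s).1 (hS hs)) n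
    rw [coe_linIrr, conjChar_eq_comp] at h1
    exact hne (Units.ext (by simpa [linFun_apply] using h1))
  exact ⟨χ, (key hq).trans h, (key hr).trans h⟩

/-- A finite cyclic group has a faithful linear character. -/
theorem exists_injective_hom (A : Type*) [CommGroup A] [Finite A] [IsCyclic A] :
    ∃ α : A →* ℂˣ, Function.Injective α := by
  obtain ⟨e⟩ := CommGroup.monoidHom_mulEquiv_of_hasEnoughRootsOfUnity A ℂ
  obtain ⟨g, hg⟩ := IsCyclic.exists_generator (α := A)
  refine ⟨e.symm g, (injective_iff_map_eq_one _).2 fun x hx => ?_⟩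
  by_contra hne
  obtain ⟨ν, hν⟩ := CommGroup.exists_apply_ne_one_of_hasEnoughRootsOfUnity A ℂ hne
  obtain ⟨k, hk⟩ := Subgroup.mem_zpowers_iff.1 (hg (e ν))
  refine hν ?_
  rw [← e.symm_apply_apply ν, ← hk, map_zpow]
  show ((e.symm g) ^ k) x = 1
  exact (show ((e.symm g) ^ k) x = (e.symm g x) ^ k from rfl).trans (by rw [hx, one_zpow])

variable {H : Type*} [Group H] [Finite H] {V : Type*} [AddCommGroup V] [Finite V] [Nontrivial V]

theorem exists_max_abelian (H : Type*) [Group H] [Finite H] :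
    ∃ Z : Subgroup H, Z.Normal ∧ (∀ a ∈ Z, ∀ b ∈ Z, a * b = b * a) ∧
      ∀ Y : Subgroup H, Y.Normal → (∀ a ∈ Y, ∀ b ∈ Y, a * b = b * a) → Z ≤ Y → Y = Z := by
  haveI : Finite (Subgroup H) := Finite.of_injective _ SetLike.coe_injective
  haveI : Nonempty {Y : Subgroup H // Y.Normal ∧ ∀ a ∈ Y, ∀ b ∈ Y, a * b = b * a} :=
    ⟨⟨⊥, inferInstance, fun a ha b hb => by simp_all [Subgroup.mem_bot]⟩⟩
  obtain ⟨⟨Z, hZn, hZc⟩, hmax⟩ := Finite.exists_max
    (fun Y : {Y : Subgroup H // Y.Normal ∧ ∀ a ∈ Y, ∀ b ∈ Y, a * b = b * a} => Nat.card Y.1)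
  exact ⟨Z, hZn, hZc, fun Y hY hYc hle =>
    (Subgroup.eq_of_le_of_card_ge hle (hmax ⟨Y, hY, hYc⟩)).symm⟩

/-- The main lemma. -/
theorem exists_degree {ρ : H →* AddMonoid.End V} (hsolv : Group.IsSolvable H)
    (hρ : Function.Injective ρ) (hirr : Irr ρ) {q r : ℕ} [Fact q.Prime] [Fact r.Prime]
    (hqr : q ≠ r) (hq : q ∣ Nat.card H) (hr : r ∣ Nat.card H) (hsq : Spread ρ q)
    (hsr : Spread ρ r) :
    ∃ χ : IrrCharacter H, q ∣ charDegree (χ : H → ℂ) ∧ r ∣ charDegree (χ : H → ℂ) := by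
  classical
  obtain ⟨Z, hZn, hZc, hZmax⟩ := exists_max_abelian H
  haveI := hZn
  -- the field generated by `Z`
  have hinj : ∀ a ∈ scalarRing ρ Z, a ≠ 0 → Function.Injective a := by
    rcases (Fact.out : q.Prime).eq_two_or_odd' with hq2 | hqodd
    · have hrodd : Odd r := (Fact.out : r.Prime).odd_of_ne_two fun h => hqr (hq2.trans h.symm)
      exact scalarRing_injective hρ hirr hrodd hr hsr Z hZc
    · exact scalarRing_injective hρ hirr hqodd hq hsq Z hZc
  letI : CommRing (scalarRing ρ Z) :=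
    { (inferInstance : Ring (scalarRing ρ Z)) with
      mul_comm := fun a b => Subtype.ext (scalarRing_comm hZc a.2 b.2) }
  haveI : Finite (AddMonoid.End V) := Finite.of_injective _ DFunLike.coe_injective
  obtain ⟨v₀, hv₀⟩ := exists_ne (0 : V)
  haveI : Nontrivial (scalarRing ρ Z) := ⟨⟨0, 1, fun h => hv₀ (by
    have h1 := DFunLike.congr_fun (congrArg Subtype.val h) v₀
    exact h1.symm)⟩⟩
  haveI : NoZeroDivisors (scalarRing ρ Z) := ⟨fun {a b} h => by
    by_contra hne
    push Not at hne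
    refine hne.2 (Subtype.ext (DFunLike.ext _ _ fun v => ?_))
    refine hinj a.1 a.2 (fun h' => hne.1 (Subtype.ext h')) ?_
    exact (DFunLike.congr_fun (congrArg Subtype.val h) v).trans (map_zero a.1).symm⟩
  haveI : IsDomain (scalarRing ρ Z) := NoZeroDivisors.to_isDomain _
  letI : Fintype (scalarRing ρ Z) := Fintype.ofFinite _
  letI : Field (scalarRing ρ Z) := Fintype.fieldOfDomain _
  -- the group `C`
  set C : Subgroup H := Subgroup.centralizer (Z : Set H) with hC
  haveI hCn : C.Normal := inferInstance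
  have hsmul : ∀ (k : scalarRing ρ Z) (v : V), k • v = k.1 v := fun k v => rfl
  have hlin : ∀ c ∈ C, ∀ (k : scalarRing ρ Z) (v : V), ρ c (k • v) = k • ρ c v := by
    intro c hc k v
    rw [hsmul, hsmul]
    have : ρ c * k.1 = k.1 * ρ c := by
      have hk := k.2
      generalize k.1 = a at hk ⊢
      induction hk using Subring.closure_induction with
      | mem x hx =>
        obtain ⟨z, hz, rfl⟩ := hx
        rw [← map_mul, ← map_mul, Subgroup.mem_centralizer_iff.1 hc z hz]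
      | zero => rw [mul_zero, zero_mul]
      | one => rw [mul_one, one_mul]
      | add x y _ _ hx hy => rw [mul_add, add_mul, hx, hy]
      | neg x _ hx => rw [mul_neg, neg_mul, hx]
      | mul x y _ _ hx hy => rw [← mul_assoc, hx, mul_assoc, hy, mul_assoc]
    exact DFunLike.congr_fun this v
  have hZscal : ∀ z ∈ Z, ∃ k : scalarRing ρ Z, ∀ v, ρ z v = k • v := fun z hz =>
    ⟨⟨ρ z, Subring.subset_closure ⟨z, hz, rfl⟩⟩, fun v => rfl⟩
  have hZC : Z ≤ C := fun z hz => Subgroup.mem_centralizer_iff.2 fun y hy => hZc y hy z hz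
  haveI hZcyc : IsCyclic Z := by
    let ι : Z →* scalarRing ρ Z :=
      { toFun := fun z => ⟨ρ z, Subring.subset_closure ⟨z, z.2, rfl⟩⟩
        map_one' := Subtype.ext (map_one ρ)
        map_mul' := fun a b => Subtype.ext (map_mul ρ _ _) }
    refine isCyclic_of_injective ι.toHomUnits fun a b h => Subtype.ext (hρ ?_)
    exact congrArg (fun x : (scalarRing ρ Z)ˣ => (x.1 : AddMonoid.End V)) h
  -- a maximal class two subgroup of `C`
  obtain ⟨F, hFn, hZF, hFC, hFZ, hFmax⟩ : ∃ F : Subgroup H, F.Normal ∧ Z ≤ F ∧ F ≤ C ∧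
      ⁅F, F⁆ ≤ Z ∧ ∀ Y : Subgroup H, Y.Normal → F ≤ Y → Y ≤ C → ⁅Y, Y⁆ ≤ Z → Y = F := by
    haveI : Finite (Subgroup H) := Finite.of_injective _ SetLike.coe_injective
    haveI : Nonempty {Y : Subgroup H // Y.Normal ∧ Z ≤ Y ∧ Y ≤ C ∧ ⁅Y, Y⁆ ≤ Z} :=
      ⟨⟨Z, hZn, le_rfl, hZC, Subgroup.commutator_le_self Z⟩⟩
    obtain ⟨⟨F, h1, h2, h3, h4⟩, hmax⟩ := Finite.exists_max
      (fun Y : {Y : Subgroup H // Y.Normal ∧ Z ≤ Y ∧ Y ≤ C ∧ ⁅Y, Y⁆ ≤ Z} => Nat.card Y.1)
    exact ⟨F, h1, h2, h3, h4, fun Y hY hle hYC hYZ =>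
      (Subgroup.eq_of_le_of_card_ge hle (hmax ⟨Y, hY, h2.trans hle, hYC, hYZ⟩)).symm⟩
  haveI := hFn
  have hcentF : F ⊓ Subgroup.centralizer (F : Set H) = Z := by
    refine hZmax _ inferInstance (fun a ha b hb =>
      (Subgroup.mem_centralizer_iff.1 ha.2 b hb.1).symm) fun z hz => ⟨hZF hz, ?_⟩
    exact Subgroup.mem_centralizer_iff.2 fun y hy =>
      (Subgroup.mem_centralizer_iff.1 (hFC hy) z hz).symm
  have hcentC : C ⊓ Subgroup.centralizer (F : Set H) ≤ Z := by
    set Y : Subgroup H := C ⊓ Subgroup.centralizer (F : Set H) with hY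
    by_contra hcon
    haveI : Y.Normal := inferInstance
    obtain ⟨n, hn⟩ : ∃ n, derivedSeries Y n = ⊥ := by
      haveI := hsolv
      exact (Group.isSolvable_def _).1 inferInstance
    have hex : ∃ k, (derivedSeries Y k).map Y.subtype ≤ Z := ⟨n, by
      rw [hn, Subgroup.map_bot]; exact bot_le⟩
    have hk0 : Nat.find hex ≠ 0 := fun h => by
      have h1 := Nat.find_spec hex
      rw [h, derivedSeries_zero, ← MonoidHom.range_eq_map, Subgroup.range_subtype] at h1
      exact hcon h1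
    obtain ⟨k, hk⟩ : ∃ k, Nat.find hex = k + 1 := ⟨Nat.find hex - 1, by omega⟩
    set D : Subgroup H := (derivedSeries Y k).map Y.subtype with hD
    have hDnot : ¬ D ≤ Z := Nat.find_min hex (by omega)
    have hDY : D ≤ Y := Subgroup.map_subtype_le _
    have hDD : ⁅D, D⁆ ≤ Z := by
      have h1 := Nat.find_spec hex
      rw [hk, derivedSeries_succ, Subgroup.map_commutator] at h1
      exact h1
    have hDn : D.Normal := by
      haveI : (derivedSeries Y k).Characteristic := derivedSeries_characteristic Y k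
      exact ConjAct.normal_of_characteristic_of_normal
    haveI := hDn
    have hsup : ⁅F ⊔ D, F ⊔ D⁆ ≤ Z := by
      have h1 : ⁅F, D⁆ = ⊥ := by
        rw [Subgroup.commutator_eq_bot_iff_le_centralizer]
        exact fun f hf => Subgroup.mem_centralizer_iff.2 fun d hd =>
          ((Subgroup.mem_centralizer_iff.1 (hDY hd).2) f hf).symm
      refine Subgroup.commutator_le.2 fun a ha b hb => ?_
      rw [Subgroup.mem_sup_of_normal_right] at ha hb
      obtain ⟨f₁, hf₁, d₁, hd₁, rfl⟩ := ha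
      obtain ⟨f₂, hf₂, d₂, hd₂, rfl⟩ := hb
      have c1 : ∀ f ∈ F, ∀ d ∈ D, f * d = d * f := fun f hf d hd =>
        commutatorElement_eq_one_iff_mul_comm.1 (by
          rw [← Subgroup.mem_bot, ← h1]; exact Subgroup.commutator_mem_commutator hf hd)
      rw [show ⁅f₁ * d₁, f₂ * d₂⁆ = ⁅f₁, f₂⁆ * ⁅d₁, d₂⁆ by
        rw [commutatorElement_def, commutatorElement_def, commutatorElement_def, mul_inv_rev,
          mul_inv_rev]
        have e1 := c1 f₂ hf₂ d₁ hd₁
        have e2 := c1 f₁⁻¹ (F.inv_mem hf₁) d₁⁻¹ (D.inv_mem hd₁)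
        have e3 := c1 f₁⁻¹ (F.inv_mem hf₁) (d₂ * d₁⁻¹ * d₂⁻¹) (D.mul_mem (D.mul_mem hd₂
          (D.inv_mem hd₁)) (D.inv_mem hd₂))
        have e4 := c1 f₂⁻¹ (F.inv_mem hf₂) (d₁ * (d₂ * d₁⁻¹ * d₂⁻¹)) (D.mul_mem hd₁
          (D.mul_mem (D.mul_mem hd₂ (D.inv_mem hd₁)) (D.inv_mem hd₂)))
        calc f₁ * d₁ * (f₂ * d₂) * (d₁⁻¹ * f₁⁻¹) * (d₂⁻¹ * f₂⁻¹)
            = f₁ * (d₁ * f₂) * d₂ * (d₁⁻¹ * f₁⁻¹) * (d₂⁻¹ * f₂⁻¹) := by group
          _ = f₁ * f₂ * (d₁ * d₂ * (d₁⁻¹ * f₁⁻¹) * d₂⁻¹) * f₂⁻¹ := by rw [← e1]; group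
          _ = f₁ * f₂ * (d₁ * d₂ * (f₁⁻¹ * d₁⁻¹) * d₂⁻¹) * f₂⁻¹ := by rw [e2]
          _ = f₁ * f₂ * f₁⁻¹ * (d₁ * (d₂ * d₁⁻¹ * d₂⁻¹)) * f₂⁻¹ := by
            have e5 : d₂ * f₁⁻¹ = f₁⁻¹ * d₂ := (c1 f₁⁻¹ (F.inv_mem hf₁) d₂ hd₂).symm
            have e6 : d₁ * f₁⁻¹ = f₁⁻¹ * d₁ := (c1 f₁⁻¹ (F.inv_mem hf₁) d₁ hd₁).symm
            calc f₁ * f₂ * (d₁ * d₂ * (f₁⁻¹ * d₁⁻¹) * d₂⁻¹) * f₂⁻¹
                = f₁ * f₂ * (d₁ * (d₂ * f₁⁻¹) * d₁⁻¹ * d₂⁻¹) * f₂⁻¹ := by group
              _ = f₁ * f₂ * ((d₁ * f₁⁻¹) * d₂ * d₁⁻¹ * d₂⁻¹) * f₂⁻¹ := by rw [e5]; group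
              _ = _ := by rw [e6]; group
          _ = f₁ * f₂ * f₁⁻¹ * (f₂⁻¹ * (d₁ * (d₂ * d₁⁻¹ * d₂⁻¹))) := by rw [e4]; group
          _ = f₁ * f₂ * f₁⁻¹ * f₂⁻¹ * (d₁ * d₂ * d₁⁻¹ * d₂⁻¹) := by group]
      exact Z.mul_mem (hFZ (Subgroup.commutator_mem_commutator hf₁ hf₂))
        (hDD (Subgroup.commutator_mem_commutator hd₁ hd₂))
    have hFD : F ⊔ D = F := hFmax _ inferInstance le_sup_left
      (sup_le hFC (hDY.trans inf_le_left)) hsup
    exact hDnot fun d hd => hcentF.le ⟨hFD.le (Subgroup.mem_sup_right hd), (hDY hd).2⟩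
  -- `F` is nilpotent
  have hclF : ∀ a ∈ F, ∀ b ∈ F, ∀ c ∈ F, ⁅a, b⁆ * c = c * ⁅a, b⁆ := fun a ha b hb c hc =>
    Subgroup.mem_centralizer_iff.1 (hFC hc) _ (hFZ (Subgroup.commutator_mem_commutator ha hb))
  have hclF' : commutator F ≤ Subgroup.center F := Subgroup.commutator_le.2 fun a _ b _ =>
    Subgroup.mem_center_iff.2 fun c => Subtype.ext (hclF a a.2 b b.2 c c.2).symm
  haveI hnil : Group.IsNilpotent F := by
    letI : CommGroup (F ⧸ Subgroup.center F) :=
      { (inferInstance : Group (F ⧸ Subgroup.center F)) with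
        mul_comm := fun a b => by
          obtain ⟨a, rfl⟩ := QuotientGroup.mk_surjective a
          obtain ⟨b, rfl⟩ := QuotientGroup.mk_surjective b
          rw [← QuotientGroup.mk_mul, ← QuotientGroup.mk_mul]
          refine QuotientGroup.eq.2 (hclF' ?_)
          rw [show (a * b)⁻¹ * (b * a) = ⁅b⁻¹, a⁻¹⁆ by
            simp [commutatorElement_def, mul_assoc]]
          exact Subgroup.commutator_mem_commutator (Subgroup.mem_top _) (Subgroup.mem_top _) }
    exact Subgroup.isNilpotent_of_ker_le_center (QuotientGroup.mk' (Subgroup.center F))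
      (le_of_eq (QuotientGroup.ker_mk' _))
  -- the Sylow subgroups of `F` are normal in `H`
  have hsyl : ∀ (u : ℕ) [Fact u.Prime] (P : Sylow u F),
      ((P : Subgroup F).map F.subtype).Normal := by
    intro u _ P
    haveI := Sylow.characteristic_of_normal P inferInstance
    exact ConjAct.normal_of_characteristic_of_normal
  -- facts about a Sylow subgroup of `F` as a subgroup of `H`
  have hP : ∀ (u : ℕ) [Fact u.Prime] (P : Sylow u F),
      IsPGroup u ((P : Subgroup F).map F.subtype) ∧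
      commutator ((P : Subgroup F).map F.subtype) ≤
        Subgroup.center ((P : Subgroup F).map F.subtype) ∧
      (P : Subgroup F).map F.subtype ⊓
          Subgroup.centralizer (((P : Subgroup F).map F.subtype : Subgroup H) : Set H) ≤ Z := by
    intro u _ P
    haveI := hsyl u P
    set E : Subgroup H := (P : Subgroup F).map F.subtype with hE
    have hEF : E ≤ F := Subgroup.map_subtype_le _
    refine ⟨P.2.map _, Subgroup.commutator_le.2 fun a _ b _ => Subgroup.mem_center_iff.2 fun c =>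
      Subtype.ext (hclF a (hEF a.2) b (hEF b.2) c (hEF c.2)).symm, fun z hz => ?_⟩
    rw [← hcentF]
    refine ⟨hEF hz.1, ?_⟩
    -- `z` commutes with `P` and with every other Sylow subgroup
    have hzF : z ∈ F := hEF hz.1
    have hall : Subgroup.centralizer {(⟨z, hzF⟩ : F)} = ⊤ := by
      refine Subgroup.eq_top_of_card_eq _ (Nat.dvd_antisymm (Subgroup.card_subgroup_dvd_card _) ?_)
      refine (Nat.dvd_iff_prime_pow_dvd_dvd _ _).2 fun w k hw hwk => ?_
      haveI := Fact.mk hw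
      obtain ⟨Q⟩ : Nonempty (Sylow w F) := inferInstance
      have hQle : (Q : Subgroup F) ≤ Subgroup.centralizer {(⟨z, hzF⟩ : F)} := by
        intro x hx
        rw [Subgroup.mem_centralizer_iff]
        rintro y rfl
        obtain ⟨z', hz', hzz⟩ := Subgroup.mem_map.1 hz.1
        have hz'' : (⟨z, hzF⟩ : F) = z' := Subtype.ext hzz.symm
        by_cases huw : u = w
        · subst huw
          haveI := Sylow.characteristic_of_normal Q inferInstance
          haveI : Subsingleton (Sylow u F) := letI := Sylow.unique_of_normal Q inferInstance; inferInstance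
          have hxP : x ∈ (P : Subgroup F) := Subsingleton.elim Q P ▸ hx
          exact Subtype.ext (Subgroup.mem_centralizer_iff.1 hz.2 (x : H)
            (Subgroup.mem_map.2 ⟨x, hxP, rfl⟩)).symm
        · rw [hz'']
          exact Subgroup.commute_of_normal_of_disjoint (P : Subgroup F) (Q : Subgroup F)
            inferInstance inferInstance (IsPGroup.disjoint_of_ne u w huw _ _ P.2 Q.2) z' x hz' hx
      refine ((Nat.Prime.pow_dvd_iff_le_factorization hw Nat.card_pos.ne').1 hwk |>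
        pow_dvd_pow w).trans ?_
      rw [← Q.card_eq_multiplicity]
      exact Subgroup.card_dvd_of_le hQle
    exact Subgroup.mem_centralizer_iff.2 fun y hy => by
      have h1 : (⟨y, hy⟩ : F) ∈ Subgroup.centralizer {(⟨z, hzF⟩ : F)} := hall ▸ Subgroup.mem_top _
      exact (congrArg Subtype.val (Subgroup.mem_centralizer_iff.1 h1 _ rfl)).symm
  -- the exceptional configuration for a prime whose Sylow subgroups centralise `Z`
  have hexc : ∀ {t : ℕ} [Fact t.Prime], t ∣ Nat.card H → Spread ρ t → ∀ S : Sylow t H,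
      (S : Subgroup H) ≤ C →
      ∀ P : Sylow 2 F,
        Nat.card (Subgroup.center ((P : Subgroup F).map F.subtype)) = 2 ∧
        (P : Subgroup F).map F.subtype ⊓ Subgroup.centralizer (S : Set H) ≤ Z ∧
        ¬ (P : Subgroup F).map F.subtype ≤ Z := by
    intro t _ ht hsp S hSC P₂
    -- `S` does not centralise `F`
    have hmove : ¬ F ≤ Subgroup.centralizer (S : Set H) := by
      intro h
      have hS : (S : Subgroup H) ≤ Z := fun s hs => hcentC ⟨hSC hs,
        Subgroup.mem_centralizer_iff.2 fun f hf =>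
          (Subgroup.mem_centralizer_iff.1 (h hf) s hs).symm⟩
      haveI : ((S : Subgroup H).subgroupOf Z).Normal :=
        ⟨fun a ha b => by
          rw [show b * a * b⁻¹ = a from Subtype.ext (by
            show (b : H) * a * (b : H)⁻¹ = a
            rw [hZc b b.2 a a.2, mul_inv_cancel_right])]
          exact ha⟩
      let SZ : Sylow t Z := S.subtype hS
      haveI := Sylow.characteristic_of_normal SZ this
      haveI : ((SZ : Subgroup Z).map Z.subtype).Normal := ConjAct.normal_of_characteristic_of_normal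
      have h1 : (SZ : Subgroup Z).map Z.subtype = S :=
        Subgroup.map_subgroupOf_eq_of_le hS
      rw [h1] at this
      exact S.ne_bot_of_dvd_card ht (core_trivial hρ hsp S.2)
    obtain ⟨u, hu, P, hPmove⟩ : ∃ (u : ℕ) (hu : Fact u.Prime) (P : Sylow u F),
        ¬ (P : Subgroup F).map F.subtype ≤ Subgroup.centralizer (S : Set H) := by
      by_contra hcon
      push Not at hcon
      refine hmove ?_
      rw [← Subgroup.subgroupOf_eq_top]
      refine Subgroup.eq_top_of_card_eq _ (Nat.dvd_antisymm (Subgroup.card_subgroup_dvd_card _) ?_)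
      refine (Nat.dvd_iff_prime_pow_dvd_dvd _ _).2 fun w k hw hwk => ?_
      obtain ⟨Q⟩ : Nonempty (Sylow w F) := inferInstance
      haveI := Fact.mk hw
      refine ((Nat.Prime.pow_dvd_iff_le_factorization hw Nat.card_pos.ne').1 hwk |>
        pow_dvd_pow w).trans ?_
      rw [← Q.card_eq_multiplicity]
      exact Subgroup.card_dvd_of_le fun x hx => hcon w ⟨hw⟩ Q (Subgroup.mem_map.2 ⟨x, hx, rfl⟩)
    haveI := hsyl u P
    obtain ⟨hEp, hEcl, hEZ⟩ := hP u P
    have htu : t ≠ u := fun h => by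
      subst h
      exact hPmove ((core_trivial hρ hsp hEp).le.trans bot_le)
    obtain ⟨hu2, hcard, hfix⟩ := exceptional hρ htu hsp C hlin _
      ((Subgroup.map_subtype_le _).trans hFC) hEp hEcl (fun z hz => hZscal z (hEZ hz)) S hSC hPmove
    subst hu2
    haveI : Subsingleton (Sylow 2 F) := letI := Sylow.unique_of_normal P inferInstance; inferInstance
    rw [Subsingleton.elim P₂ P]
    refine ⟨hcard, fun x hx => hEZ ⟨hx.1, hfix hx⟩, fun h => hPmove fun x hx => ?_⟩
    exact Subgroup.mem_centralizer_iff.2 fun s hs =>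
      (Subgroup.mem_centralizer_iff.1 (hSC hs) x (h hx)).symm
  -- a Sylow subgroup in the stabiliser of a character which is faithful on `Z`
  obtain ⟨α, hα⟩ : ∃ α : Z →* ℂˣ, Function.Injective α := by
    letI : CommGroup Z := IsCyclic.commGroup
    exact exists_injective_hom Z
  have hmoveZ : ∀ {t : ℕ} [Fact t.Prime], (∀ S : Sylow t H, ¬ (S : Subgroup H) ≤ C) →
      ∀ S : Sylow t H, ∃ s ∈ (S : Subgroup H), ∃ n : Z, α (MulAut.conjNormal s n) ≠ α n := by
    intro t _ h S
    by_contra hcon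
    push Not at hcon
    refine h S fun s hs => Subgroup.mem_centralizer_iff.2 fun z hz => ?_
    have h1 : s * z * s⁻¹ = z := congrArg Subtype.val (hα (hcon s hs ⟨z, hz⟩))
    exact (mul_inv_eq_iff_eq_mul.1 h1).symm
  have hallC : ∀ {t : ℕ} [Fact t.Prime] (S : Sylow t H), (S : Subgroup H) ≤ C →
      ∀ T : Sylow t H, (T : Subgroup H) ≤ C := by
    intro t _ S hSC T x hx
    obtain ⟨g, rfl⟩ := MulAction.exists_smul_eq H S T
    rw [Sylow.coe_subgroup_smul, Subgroup.mem_pointwise_smul_iff_inv_smul_mem] at hx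
    have h := hCn.conj_mem _ (hSC hx) g
    simpa [MulAut.smul_def, ← map_inv, MulAut.conj_apply, mul_assoc] using h
  by_cases hboth : (∀ S : Sylow q H, ¬ (S : Subgroup H) ≤ C) ∧
      (∀ S : Sylow r H, ¬ (S : Subgroup H) ≤ C)
  · exact exists_degree_of_moved Z α (hmoveZ hboth.1) (hmoveZ hboth.2)
  -- a prime centralising `Z`
  obtain ⟨t, t', ht', ht'sp, ht, htsp, S, hSC, hfin⟩ : ∃ (t t' : ℕ) (_ : t' ∣ Nat.card H)
      (_ : Spread ρ t') (_ : t ∣ Nat.card H) (_ : Spread ρ t) (S : Sylow t H),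
      (S : Subgroup H) ≤ C ∧ t.Prime ∧ t'.Prime ∧
      ((∃ χ : IrrCharacter H, t ∣ charDegree (χ : H → ℂ) ∧ t' ∣ charDegree (χ : H → ℂ)) →
        ∃ χ : IrrCharacter H, q ∣ charDegree (χ : H → ℂ) ∧ r ∣ charDegree (χ : H → ℂ)) := by
    rcases not_and_or.1 hboth with h | h
    · push Not at h
      obtain ⟨S, hS⟩ := h
      exact ⟨q, r, hr, hsr, hq, hsq, S, hS, Fact.out, Fact.out, id⟩
    · push Not at h
      obtain ⟨S, hS⟩ := h
      exact ⟨r, q, hq, hsq, hr, hsr, S, hS, Fact.out, Fact.out,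
        fun ⟨χ, h1, h2⟩ => ⟨χ, h2, h1⟩⟩
  obtain ⟨htp, ht'p, hfin⟩ := hfin
  haveI := Fact.mk htp
  haveI := Fact.mk ht'p
  refine hfin ?_
  obtain ⟨P⟩ : Nonempty (Sylow 2 F) := inferInstance
  haveI := hsyl 2 P
  set E : Subgroup H := (P : Subgroup F).map F.subtype with hE
  obtain ⟨hEp, hEcl, hEZ⟩ := hP 2 P
  obtain ⟨hcard, -, hEnot⟩ := hexc ht htsp S hSC P
  have hEF : E ≤ F := Subgroup.map_subtype_le _
  have hEne : E ≠ ⊥ := fun h => hEnot (h.le.trans bot_le)
  -- a character of `E` which is trivial on the centre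
  obtain ⟨μ, hμ, hμne⟩ : ∃ μ : E →* ℂˣ, (∀ x : E, (x : H) ∈ Z → μ x = 1) ∧ μ ≠ 1 := by
    haveI : (Z.subgroupOf E).Normal := inferInstance
    letI : CommGroup (E ⧸ Z.subgroupOf E) :=
      { (inferInstance : Group (E ⧸ Z.subgroupOf E)) with
        mul_comm := fun a b => by
          obtain ⟨a, rfl⟩ := QuotientGroup.mk_surjective a
          obtain ⟨b, rfl⟩ := QuotientGroup.mk_surjective b
          rw [← QuotientGroup.mk_mul, ← QuotientGroup.mk_mul]
          refine QuotientGroup.eq.2 (Subgroup.mem_subgroupOf.2 (hFZ ?_))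
          rw [show (((a * b)⁻¹ * (b * a) : E) : H) = ⁅(b : H)⁻¹, (a : H)⁻¹⁆ by
            simp [commutatorElement_def, mul_assoc]]
          exact Subgroup.commutator_mem_commutator (F.inv_mem (hEF b.2)) (F.inv_mem (hEF a.2)) }
    obtain ⟨x, hx⟩ : ∃ x : E, (x : H) ∉ Z := by
      by_contra h
      push Not at h
      exact hEnot fun y hy => h ⟨y, hy⟩
    obtain ⟨ν, hν⟩ := CommGroup.exists_apply_ne_one_of_hasEnoughRootsOfUnity
      (E ⧸ Z.subgroupOf E) ℂ (a := (x : E ⧸ Z.subgroupOf E)) (fun h => hx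
        (Subgroup.mem_subgroupOf.1 ((QuotientGroup.eq_one_iff x).1 h)))
    refine ⟨ν.comp (QuotientGroup.mk' _), fun y hy => ?_, fun h => hν (DFunLike.congr_fun h x)⟩
    show ν (QuotientGroup.mk' _ y) = 1
    rw [QuotientGroup.mk'_apply, (QuotientGroup.eq_one_iff y).2 (Subgroup.mem_subgroupOf.2 hy),
      map_one]
  have hnot2 : ∀ {w : ℕ} [Fact w.Prime], Spread ρ w → w ≠ 2 := fun hw h => by
    subst h
    exact hEne (core_trivial hρ hw hEp)
  -- no Sylow subgroup centralising `Z` fixes `μ`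
  have hmovμ : ∀ {w : ℕ} [Fact w.Prime], w ∣ Nat.card H → Spread ρ w → ∀ T : Sylow w H,
      (T : Subgroup H) ≤ C → ∃ s ∈ (T : Subgroup H), ∃ n : E, μ (MulAut.conjNormal s n) ≠ μ n := by
    intro w _ hw hwsp T hTC
    by_contra hcon
    push Not at hcon
    refine hμne (MonoidHom.ext fun x => ?_)
    obtain ⟨-, hfix, -⟩ := hexc hw hwsp T hTC P
    let X := {y : E // μ y = μ x}
    letI : MulAction T X :=
      { smul := fun s y => ⟨MulAut.conjNormal (s : H) y.1, (hcon s s.2 y.1).trans y.2⟩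
        one_smul := fun y => Subtype.ext (by
          show MulAut.conjNormal (1 : H) y.1 = y.1; rw [map_one, MulAut.one_apply])
        mul_smul := fun a b y => Subtype.ext (by
          show MulAut.conjNormal ((a : H) * b) y.1 =
            MulAut.conjNormal (a : H) (MulAut.conjNormal (b : H) y.1)
          rw [map_mul, MulAut.mul_apply]) }
    have hX : Nat.card X = Nat.card μ.ker := Nat.card_congr
      { toFun := fun y => ⟨x⁻¹ * y.1, by rw [MonoidHom.mem_ker, map_mul, map_inv, y.2, inv_mul_cancel]⟩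
        invFun := fun k => ⟨x * k.1, by rw [map_mul, MonoidHom.mem_ker.1 k.2, mul_one]⟩
        left_inv := fun y => Subtype.ext (mul_inv_cancel_left _ _)
        right_inv := fun k => Subtype.ext (inv_mul_cancel_left _ _) }
    obtain ⟨y, hy⟩ := T.2.nonempty_fixed_point_of_prime_not_dvd_card (α := X) (by
      obtain ⟨k, hk⟩ := IsPGroup.iff_card.1 (hEp.to_subgroup μ.ker)
      rw [hX, hk]
      exact fun h => hnot2 hwsp ((Nat.prime_dvd_prime_iff_eq Fact.out Nat.prime_two).1
        ((Fact.out : w.Prime).dvd_of_dvd_pow h)))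
    have hyT : (y.1 : H) ∈ Subgroup.centralizer (T : Set H) := by
      refine Subgroup.mem_centralizer_iff.2 fun s hs => ?_
      have h1 : MulAut.conjNormal s y.1 = y.1 := congrArg Subtype.val (hy ⟨s, hs⟩)
      have h2 : s * (y.1 : H) * s⁻¹ = y.1 := (MulAut.conjNormal_apply s y.1).symm.trans
        (congrArg Subtype.val h1)
      exact mul_inv_eq_iff_eq_mul.1 h2
    rw [← y.2, hμ y.1 (hfix ⟨y.1.2, hyT⟩)]
    rfl
  by_cases ht'C : ∃ T : Sylow t' H, (T : Subgroup H) ≤ C
  · obtain ⟨T, hT⟩ := ht'C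
    exact exists_degree_of_moved E μ (fun U => hmovμ ht htsp U (hallC S hSC U))
      (fun U => hmovμ ht' ht'sp U (hallC T hT U))
  push Not at ht'C
  -- combine `μ` with a faithful character of `Z` modulo `E`
  set W : Subgroup Z := E.subgroupOf Z with hW
  obtain ⟨β, hβ⟩ : ∃ β : Z →* ℂˣ, β.ker = W := by
    letI : CommGroup Z := IsCyclic.commGroup
    haveI : IsCyclic (Z ⧸ W) := isCyclic_of_surjective _ (QuotientGroup.mk'_surjective W)
    obtain ⟨γ, hγ⟩ := exists_injective_hom (Z ⧸ W)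
    refine ⟨γ.comp (QuotientGroup.mk' W), ?_⟩
    ext z
    rw [MonoidHom.mem_ker, MonoidHom.comp_apply, hγ.eq_iff' (map_one γ)]
    exact QuotientGroup.eq_one_iff z
  let π : E × Z →* (E ⊔ Z : Subgroup H) :=
    { toFun := fun p => ⟨(p.1 : H) * p.2, Subgroup.mul_mem_sup p.1.2 p.2.2⟩
      map_one' := Subtype.ext (mul_one _)
      map_mul' := fun a b => Subtype.ext (by
        show ((a.1 * b.1 : E) : H) * ((a.2 * b.2 : Z) : H) = (a.1 : H) * a.2 * ((b.1 : H) * b.2)
        have h := Subgroup.mem_centralizer_iff.1 (hFC (hEF b.1.2)) a.2 a.2.2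
        push_cast
        rw [mul_assoc, mul_assoc, ← mul_assoc (b.1 : H), ← h, mul_assoc]) }
  have hπ : Function.Surjective π := by
    intro ⟨x, hx⟩
    obtain ⟨a, ha, b, hb, rfl⟩ := Subgroup.mem_sup_of_normal_right.1 hx
    exact ⟨(⟨a, ha⟩, ⟨b, hb⟩), rfl⟩
  let φ : E × Z →* ℂˣ := μ.coprod β
  have hker : π.ker ≤ φ.ker := by
    rintro ⟨a, b⟩ hab
    have h1 : (a : H) * b = 1 := congrArg Subtype.val hab
    have ha : (a : H) ∈ Z := by
      rw [eq_inv_of_mul_eq_one_left h1]; exact Z.inv_mem b.2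
    have hb : b ∈ β.ker := by
      rw [hβ, hW, Subgroup.mem_subgroupOf, eq_inv_of_mul_eq_one_right h1]
      exact E.inv_mem a.2
    show μ a * β b = 1
    rw [hμ a ha, MonoidHom.mem_ker.1 hb, mul_one]
  let ψ : (E ⊔ Z : Subgroup H) →* ℂˣ := π.liftOfSurjective hπ ⟨φ, hker⟩
  have hψ : ∀ p, ψ (π p) = φ p := MonoidHom.liftOfRightInverse_comp_apply _ _ _ ⟨φ, hker⟩
  refine exists_degree_of_moved (E ⊔ Z) ψ (fun U => ?_) (fun U => ?_)
  · obtain ⟨s, hs, n, hn⟩ := hmovμ ht htsp U (hallC S hSC U)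
    refine ⟨s, hs, π (n, 1), fun h => hn ?_⟩
    have h1 : MulAut.conjNormal s (π (n, 1)) = π (MulAut.conjNormal s n, 1) :=
      Subtype.ext (by simp [π])
    rw [h1, hψ, hψ] at h
    simpa [φ] using h
  · by_contra hcon
    push Not at hcon
    refine ht'C U fun s hs => Subgroup.mem_centralizer_iff.2 fun z hz => ?_
    -- `s` moves `z` by at most the central involution
    have hE2 : ∀ w : H, w ∈ E → w ∈ Z → w * w = 1 := by
      intro w hwE hwZ
      have hwc : (⟨w, hwE⟩ : E) ∈ Subgroup.center E := Subgroup.mem_center_iff.2 fun y =>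
        Subtype.ext ((Subgroup.mem_centralizer_iff.1 (hFC (hEF y.2)) w hwZ).symm)
      have h1 : (⟨⟨w, hwE⟩, hwc⟩ : Subgroup.center E) ^ 2 = 1 := by
        rw [← hcard]; exact pow_card_eq_one'
      rw [← sq]
      exact congrArg (fun y : Subgroup.center E => ((y : E) : H)) h1
    have hstep : ∀ x ∈ Z, ∀ g ∈ (U : Subgroup H), g * x * g⁻¹ * x⁻¹ ∈ E ∧
        g * x * g⁻¹ * x⁻¹ ∈ Z := by
      intro x hx g hg
      have hgx : g * x * g⁻¹ ∈ Z := hZn.conj_mem x hx g
      refine ⟨?_, Z.mul_mem hgx (Z.inv_mem hx)⟩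
      have h2 := hcon g hg (π (1, ⟨x, hx⟩))
      have h1 : MulAut.conjNormal g (π (1, ⟨x, hx⟩)) = π (1, ⟨_, hgx⟩) :=
        Subtype.ext (by simp [π])
      rw [h1, hψ, hψ] at h2
      have h3 : (⟨g * x * g⁻¹, hgx⟩ * ⟨x, hx⟩⁻¹ : Z) ∈ β.ker := by
        rw [MonoidHom.mem_ker, map_mul, map_inv, mul_inv_eq_one]
        simpa [φ] using h2
      rw [hβ] at h3
      exact h3
    set w := s * z * s⁻¹ * z⁻¹ with hw
    obtain ⟨hwE, hwZ⟩ := hstep z hz s hs
    have hsz : s * z * s⁻¹ = w * z := (inv_mul_cancel_right _ _).symm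
    rw [← hw] at hwE hwZ
    clear_value w
    -- the involution is fixed by `s`
    have hwfix : s * w * s⁻¹ = w := by
      by_cases h1 : w = 1
      · rw [h1, mul_one, mul_inv_cancel]
      have key : ∀ y : H, ∀ hyE : y ∈ E, y ∈ Z → (⟨y, hyE⟩ : E) ∈ Subgroup.center E :=
        fun y hyE hyZ => Subgroup.mem_center_iff.2 fun a =>
          Subtype.ext ((Subgroup.mem_centralizer_iff.1 (hFC (hEF a.2)) y hyZ).symm)
      obtain ⟨c, -, hc⟩ := (Nat.card_eq_two_iff' (1 : Subgroup.center E)).1 hcard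
      have hone : ∀ y : H, ∀ hyE : y ∈ E, ∀ hyZ : y ∈ Z, y ≠ 1 →
          (⟨⟨y, hyE⟩, key y hyE hyZ⟩ : Subgroup.center E) = c := fun y hyE hyZ hy1 =>
        hc _ fun h => hy1 (congrArg (fun v : Subgroup.center E => ((v : E) : H)) h)
      have hwc : ∀ y : H, y ∈ E → y ∈ Z → y ≠ 1 → y = w := fun y hyE hyZ hy1 =>
        congrArg (fun v : Subgroup.center E => ((v : E) : H))
          ((hone y hyE hyZ hy1).trans (hone w hwE hwZ h1).symm)
      refine hwc _ ?_ (hZn.conj_mem w hwZ s) fun h => h1 ?_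
      · exact Subgroup.Normal.conj_mem inferInstance w hwE s
      · rwa [conj_eq_one_iff] at h
    have hiter : ∀ n : ℕ, s ^ n * z * (s ^ n)⁻¹ = w ^ n * z := by
      intro n
      induction n with
      | zero => simp
      | succ n ih =>
        calc s ^ (n + 1) * z * (s ^ (n + 1))⁻¹ = s * (s ^ n * z * (s ^ n)⁻¹) * s⁻¹ := by
              rw [pow_succ']; group
          _ = (s * w * s⁻¹) ^ n * (s * z * s⁻¹) := by rw [ih, conj_pow]; group
          _ = w ^ (n + 1) * z := by rw [hwfix, hsz, pow_succ, mul_assoc]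
    have hodd : Odd (orderOf s) := by
      obtain ⟨k, hk⟩ := U.2 ⟨s, hs⟩
      obtain ⟨j, -, hj⟩ := (Nat.dvd_prime_pow Fact.out).1
        (orderOf_dvd_of_pow_eq_one (congrArg Subtype.val hk : s ^ t' ^ k = 1))
      rw [hj]; exact ((Fact.out : t'.Prime).odd_of_ne_two (hnot2 ht'sp)).pow
    obtain ⟨m, hm⟩ := hodd
    have h1 := hiter (orderOf s)
    rw [pow_orderOf_eq_one, one_mul, inv_one, mul_one, hm, pow_succ, pow_mul, sq,
      hE2 w hwE hwZ, one_pow, one_mul] at h1
    rw [right_eq_mul.1 h1, one_mul] at hsz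
    exact (mul_inv_eq_iff_eq_mul.1 hsz).symm

end CfsgLib.ZerosCodegree.Palfy
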