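import Cfsg.Agent.Lib.ZerosCodegree.PalfyTools

/-!
# The critical configuration for the three primes theorem

`M` is the unique minimal normal subgroup of a solvable group `G`, `L` witnesses that `G ⧸ M` has
a normal abelian Sylow `p`-subgroup, and no degree of `G` is divisible by two of `p`, `q`, `r`.
If `M` is not a `p`-group this is impossible; if it is, `L` is a Sylow `p`-subgroup of class two
and we collect what is needed about the characters of `L`.
-/

set_option autoImplicit false
set_option linter.style.haveILetI false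
set_option linter.unusedSectionVars false

open scoped Pointwise commutatorElement

namespace CfsgLib.ZerosCodegree.Palfy

open Cfsg CfsgLib.CharTheory CfsgLib.Clifford CfsgLib.ZerosCodegree.RelGraph

universe u

variable {G : Type u} [Group G] [Finite G]

/-- The critical configuration. -/
structure Crit (M L : Subgroup G) (s p q r : ℕ) : Prop where
  solv : Group.IsSolvable G
  sprime : s.Prime
  pprime : p.Prime
  qprime : q.Prime
  rprime : r.Prime
  pq : p ≠ q
  qr : q ≠ r
  pr : p ≠ r
  sM : IsPGroup s M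
  ab : ∀ a ∈ M, ∀ b ∈ M, a * b = b * a
  ne : M ≠ ⊥
  min : ∀ K : Subgroup G, K.Normal → K ≤ M → K = ⊥ ∨ K = M
  uniq : ∀ N : Subgroup G, N.Normal → N ≠ ⊥ → M ≤ N
  cover : Cover M p L
  vp : Vert G p
  vq : Vert G q
  vr : Vert G r
  rel : ∀ a ∈ relCharDegrees M, p ∣ a
  npq : ¬ Pair G p q
  npr : ¬ Pair G p r
  nqr : ¬ Pair G q r

variable {M L : Subgroup G} {s p q r : ℕ}

theorem Crit.swap (c : Crit M L s p q r) : Crit M L s p r q :=
  { c with qprime := c.rprime, rprime := c.qprime, pq := c.pr, pr := c.pq, qr := c.qr.symm,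
           vq := c.vr, vr := c.vq, npq := c.npr, npr := c.npq, nqr := fun h => c.nqr h.symm }

theorem Crit.not_dvd (c : Crit M L s p q r) {χ : IrrCharacter G}
    (h : charDegree (χ : G → ℂ) ∈ relCharDegrees M) : ¬ q ∣ charDegree (χ : G → ℂ) :=
  fun hq => c.npq ⟨χ, c.rel _ h, hq⟩

theorem mem_ker_dual [M.Normal] (hab : ∀ a ∈ M, ∀ b ∈ M, a * b = b * a) {x : G} :
    x ∈ (dualRep M).ker ↔ ∀ m ∈ M, x * m = m * x := by
  constructor
  · intro hx m hm
    by_contra hne
    have hne' : MulAut.conjNormal x (⟨m, hm⟩ : M) * (⟨m, hm⟩ : M)⁻¹ ≠ 1 := fun h => hne (by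
      have h1 := congrArg Subtype.val h
      simp only [Subgroup.coe_mul, MulAut.conjNormal_apply, Subgroup.coe_inv,
        OneMemClass.coe_one] at h1
      calc x * m = x * m * x⁻¹ * m⁻¹ * (m * x) := by group
        _ = m * x := by rw [h1, one_mul])
    obtain ⟨l, hl⟩ := exists_apply_ne_one hab hne'
    refine hl ?_
    have h1 : dualRep M x (Additive.ofMul l) = Additive.ofMul l := by
      rw [MonoidHom.mem_ker.1 hx]; rfl
    have h2 := mem_stab.1 (dualRep_fix.1 h1) ⟨m, hm⟩
    rw [map_mul, map_inv]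
    exact mul_inv_eq_one.2 h2
  · intro h
    refine MonoidHom.mem_ker.2 (DFunLike.ext _ _ fun v => ?_)
    refine (dualRep_fix.2 (mem_stab.2 fun n => congrArg _ (Subtype.ext ?_))).trans rfl
    rw [MulAut.conjNormal_apply, h n n.2, mul_inv_cancel_right]

theorem le_stab_of_mem_ker [M.Normal] (l : M →* ℂˣ) : (dualRep M).ker ≤ stab M l := fun x hx =>
  dualRep_fix.1 (show dualRep M x (Additive.ofMul l) = Additive.ofMul l by
    rw [MonoidHom.mem_ker.1 hx]; rfl)

theorem Crit.dvd_index (c : Crit M L s p q r) [M.Normal] : q ∣ M.index :=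
  let ⟨χ, hχ⟩ := c.vq; hχ.trans (degree_dvd_index M c.ab χ)

/-- The minimal normal subgroup is a `p`-group. -/
theorem Crit.eq_prime (c : Crit M L s p q r) [M.Normal] : s = p := by
  classical
  by_contra hsp
  haveI := Fintype.ofFinite G
  haveI := Fintype.ofFinite M
  haveI := Fact.mk c.pprime
  haveI := Fact.mk c.sprime
  haveI := c.cover.normal
  obtain ⟨P⟩ : Nonempty (Sylow p G) := inferInstance
  have hPL := sylow_le c.cover.index P
  set H₀ : Subgroup G := Subgroup.normalizer ((P : Subgroup G) : Set G) with hH₀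
  have hdisP : (P : Subgroup G) ⊓ M = ⊥ :=
    disjoint_iff.1 (IsPGroup.disjoint_of_ne p s (Ne.symm hsp) _ _ P.2 c.sM)
  have hcent : ∀ m ∈ M, m ∈ H₀ → ∀ x ∈ L, x * m = m * x := by
    intro m hm hmN
    have hML : L ≤ Subgroup.centralizer {m} := by
      refine c.cover.le_of_sylow (fun y hy => ?_) P (fun y hy => ?_) hPL
      · rw [Subgroup.mem_centralizer_singleton_iff]
        exact c.ab y hy m hm
      · rw [Subgroup.mem_centralizer_singleton_iff]
        have h1 : ⁅y, m⁆ ∈ (P : Subgroup G) ⊓ M := by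
          constructor
          · rw [commutatorElement_def, show y * m * y⁻¹ * m⁻¹ = y * (m * y⁻¹ * m⁻¹) by group]
            exact (P : Subgroup G).mul_mem hy
              ((Subgroup.mem_normalizer_iff.1 hmN _).1 ((P : Subgroup G).inv_mem hy))
          · rw [commutatorElement_def]
            exact M.mul_mem (Subgroup.Normal.conj_mem inferInstance m hm y) (M.inv_mem hm)
        rw [hdisP, Subgroup.mem_bot] at h1
        exact commutatorElement_eq_one_iff_mul_comm.1 h1
    exact fun x hx => Subgroup.mem_centralizer_singleton_iff.1 (hML hx)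
  have hdis : M ⊓ H₀ = ⊥ := by
    by_contra hne
    set Y := M ⊓ Subgroup.centralizer (L : Set G) with hY
    have hle : M ⊓ H₀ ≤ Y := fun m hm =>
      ⟨hm.1, Subgroup.mem_centralizer_iff.2 fun x hx => hcent m hm.1 hm.2 x hx⟩
    rcases c.min Y inferInstance inf_le_left with h | h
    · exact hne (le_bot_iff.1 (h ▸ hle))
    · refine not_vert_of_abelian L (c.cover.comm_of_central c.sprime c.pprime hsp c.sM
        fun x hx m hm => ?_) c.cover.index c.vp
      exact Subgroup.mem_centralizer_iff.1 (h.ge hm).2 x hx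
  have hsup : M ⊔ H₀ = ⊤ := by
    have h1 := Sylow.normalizer_sup_eq_top (P.subtype hPL)
    rw [Sylow.coe_subtype, Subgroup.subgroupOf, Subgroup.map_comap_eq_self (by
      rwa [Subgroup.range_subtype])] at h1
    have hLle : L ≤ M ⊔ H₀ := c.cover.le_of_sylow le_sup_left P
      (Subgroup.le_normalizer.trans le_sup_right) hPL
    exact top_le_iff.1 (h1 ▸ sup_le le_sup_right hLle)
  have hc : M.IsComplement' H₀ := Subgroup.isComplement'_of_disjoint_and_mul_eq_univ
    (disjoint_iff.2 hdis) (by rw [← Subgroup.normal_mul, hsup, Subgroup.coe_top])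
  -- the kernel of the action on the dual is `M`
  set C := (dualRep M).ker with hC
  have hMC : M ≤ C := fun x hx => (mem_ker_dual c.ab).2 fun m hm => c.ab x hx m hm
  have hCM : C = M := by
    refine le_antisymm (fun x hx => ?_) hMC
    obtain ⟨m, hm, h, hh, rfl⟩ := Subgroup.mem_sup_of_normal_left.1
      (show x ∈ M ⊔ H₀ from hsup ▸ Subgroup.mem_top x)
    have hhC : h ∈ C := by simpa using C.mul_mem (C.inv_mem (hMC hm)) hx
    suffices h = 1 by rw [this, mul_one]; exact hm
    have hbot : C ⊓ H₀ = ⊥ := by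
      by_contra hne
      have hn : (C ⊓ H₀).Normal := ⟨fun y hy g => by
        obtain ⟨m', hm', h', hh', rfl⟩ := Subgroup.mem_sup_of_normal_left.1
          (show g ∈ M ⊔ H₀ from hsup ▸ Subgroup.mem_top g)
        have h1 : h' * y * h'⁻¹ ∈ C ⊓ H₀ :=
          ⟨Subgroup.Normal.conj_mem inferInstance y hy.1 h',
            H₀.mul_mem (H₀.mul_mem hh' hy.2) (H₀.inv_mem hh')⟩
        have h2 := (mem_ker_dual c.ab).1 h1.1 m' hm'
        rw [show m' * h' * y * (m' * h')⁻¹ = m' * (h' * y * h'⁻¹) * m'⁻¹ by group, ← h2,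
          mul_inv_cancel_right]
        exact h1⟩
      refine c.ne (le_bot_iff.1 (hdis ▸ le_inf le_rfl ?_))
      exact (c.uniq _ hn hne).trans inf_le_right
    exact Subgroup.mem_bot.1 (hbot ▸ ⟨hhC, hh⟩)
  have huniq : ∀ {t : ℕ} [Fact t.Prime],
      (∀ χ : IrrCharacter G, charDegree (χ : G → ℂ) ∈ relCharDegrees M →
        ¬ t ∣ charDegree (χ : G → ℂ)) →
      ∀ l : M →* ℂˣ, l ≠ 1 → Uniq t ((stab M l).map (QuotientGroup.mk' M)) := by
    intro t _ ht l hl
    refine uniq_stab c.solv M hc l fun χ hχ => ht χ ?_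
    exact mem_rel M (θ := linIrr M l) hχ (linFun_ne_one M hl)
  haveI := Fact.mk c.qprime
  haveI := Fact.mk c.rprime
  have hrel : ∀ t : ℕ, t.Prime → ¬ t ∣ M.relIndex C := fun t ht h => by
    rw [hCM, Subgroup.relIndex_self] at h
    exact ht.not_dvd_one h
  exact c.nqr (pair_of_uniq c.solv M c.ab c.ne c.min M hMC c.qr c.dvd_index c.swap.dvd_index
    (hrel q c.qprime) (hrel r c.rprime) (huniq fun χ => c.not_dvd) (huniq fun χ => c.swap.not_dvd))

section Central

theorem Crit.isPGroup (c : Crit M L p p q r) : IsPGroup p L := fun y => by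
  obtain ⟨k, hk⟩ := c.cover.pow y y.2
  obtain ⟨j, hj⟩ := c.sM ⟨_, hk⟩
  refine ⟨k + j, Subtype.ext ?_⟩
  rw [pow_add, pow_mul]
  simpa using congrArg Subtype.val hj

theorem Crit.commutator_eq (c : Crit M L p p q r) [L.Normal] : ⁅L, L⁆ = M :=
  (c.min _ inferInstance c.cover.comm).resolve_left fun h =>
    not_vert_of_abelian L (fun _ ha _ hb => commutatorElement_eq_one_iff_mul_comm.1
      (Subgroup.mem_bot.1 (h ▸ Subgroup.commutator_mem_commutator ha hb))) c.cover.index c.vp

theorem Crit.central (c : Crit M L p p q r) [M.Normal] [L.Normal] :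
    ∀ x ∈ L, ∀ m ∈ M, x * m = m * x := by
  haveI := Fact.mk c.pprime
  set Y := M ⊓ Subgroup.centralizer (L : Set G) with hY
  rcases c.min Y inferInstance inf_le_left with h | h
  swap
  · exact fun x hx m hm => Subgroup.mem_centralizer_iff.1 (h.ge hm).2 x hx
  exfalso
  let φ : L →* MulAut M := (MulAut.conjNormal : G →* MulAut M).comp L.subtype
  letI : MulAction L M := MulAction.compHom M φ
  obtain ⟨d, hd⟩ := IsPGroup.iff_card.1 c.sM
  have hd0 : d ≠ 0 := fun h0 => c.ne (Subgroup.eq_bot_of_card_eq M (by rw [hd, h0, pow_zero]))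
  have h1 : (1 : M) ∈ MulAction.fixedPoints L M := fun x => map_one (φ x)
  obtain ⟨m, hm, hne⟩ := c.isPGroup.exists_fixed_point_of_prime_dvd_card_of_fixed_point M
    (hd ▸ dvd_pow_self p hd0) h1
  have hmY : (m : G) ∈ Y := ⟨m.2, Subgroup.mem_centralizer_iff.2 fun x hx => by
    have h2 := congrArg Subtype.val (hm ⟨x, hx⟩)
    change x * m * x⁻¹ = (m : G) at h2
    calc x * m = x * m * x⁻¹ * x := by group
      _ = m * x := by rw [h2]⟩
  rw [h, Subgroup.mem_bot] at hmY
  exact hne (Subtype.ext hmY).symm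

theorem Crit.le_ker (c : Crit M L p p q r) [M.Normal] [L.Normal] : L ≤ (dualRep M).ker :=
  fun x hx => (mem_ker_dual c.ab).2 (c.central x hx)

theorem Crit.dvd_index_cover (c : Crit M L p p q r) [M.Normal] : q ∣ L.index := by
  haveI := Fact.mk c.pprime
  have h := c.dvd_index
  rw [← Subgroup.relIndex_mul_index c.cover.le] at h
  refine (c.qprime.dvd_mul.1 h).resolve_left fun hd => ?_
  obtain ⟨a, ha⟩ := IsPGroup.iff_card.1 c.isPGroup
  have := c.qprime.dvd_of_dvd_pow (ha ▸ hd.trans (Subgroup.relIndex_dvd_card M L))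
  exact c.pq ((Nat.prime_dvd_prime_iff_eq c.qprime c.pprime).1 this).symm

theorem Crit.coprime (c : Crit M L p p q r) : (Nat.card L).Coprime L.index := by
  haveI := Fact.mk c.pprime
  obtain ⟨a, ha⟩ := IsPGroup.iff_card.1 c.isPGroup
  rw [ha]
  exact Nat.Coprime.pow_left a (c.pprime.coprime_iff_not_dvd.2 c.cover.index)

/-- A character of `L` over a non-trivial character of `M` with the same stabiliser. -/
theorem Crit.exists_char_over (c : Crit M L p p q r) [M.Normal] [L.Normal] {H₀ : Subgroup G}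
    (hc : L.IsComplement' H₀) (l : M →* ℂˣ) :
    ∃ θ : IrrCharacter L, inertia L (θ : L → ℂ) = stab M l ∧
      ∀ m : M, (θ : L → ℂ) (Subgroup.inclusion c.cover.le m) = (θ : L → ℂ) 1 * (l m : ℂ) := by
  classical
  haveI := c.solv
  haveI := Fact.mk c.pprime
  set N : Subgroup L := M.subgroupOf L
  let e : N ≃* M := Subgroup.subgroupOfEquivOfLe c.cover.le
  haveI := Fintype.ofFinite N
  haveI := Fintype.ofFinite L
  set T := stab M l with hT
  let φ : ↥(H₀ ⊓ T) →* MulAut L := (MulAut.conjNormal : G →* MulAut L).comp (H₀ ⊓ T).subtype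
  have hN : ∀ (s : ↥(H₀ ⊓ T)), ∀ n ∈ N, φ s n ∈ N := fun s n hn =>
    Subgroup.mem_subgroupOf.2 (Subgroup.Normal.conj_mem inferInstance (n : G) hn (s : G))
  have hcop : (Nat.card L).Coprime (Nat.card ↥(H₀ ⊓ T)) := by
    refine c.coprime.coprime_dvd_right ((Subgroup.card_dvd_of_le inf_le_left).trans (dvd_of_eq ?_))
    have h1 := hc.card_mul_card
    rw [← L.card_mul_index] at h1
    exact Nat.eq_of_mul_eq_mul_left Nat.card_pos h1
  let l' : N →* ℂˣ := l.comp e.toMonoidHom
  have hθ0 : CfsgLib.CharDegreesTheory.IsInvariant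
      (CfsgLib.CharDegreesTheory.restrictAction φ N hN) (linIrr N l' : N → ℂ) := by
    intro s n
    show (l (e _) : ℂ) = (l (e n) : ℂ)
    congr 1
    exact mem_stab.1 s.2.2 (e n) ▸ congrArg l (Subtype.ext rfl)
  obtain ⟨θ, hinv, hm⟩ := CfsgLib.CharDegreesTheory.exists_invariant_constituent
    (inferInstance : Group.IsSolvable ↥(H₀ ⊓ T)) φ hcop N hN (linIrr N l') hθ0
  have hNc : N ≤ Subgroup.center L := fun n hn => Subgroup.mem_center_iff.2 fun x =>
    Subtype.ext (c.central x x.2 n hn)
  obtain ⟨ω, hω⟩ := exists_centralHom θ.2 hNc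
  have hωl : ω = l' := by
    by_contra hne
    refine hm ?_
    have h0 := CfsgLib.CharDegreesTheory.classInner_eq_mult N.subtype
      (IsIrrCharacter.isCharacter θ.2) (linIrr N l')
    have e1 : (fun n : N => (θ : L → ℂ) (N.subtype n)) = (θ : L → ℂ) 1 • linFun ω := funext fun n => by
      rw [Pi.smul_apply, linFun_apply, smul_eq_mul, mul_comm, ← hω, one_mul]
      rfl
    have hz : classInner (linFun ω) (linFun l') = 0 :=
      classInner_eq_zero_of_ne (isIrrCharacter_linear ω) (isIrrCharacter_linear l')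
        (fun h => hne (linFun_injective h))
    rw [e1, classInner_smul_left, coe_linIrr, hz, mul_zero] at h0
    exact_mod_cast h0.symm
  have hval : ∀ m : M, (θ : L → ℂ) (Subgroup.inclusion c.cover.le m) =
      (θ : L → ℂ) 1 * (l m : ℂ) := fun m => by
    have h1 := hω 1 (e.symm m)
    rw [one_mul, hωl] at h1
    rw [show Subgroup.inclusion c.cover.le m = ((e.symm m : N) : L) from Subtype.ext rfl, h1,
      mul_comm]
    show _ * (l (e (e.symm m)) : ℂ) = _
    rw [e.apply_symm_apply]
  refine ⟨θ, le_antisymm (fun g hg => mem_stab.2 fun m => Units.ext ?_) (fun g hg => ?_), hval⟩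
  · have h1 := congrFun ((mem_inertia L (θ : L → ℂ) g).1 hg) (Subgroup.inclusion c.cover.le m)
    rw [conjChar_eq_comp] at h1
    refine mul_left_cancel₀ (apply_one_ne_zero_of_isIrr θ.2) ?_
    rw [← hval, ← hval]
    exact (congrArg _ (Subtype.ext rfl)).trans h1
  · obtain ⟨x, hx, h, hh, rfl⟩ := Subgroup.mem_sup_of_normal_left.1
      (show g ∈ L ⊔ H₀ from hc.sup_eq_top ▸ Subgroup.mem_top g)
    have hxT : x ∈ T := le_stab_of_mem_ker l (c.le_ker hx)
    have hhT : h ∈ T := by simpa using T.mul_mem (T.inv_mem hxT) hg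
    refine Subgroup.mul_mem _ (le_inertia L (IsIrrCharacter.isClassFunction θ.2) hx) ?_
    rw [mem_inertia, conjChar_eq_comp]
    exact funext fun n => hinv ⟨h, hh, hhT⟩ n

/-- The stabilisers of non-trivial characters of `M` in `G ⧸ L`. -/
theorem Crit.uniq_central (c : Crit M L p p q r) [M.Normal] [L.Normal] [Fact q.Prime]
    {H₀ : Subgroup G} (hc : L.IsComplement' H₀) (l : M →* ℂˣ) (hl : l ≠ 1) :
    Uniq q ((stab M l).map (QuotientGroup.mk' L)) := by
  classical
  haveI := Fintype.ofFinite G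
  haveI := Fintype.ofFinite L
  haveI := Fintype.ofFinite M
  obtain ⟨θ, hθ, hval⟩ := c.exists_char_over hc l
  set T := stab M l with hT
  have hLT : L ≤ T := c.le_ker.trans (le_stab_of_mem_ker l)
  let e : ↥(L.subgroupOf T) ≃* L := Subgroup.subgroupOfEquivOfLe hLT
  obtain ⟨χ₀, hχ₀, hext⟩ := CfsgLib.CharDegreesTheory.exists_extension_of_coprime (L.subgroupOf T)
    (by
      rw [Nat.card_congr e.toEquiv]
      exact c.coprime.coprime_dvd_right (Subgroup.relIndex_dvd_index_of_normal L T))
    (fun n => (θ : L → ℂ) (e n)) (isIrrCharacter_comp_mulEquiv θ.2 e) fun g n => by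
      have h1 : (g : G) ∈ inertia L (θ : L → ℂ) := by rw [hθ]; exact g.2
      have h2 := congrFun ((mem_inertia L (θ : L → ℂ) (g : G)).1 h1) (e n)
      rw [conjChar_eq_comp] at h2
      exact (congrArg _ (Subtype.ext rfl)).trans h2
  refine uniq_of_extension c.solv L θ T (fun g => by rw [← hθ, mem_inertia]) hχ₀ hLT
    (fun n => hext (e.symm n) |>.trans (by rw [e.apply_symm_apply])) fun χ hχ => c.not_dvd ?_
  refine mem_rel_of_over c.cover.le (show Over L χ θ from hχ) hl ?_
  rw [inner_of_scalar hval]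
  exact apply_one_ne_zero_of_isIrr θ.2

end Central

end CfsgLib.ZerosCodegree.Palfy
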