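import Cfsg.Agent.Lib.ZerosCodegree.RelDegreeGraph
import Cfsg.Agent.Lib.CharTheory.Monomial
import Cfsg.Agent.Lib.RealChar.DegreeRatio

/-!
# Distances in the common divisor graph of relative degrees

For a solvable normal subgroup inside the derived subgroup: two degrees in one component are at
distance at most four, and at most two when the graph is disconnected.
-/

set_option autoImplicit false
set_option linter.style.haveILetI false
set_option linter.unusedSectionVars false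

namespace CfsgLib.ZerosCodegree.RelGraph

open Cfsg CfsgLib.CharTheory CfsgLib.Clifford

universe u

section Walks

variable {G : Type u} [Group G] (N : Subgroup G)

/-- Equal or adjacent relative degrees. -/
def Step (a b : ℕ) : Prop :=
  a ∈ relCharDegrees N ∧ b ∈ relCharDegrees N ∧ (a = b ∨ ∃ s, s ≠ 1 ∧ s ∣ a ∧ s ∣ b)

/-- Relative degrees at distance at most `n`. -/
def Within : ℕ → ℕ → ℕ → Prop
  | 0, a, b => a ∈ relCharDegrees N ∧ a = b
  | n + 1, a, b => ∃ c, Within n a c ∧ Step N c b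

variable {N}

theorem Step.symm {a b : ℕ} (h : Step N a b) : Step N b a :=
  ⟨h.2.1, h.1, h.2.2.imp Eq.symm fun ⟨s, h1, h2, h3⟩ => ⟨s, h1, h3, h2⟩⟩

theorem step_refl {a : ℕ} (ha : a ∈ relCharDegrees N) : Step N a a := ⟨ha, ha, Or.inl rfl⟩

theorem Within.mem_left : ∀ {n a b : ℕ}, Within N n a b → a ∈ relCharDegrees N
  | 0, _, _, h => h.1
  | _ + 1, _, _, ⟨_, h, _⟩ => h.mem_left

theorem Within.mem_right : ∀ {n a b : ℕ}, Within N n a b → b ∈ relCharDegrees N
  | 0, _, _, h => h.2 ▸ h.1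
  | _ + 1, _, _, ⟨_, _, h⟩ => h.2.1

theorem Step.within {a b : ℕ} (h : Step N a b) : Within N 1 a b := ⟨a, ⟨h.1, rfl⟩, h⟩

theorem Within.trans {m a b : ℕ} (h : Within N m a b) :
    ∀ {n c : ℕ}, Within N n b c → Within N (m + n) a c
  | 0, _, h' => h'.2 ▸ h
  | _ + 1, _, ⟨d, h', hs⟩ => ⟨d, h.trans h', hs⟩

theorem Within.succ {n a b : ℕ} (h : Within N n a b) : Within N (n + 1) a b :=
  ⟨b, h, step_refl h.mem_right⟩

theorem Within.mono {n m a b : ℕ} (hnm : n ≤ m) (h : Within N n a b) : Within N m a b := by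
  induction hnm with
  | refl => exact h
  | step _ ih => exact ih.succ

theorem Within.cons {n a b c : ℕ} (h : Step N a b) (h' : Within N n b c) : Within N (n + 1) a c :=
  Nat.add_comm 1 n ▸ h.within.trans h'

theorem Within.symm : ∀ {n a b : ℕ}, Within N n a b → Within N n b a
  | 0, _, _, h => ⟨h.2 ▸ h.1, h.2.symm⟩
  | _ + 1, _, _, ⟨_, h, hs⟩ => Within.cons hs.symm h.symm

theorem Within.map {M : Subgroup G} (hsub : relCharDegrees M ⊆ relCharDegrees N) :
    ∀ {n a b : ℕ}, Within M n a b → Within N n a b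
  | 0, _, _, h => ⟨hsub h.1, h.2⟩
  | _ + 1, _, _, ⟨c, h, hs⟩ => ⟨c, h.map hsub, hsub hs.1, hsub hs.2.1, hs.2.2⟩

theorem rel_mono {M : Subgroup G} (h : M ≤ N) : relCharDegrees M ⊆ relCharDegrees N :=
  fun _ ⟨χ, ⟨x, hx, hne⟩, hd⟩ => ⟨χ, ⟨x, h hx, hne⟩, hd⟩

end Walks

section Distance

variable {G : Type u} [Group G] [Fintype G] (N : Subgroup G) [N.Normal] [Fintype N]

theorem Step.con {a b : ℕ} (h : Step N a b) : Con N a b := by
  obtain ⟨ha, hb, rfl | ⟨s, hs, hsa, hsb⟩⟩ := h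
  · exact ⟨ha, hb, SimpleGraph.Reachable.refl _⟩
  · exact con_of_common N ha hb hs hsa hsb

theorem Within.con : ∀ {n a b : ℕ}, Within N n a b → Con N a b
  | 0, _, _, h => by obtain ⟨ha, rfl⟩ := h; exact ⟨ha, ha, SimpleGraph.Reachable.refl _⟩
  | _ + 1, _, _, ⟨_, h, hs⟩ => h.con.trans N hs.con

theorem Within.edist : ∀ {n a b : ℕ} (h : Within N n a b),
    (commonDivisorGraph.induce (relCharDegrees N)).edist ⟨a, h.mem_left⟩ ⟨b, h.mem_right⟩ ≤ n
  | 0, _, _, h => by obtain ⟨ha, rfl⟩ := h; simp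
  | n + 1, a, b, ⟨c, h, hs⟩ => by
    refine le_trans (SimpleGraph.edist_triangle (v := ⟨c, h.mem_right⟩)) ?_
    push_cast
    refine add_le_add h.edist ?_
    obtain ⟨hc, hb, rfl | ⟨s, hs1, hsc, hsb⟩⟩ := hs
    · simp
    · by_cases hcb : c = b
      · subst hcb; simp
      · refine le_of_eq (SimpleGraph.edist_eq_one_iff_adj.2 ?_)
        show c ≠ b ∧ 1 < Nat.gcd c b
        refine ⟨hcb, ?_⟩
        obtain ⟨χ, -, rfl⟩ := hc
        have hg0 := Nat.gcd_ne_zero_left (n := b) (BrauerCharacters.charDegree_spec χ).2.1.ne'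
        have hg1 : Nat.gcd (charDegree (χ : G → ℂ)) b ≠ 1 := fun h1 =>
          hs1 (Nat.dvd_one.1 (h1 ▸ Nat.dvd_gcd hsc hsb))
        omega

theorem step_of_reachable {a b : ℕ} (h : Con N a b) : ∃ n, Within N n a b := by
  obtain ⟨ha, hb, ⟨p⟩⟩ := h
  suffices ∀ (u v : ↥(relCharDegrees N)), (commonDivisorGraph.induce (relCharDegrees N)).Walk u v →
      ∃ n, Within N n u v from this _ _ p
  intro u v q
  induction q with
  | @nil u => exact ⟨0, u.2, rfl⟩
  | @cons u v w hadj _ ih =>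
    obtain ⟨n, hn⟩ := ih
    have hg : (u : ℕ) ≠ v ∧ 1 < Nat.gcd (u : ℕ) v := hadj
    exact ⟨n + 1, Within.cons ⟨u.2, v.2, Or.inr ⟨_, hg.2.ne', Nat.gcd_dvd_left _ _,
      Nat.gcd_dvd_right _ _⟩⟩ hn⟩

/-- The `r`-part of a linear character. -/
noncomputable def rp (r : ℕ) (μ : N →* ℂˣ) : N →* ℂˣ := μ ^ (ordCompl[r] (Nat.card N))

/-- A linear character of order a power of `r`. -/
def IsR (r : ℕ) (μ : N →* ℂˣ) : Prop := ∃ j : ℕ, orderOf μ ∣ r ^ j

/-- Every non-trivial linear character is moved by the group. -/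
def Moved : Prop := ∀ μ : N →* ℂˣ, μ ≠ 1 → inertia N (linFun μ) ≠ ⊤

/-- The orbit length of a linear character. -/
noncomputable def oo (μ : N →* ℂˣ) : ℕ := (inertia N (linFun μ)).index

variable {N}

theorem rp_mul (r : ℕ) (μ ν : N →* ℂˣ) : rp N r (μ * ν) = rp N r μ * rp N r ν :=
  mul_pow (M := N →* ℂˣ) μ ν _

theorem isR_rp {r : ℕ} (μ : N →* ℂˣ) : IsR N r (rp N r μ) := by
  refine ⟨(Nat.card N).factorization r, orderOf_dvd_of_pow_eq_one ?_⟩
  rw [rp, ← pow_mul (M := N →* ℂˣ) μ, mul_comm, Nat.ordProj_mul_ordCompl_eq_self]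
  exact orderOf_dvd_iff_pow_eq_one.1 (orderOf_linear_dvd_card N μ)

theorem inertia_rp {r : ℕ} (hr : r.Prime) {μ : N →* ℂˣ} (h : IsR N r μ) :
    inertia N (linFun (rp N r μ)) ≤ inertia N (linFun μ) := by
  obtain ⟨j, hj⟩ := h
  obtain ⟨i, hi⟩ := exists_pow_eq_self_of_coprime (G := N →* ℂˣ) (x := μ)
    (n := ordCompl[r] (Nat.card N)) ((Nat.Coprime.pow_right j ((Nat.coprime_comm).1
      ((hr.coprime_iff_not_dvd).2 (Nat.not_dvd_ordCompl hr Nat.card_pos.ne')))).of_dvd_right hj)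
  conv_rhs => rw [← hi]
  exact inertia_le_pow N _ i

theorem rp_eq_one {r s : ℕ} (hr : r.Prime) (hs : s.Prime) (hrs : r ≠ s) {μ : N →* ℂˣ}
    (h : IsR N s μ) : rp N r μ = 1 := by
  obtain ⟨j, hj⟩ := h
  refine orderOf_dvd_iff_pow_eq_one.1 (Nat.Coprime.dvd_of_dvd_mul_left
    (k := orderOf μ) (m := r ^ (Nat.card N).factorization r) (n := ordCompl[r] (Nat.card N)) ?_ ?_)
  · exact Nat.Coprime.coprime_dvd_left hj (Nat.Coprime.pow _ _
      ((Nat.coprime_primes hs hr).2 hrs.symm))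
  · rw [Nat.ordProj_mul_ordCompl_eq_self]; exact orderOf_linear_dvd_card N μ

theorem exists_rp_ne_one {μ : N →* ℂˣ} (hμ : μ ≠ 1) :
    ∃ r : ℕ, r.Prime ∧ r ∣ ⁅N, N⁆.relIndex N ∧ rp N r μ ≠ 1 := by
  obtain ⟨r, hr, hrμ⟩ := Nat.exists_prime_and_dvd fun h => hμ (orderOf_eq_one_iff (G := N →* ℂˣ) (x := μ) |>.1 h)
  refine ⟨r, hr, ?_, fun h => Nat.not_dvd_ordCompl hr Nat.card_pos.ne'
    (hrμ.trans (orderOf_dvd_of_pow_eq_one h))⟩
  rw [← card_linear N]
  exact hrμ.trans (orderOf_dvd_natCard μ)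

theorem inertia_mul_le {r s : ℕ} (hr : r.Prime) (hs : s.Prime) (hrs : r ≠ s) {μ ν : N →* ℂˣ}
    (hμ : IsR N r μ) (hν : IsR N s ν) :
    inertia N (linFun (μ * ν)) ≤ inertia N (linFun μ) := by
  refine le_trans ?_ (inertia_rp hr hμ)
  have h : rp N r (μ * ν) = rp N r μ := by
    rw [rp_mul, rp_eq_one hr hs hrs hν]
    exact mul_one (M := N →* ℂˣ) _
  rw [← h]
  exact inertia_le_pow N _ _

theorem oo_ne_one (hF : Moved N) {μ : N →* ℂˣ} (hμ : μ ≠ 1) : oo N μ ≠ 1 :=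
  fun h => hF μ hμ (Subgroup.index_eq_one.1 h)

theorem not_coprime_product (hF : Moved N) {r : ℕ} (hr : r.Prime) {μ ν : N →* ℂˣ}
    (hμ : IsR N r μ) (hμ1 : μ ≠ 1) (hrν : ¬ r ∣ oo N ν)
    (hg : Nat.Coprime (oo N μ) (oo N ν)) : ¬ Nat.Coprime (oo N μ) (oo N (μ * ν)) := by
  intro hC
  obtain ⟨j, hj⟩ := hμ
  obtain ⟨i, hi⟩ := exists_pow_eq_self_of_coprime (G := N →* ℂˣ) (x := μ) (n := oo N ν)
    ((Nat.Coprime.pow_right j ((Nat.coprime_comm).1 ((hr.coprime_iff_not_dvd).2 hrν))).of_dvd_right hj)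
  refine hF μ hμ1 (eq_top_iff.2 fun g _ => ?_)
  rw [← hi]
  exact inertia_le_pow N _ i (pow_index_invariant N hg hC g)

theorem product_ne_one (hF : Moved N) {μ ν : N →* ℂˣ} (hμ1 : μ ≠ 1)
    (hg : Nat.Coprime (oo N μ) (oo N ν)) : μ * ν ≠ 1 := by
  intro h
  have h1 : ν = μ⁻¹ := eq_inv_of_mul_eq_one_right (α := N →* ℂˣ) (a := μ) (b := ν) h
  have h2 : oo N ν ∣ oo N μ := Subgroup.index_dvd_of_le (h1 ▸ inertia_inv N μ)
  have h3 := Nat.Coprime.eq_one_of_dvd hg.symm h2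
  exact oo_ne_one hF (fun h4 => hμ1 (by rw [← inv_eq_one (α := N →* ℂˣ), ← h1, h4])) h3

theorem IsOver.oo_dvd {μ : N →* ℂˣ} {a : ℕ} (h : IsOver N μ a) : oo N μ ∣ a := h.index_dvd

theorem step_of_dvd {a b s : ℕ} (ha : a ∈ relCharDegrees N) (hb : b ∈ relCharDegrees N)
    (hs : s ≠ 1) (hsa : s ∣ a) (hsb : s ∣ b) : Step N a b := ⟨ha, hb, Or.inr ⟨s, hs, hsa, hsb⟩⟩

theorem step_of_not_coprime {a b m n : ℕ} (ha : a ∈ relCharDegrees N) (hb : b ∈ relCharDegrees N)
    (h : ¬ Nat.Coprime m n) (hma : m ∣ a) (hnb : n ∣ b) : Step N a b :=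
  step_of_dvd ha hb h ((Nat.gcd_dvd_left m n).trans hma) ((Nat.gcd_dvd_right m n).trans hnb)

/-- Two degrees with good `r`-characters. -/
theorem within_two_of_good (hF : Moved N) {r : ℕ} (hr : r.Prime) {μ ν : N →* ℂˣ}
    (hμ : IsR N r μ) (hμ1 : μ ≠ 1) (hrμ : ¬ r ∣ oo N μ) (hν : IsR N r ν) (hν1 : ν ≠ 1)
    (hrν : ¬ r ∣ oo N ν) {b c : ℕ} (hb : b ∈ relCharDegrees N) (hc : c ∈ relCharDegrees N)
    (hμb : oo N μ ∣ b) (hνc : oo N ν ∣ c) : Within N 2 b c := by
  by_cases hg : Nat.Coprime (oo N μ) (oo N ν)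
  swap
  · exact (step_of_not_coprime hb hc hg hμb hνc).within.succ
  obtain ⟨x, hx⟩ := exists_isOver N (μ * ν)
  have hxm := hx.mem N (product_ne_one hF hμ1 hg)
  have h2 : ¬ Nat.Coprime (oo N ν) (oo N (μ * ν)) := by
    rw [mul_comm μ ν]; exact not_coprime_product hF hr hν hν1 hrμ hg.symm
  exact Within.cons (step_of_not_coprime hb hxm (not_coprime_product hF hr hμ hμ1 hrν hg) hμb
    hx.oo_dvd) (step_of_not_coprime hxm hc (fun h => h2 h.symm) hx.oo_dvd hνc).within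

/-- A constituent of a relative degree. -/
theorem exists_data {a : ℕ} (ha : a ∈ relCharDegrees N) :
    ∃ (θ : IrrCharacter N) (δ : N →* ℂˣ), (θ : N → ℂ) ≠ (fun _ => 1) ∧
      detChar (θ : N → ℂ) = linFun δ ∧ charDegree (θ : N → ℂ) ∣ a ∧
      (inertia N (θ : N → ℂ)).index ∣ a ∧
      ∃ χ : IrrCharacter G, charDegree (χ : G → ℂ) = a ∧ Over N χ θ := by
  obtain ⟨χ, ⟨x, hx, hne⟩, rfl⟩ := ha
  obtain ⟨θ, hθ⟩ := CfsgLib.CharTheory.exists_constituent N (IsIrrCharacter.isCharacter χ.2)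
    (apply_one_ne_zero_of_isIrr χ.2)
  obtain ⟨δ, hδ⟩ := exists_detChar_eq (IsIrrCharacter.isCharacter θ.2)
  refine ⟨θ, δ, fun h => ?_, hδ, degree_dvd N hθ, index_dvd N hθ, χ, rfl, hθ⟩
  have hinv : ∀ g : G, conjChar N (θ : N → ℂ) g = (θ : N → ℂ) := fun g => by
    funext n; rw [conjChar_apply, h]
  have hres := res_eq_of_invariant N χ.2 θ.2 hinv hθ
  have e1 := congrFun hres ⟨x, hx⟩
  have e2 := congrFun hres 1
  simp only [Pi.smul_apply, h, smul_eq_mul, mul_one, OneMemClass.coe_one] at e1 e2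
  exact hne (e1.trans e2.symm)

theorem inertia_le_det {θ : IrrCharacter N} {δ : N →* ℂˣ}
    (hδ : detChar (θ : N → ℂ) = linFun δ) :
    inertia N (θ : N → ℂ) ≤ inertia N (linFun δ) := by
  intro g hg
  rw [mem_inertia]
  funext n
  have h1 : detChar (conjChar N (θ : N → ℂ) g) n = detChar (θ : N → ℂ) n := by
    rw [(mem_inertia N (θ : N → ℂ) g).1 hg]
  rw [detChar_conjChar N (IsIrrCharacter.isCharacter θ.2), hδ] at h1
  rw [conjChar_eq_comp]
  exact h1

/-- A non-linear constituent puts the degree over the derived subgroup. -/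
theorem mem_derived {χ : IrrCharacter G} {θ : IrrCharacter N} (h : Over N χ θ)
    (hf : charDegree (θ : N → ℂ) ≠ 1) : charDegree (χ : G → ℂ) ∈ relCharDegrees ⁅N, N⁆ := by
  refine ⟨χ, ?_, rfl⟩
  by_contra hcon
  push Not at hcon
  have h1 := constituent_degree_one (IsIrrCharacter.isCharacter χ.2) θ.2 h
    (fun a ha b hb => hcon _ (Subgroup.commutator_mem_commutator ha hb))
  rw [(BrauerCharacters.charDegree_spec θ).1] at h1
  exact hf (by exact_mod_cast h1)

/-- Twisting by a linear character. -/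
theorem twist {θ : IrrCharacter N} {δ : N →* ℂˣ} (hδ : detChar (θ : N → ℂ) = linFun δ) {r : ℕ}
    (hr : r.Prime) (hrf : ¬ r ∣ charDegree (θ : N → ℂ)) (hδr : rp N r δ = 1) {lam : N →* ℂˣ}
    (hlam : IsR N r lam) (hlam1 : lam ≠ 1) :
    ∃ d, d ∈ relCharDegrees N ∧ oo N lam ∣ d ∧ charDegree (θ : N → ℂ) ∣ d ∧
      (inertia N (θ : N → ℂ)).index ∣ d ∧
      (charDegree (θ : N → ℂ) ≠ 1 → d ∈ relCharDegrees ⁅N, N⁆) ∧
      (N ≤ commutator G → inertia N (linFun lam) = ⊤ → r ∣ d) := by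
  set f := charDegree (θ : N → ℂ) with hf
  let θ' : IrrCharacter N := ⟨linFun lam * (θ : N → ℂ), isIrrCharacter_linFun_mul lam θ.2⟩
  have hf' : charDegree (θ' : N → ℂ) = f := by
    have h1 := (BrauerCharacters.charDegree_spec θ').1
    rw [show (θ' : N → ℂ) 1 = (θ : N → ℂ) 1 by
      show linFun lam 1 * (θ : N → ℂ) 1 = _; simp [linFun_apply],
      (BrauerCharacters.charDegree_spec θ).1] at h1
    exact_mod_cast h1.symm
  have hδ' : detChar (θ' : N → ℂ) = linFun (lam ^ f * δ) := by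
    rw [show (θ' : N → ℂ) = linFun lam * (θ : N → ℂ) from rfl,
      detChar_mul_linear lam (IsIrrCharacter.isCharacter θ.2)
        (BrauerCharacters.charDegree_spec θ).1, hδ]
    funext n
    simp [linFun_apply, hf]
  have hrp : rp N r (lam ^ f * δ) = rp N r (lam ^ f) := by
    rw [rp_mul, hδr]
    exact mul_one (M := N →* ℂˣ) _
  have hR : IsR N r (lam ^ f) :=
    let ⟨j, hj⟩ := hlam; ⟨j, (orderOf_pow_dvd f).trans hj⟩
  have hlamf : inertia N (linFun (lam ^ f)) ≤ inertia N (linFun lam) := by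
    obtain ⟨j, hj⟩ := hlam
    obtain ⟨i, hi⟩ := exists_pow_eq_self_of_coprime (G := N →* ℂˣ) (x := lam) (n := f)
      ((Nat.Coprime.pow_right j ((Nat.coprime_comm).1 ((hr.coprime_iff_not_dvd).2 hrf))).of_dvd_right hj)
    intro g hg
    rw [← hi]
    exact inertia_le_pow N _ i hg
  have hT' : inertia N (θ' : N → ℂ) ≤ inertia N (linFun lam) :=
    calc inertia N (θ' : N → ℂ) ≤ inertia N (linFun (lam ^ f * δ)) := inertia_le_det hδ'
      _ ≤ inertia N (linFun (rp N r (lam ^ f * δ))) := inertia_le_pow N _ _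
      _ ≤ inertia N (linFun lam) := hrp ▸ (inertia_rp hr hR).trans hlamf
  have hT'θ : inertia N (θ' : N → ℂ) ≤ inertia N (θ : N → ℂ) := by
    intro g hg
    rw [mem_inertia]
    funext n
    have h1 := congrFun ((mem_inertia N (θ' : N → ℂ) g).1 hg) n
    have h2 := congrFun ((mem_inertia N (linFun lam) g).1 (hT' hg)) n
    simp only [conjChar_apply, θ', Pi.mul_apply, linFun_apply] at h1 h2 ⊢
    rw [h2] at h1
    exact mul_left_cancel₀ (Units.ne_zero _) h1
  have hne : rp N r (lam ^ f) ≠ 1 := by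
    intro h3
    refine hlam1 ?_
    obtain ⟨j, hj⟩ := hlam
    refine orderOf_eq_one_iff.1 (Nat.eq_one_of_dvd_coprimes ?_ hj
      (orderOf_dvd_of_pow_eq_one (G := N →* ℂˣ) (x := lam) (by
        rw [pow_mul (M := N →* ℂˣ) lam]; exact h3 :
          lam ^ (f * ordCompl[r] (Nat.card N)) = 1)))
    exact Nat.Coprime.pow_left j ((hr.coprime_iff_not_dvd).2 fun h =>
      (hr.dvd_mul.1 h).elim hrf (Nat.not_dvd_ordCompl hr Nat.card_pos.ne'))
  obtain ⟨χ', hχ'⟩ := CfsgLib.BlockLocal.exists_over N θ'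
  refine ⟨_, mem_rel N hχ' ?_, (Subgroup.index_dvd_of_le hT').trans (index_dvd N hχ'),
    hf' ▸ degree_dvd N hχ', (Subgroup.index_dvd_of_le hT'θ).trans (index_dvd N hχ'),
    fun h => mem_derived hχ' (hf'.symm ▸ h), fun hNG htop => ?_⟩
  · intro h
    have hd : detChar (θ' : N → ℂ) = linFun 1 := by
      rw [show (θ' : N → ℂ) = linFun 1 from h.trans (funext fun n => by simp [linFun_apply]),
        detChar_linFun]
    rw [hδ'] at hd
    exact hne (by rw [← hrp, linFun_injective hd]; exact one_pow (M := N →* ℂˣ) _)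
  · refine dvd_of_invariant_det N hNG hr hδ' hχ' ?_ ?_
    · show inertia N (linFun (rp N r (lam ^ f * δ))) = ⊤
      rw [hrp, eq_top_iff, ← htop]
      exact (inertia_le_pow N lam f).trans (inertia_le_pow N _ _)
    · show rp N r (lam ^ f * δ) ≠ 1
      rwa [hrp]

theorem linear_eq_det {θ : IrrCharacter N} {δ : N →* ℂˣ} (hδ : detChar (θ : N → ℂ) = linFun δ)
    (hf : charDegree (θ : N → ℂ) = 1) : (θ : N → ℂ) = linFun δ := by
  obtain ⟨μ, hμ⟩ := exists_hom_of_degree_one θ.2 (by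
    rw [(BrauerCharacters.charDegree_spec θ).1, hf, Nat.cast_one])
  have hμ' : (θ : N → ℂ) = linFun μ := hμ
  rw [hμ', detChar_linFun] at hδ
  rw [hμ', hδ]

/-- Under `Moved`, a non-principal character is non-linear or moved. -/
theorem exists_shared (hF : Moved N) {θ : IrrCharacter N} {δ : N →* ℂˣ}
    (hδ : detChar (θ : N → ℂ) = linFun δ) (hθ1 : (θ : N → ℂ) ≠ fun _ => 1) :
    ∃ s, s ≠ 1 ∧ (s = charDegree (θ : N → ℂ) ∨ s = (inertia N (θ : N → ℂ)).index) := by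
  by_cases hf : charDegree (θ : N → ℂ) = 1
  · refine ⟨_, fun h => ?_, Or.inr rfl⟩
    have hl := linear_eq_det hδ hf
    refine hF δ (fun h1 => hθ1 ?_) (by rw [← hl]; exact Subgroup.index_eq_one.1 h)
    rw [hl, h1]
    funext n
    simp [linFun_apply]
  · exact ⟨_, hf, Or.inl rfl⟩

/-- The `r`-part of the determinant of a constituent divides its orbit length. -/
theorem oo_det_dvd {θ : IrrCharacter N} {δ : N →* ℂˣ} (hδ : detChar (θ : N → ℂ) = linFun δ)
    (r : ℕ) : oo N (rp N r δ) ∣ (inertia N (θ : N → ℂ)).index :=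
  Subgroup.index_dvd_of_le ((inertia_le_det hδ).trans (inertia_le_pow N δ _))

/-- An invariant character of order `r` and a moved one with orbit length prime to `r`. -/
theorem exists_mixed (hNG : N ≤ commutator G) {r : ℕ} (hr : r.Prime) {lam ν : N →* ℂˣ}
    (hlam : inertia N (linFun lam) = ⊤) (hord : orderOf lam = r)
    (hν : inertia N (linFun ν) ≠ ⊤) (hrν : ¬ r ∣ oo N ν) :
    ∃ z, z ∈ relCharDegrees N ∧ r ∣ z ∧ oo N ν ∣ z := by
  have hTeq := inertia_mul_invariant N (ν := ν) hlam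
  obtain ⟨b, hb⟩ := exists_isOver N ν
  obtain ⟨c, hc⟩ := exists_isOver N (lam * ν)
  have hmemB := hb.mem N (linFun_one_ne N hν)
  have hmemC := hc.mem N (linFun_one_ne N (hTeq ▸ hν))
  have hbi := hb.oo_dvd
  have hci : oo N ν ∣ c := by
    have h := hc.index_dvd
    rw [hTeq] at h
    exact h
  obtain ⟨χb, rfl, hχb⟩ := hb
  obtain ⟨χc, rfl, hχc⟩ := hc
  obtain ⟨e₀, hd₀, hone₀⟩ := exists_norm_pow_eq_one N hNG hχb
  obtain ⟨e₁, hd₁, hone₁⟩ := exists_norm_pow_eq_one N hNG hχc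
  have hdvd : orderOf lam ∣ oo N ν * (e₀ * e₁) := by
    refine orderOf_dvd_of_pow_eq_one (MonoidHom.ext fun n => Units.ext ?_)
    have h1 := hone₁ n
    rw [prod_orbit_mul_invariant N hlam] at h1
    have h2 := congrArg (fun x : ℂ => x ^ e₀) h1
    have h3 : ((∏ η ∈ conjOrbit N (linFun ν), η n) ^ e₁) ^ e₀ = 1 := by
      rw [← pow_mul, mul_comm, pow_mul, hone₀ n, one_pow]
    rw [mul_pow, mul_pow, one_pow, h3, mul_one, ← pow_mul, ← pow_mul] at h2
    rw [MonoidHom.pow_apply, Units.val_pow_eq_pow_val, MonoidHom.one_apply, Units.val_one]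
    convert h2 using 2
    rw [oo]
    ring
  rw [hord] at hdvd
  rcases hr.dvd_mul.1 hdvd with h | h
  · exact absurd h hrν
  rcases hr.dvd_mul.1 h with h | h
  · exact ⟨_, hmemB, h.trans hd₀, hbi⟩
  · exact ⟨_, hmemC, h.trans hd₁, hci⟩

/-- An invariant linear character makes every relative degree adjacent to a multiple of a prime. -/
theorem exists_near_of_not_moved (hNG : N ≤ commutator G) (hF : ¬ Moved N) :
    ∃ r : ℕ, r.Prime ∧ r ∣ ⁅N, N⁆.relIndex N ∧
      ∀ a ∈ relCharDegrees N, ∃ z, r ∣ z ∧ Step N a z := by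
  simp only [Moved, not_forall, not_not] at hF
  obtain ⟨lam₀, h₀, htop₀⟩ := hF
  obtain ⟨r, hr, hrl⟩ := Nat.exists_prime_and_dvd
    fun h => h₀ (orderOf_eq_one_iff (G := N →* ℂˣ) (x := lam₀) |>.1 h)
  set lam := lam₀ ^ (orderOf lam₀ / r)
  have hord : orderOf lam = r := by
    rw [orderOf_pow' _ (Nat.div_pos (Nat.le_of_dvd (orderOf_pos lam₀) hrl) hr.pos).ne',
      Nat.gcd_eq_right (Nat.div_dvd_of_dvd hrl), Nat.div_div_self hrl (orderOf_pos lam₀).ne']
  have hlam1 : lam ≠ 1 := fun h => hr.ne_one (by rw [← hord, h, orderOf_one])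
  have hlamR : IsR N r lam := ⟨1, by rw [hord, pow_one]⟩
  have htop : inertia N (linFun lam) = ⊤ := eq_top_iff.2 (htop₀ ▸ inertia_le_pow N lam₀ _)
  refine ⟨r, hr, by rw [← card_linear N]; exact hrl.trans (orderOf_dvd_natCard lam₀),
    fun a ha => ?_⟩
  by_cases hra : r ∣ a
  · exact ⟨a, hra, step_refl ha⟩
  obtain ⟨θ, δ, hθ1, hδ, hfa, hia, χ, rfl, hχ⟩ := exists_data ha
  by_cases hδr : rp N r δ = 1
  swap
  · have hμ : inertia N (linFun (rp N r δ)) ≠ ⊤ := fun h =>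
      hra (dvd_of_invariant_det N hNG hr hδ hχ h hδr)
    have hoo : oo N (rp N r δ) ∣ charDegree (χ : G → ℂ) := (oo_det_dvd hδ r).trans hia
    obtain ⟨z, hz, hrz, hzo⟩ := exists_mixed hNG hr htop hord hμ fun h => hra (h.trans hoo)
    exact ⟨z, hrz, step_of_dvd ha hz (fun h => hμ (Subgroup.index_eq_one.1 h)) hoo hzo⟩
  have hrf : ¬ r ∣ charDegree (θ : N → ℂ) := fun h => hra (h.trans hfa)
  obtain ⟨d, hd, -, hfd, hid, -, hrd⟩ := twist hδ hr hrf hδr hlamR hlam1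
  by_cases hf : charDegree (θ : N → ℂ) = 1
  swap
  · exact ⟨d, hrd hNG htop, step_of_dvd ha hd hf hfa hfd⟩
  by_cases hT : inertia N (θ : N → ℂ) = ⊤
  swap
  · exact ⟨d, hrd hNG htop, step_of_dvd ha hd (fun h => hT (Subgroup.index_eq_one.1 h)) hia hid⟩
  -- an invariant linear character
  have hθl : θ = linIrr N δ := Subtype.ext (linear_eq_det hδ hf)
  subst hθl
  rw [coe_linIrr] at hT
  have hδ1 : δ ≠ 1 := fun h => hθ1 (by rw [h]; funext n; simp [linFun_apply])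
  have hoa := orderOf_dvd_of_invariant N hNG hT hχ
  have hcop : Nat.Coprime (orderOf δ) r := (hr.coprime_iff_not_dvd.2 fun h =>
    Nat.not_dvd_ordCompl hr Nat.card_pos.ne' (h.trans (orderOf_dvd_of_pow_eq_one hδr))).symm
  have hprod : orderOf (δ * lam) = orderOf δ * r := by
    rw [(Commute.all δ lam).orderOf_mul_eq_mul_orderOf_of_coprime (by rwa [hord]), hord]
  have hne : δ * lam ≠ 1 := fun h => by
    rw [h, orderOf_one] at hprod
    exact hr.ne_one (Nat.dvd_one.1 (hprod ▸ dvd_mul_left r _))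
  have hTp : inertia N (linFun (δ * lam)) = ⊤ := by rw [inertia_mul_invariant N hT, htop]
  obtain ⟨z, χz, rfl, hχz⟩ := exists_isOver N (δ * lam)
  have hz := hprod ▸ orderOf_dvd_of_invariant N hNG hTp hχz
  exact ⟨_, (dvd_mul_left r _).trans hz, step_of_dvd ha (mem_rel N hχz (linFun_ne_one N hne))
    (fun h => hδ1 (orderOf_eq_one_iff (G := N →* ℂˣ) (x := δ) |>.1 h)) hoa
    ((dvd_mul_right _ r).trans hz)⟩

/-- The two kinds of relative degrees prime to `r`. -/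
theorem dichotomy (hF : Moved N) {r : ℕ} (hr : r.Prime) {a : ℕ} (ha : a ∈ relCharDegrees N)
    (hra : ¬ r ∣ a) :
    (∃ μ, IsR N r μ ∧ μ ≠ 1 ∧ ¬ r ∣ oo N μ ∧ oo N μ ∣ a) ∨
    ∃ f, f ∣ a ∧
      (f = 1 → ∃ s, s.Prime ∧ s ∣ ⁅N, N⁆.relIndex N ∧ ∃ μ, IsR N s μ ∧ μ ≠ 1 ∧ oo N μ ∣ a) ∧
      (f ≠ 1 → a ∈ relCharDegrees ⁅N, N⁆) ∧
      ∀ lam, IsR N r lam → lam ≠ 1 →
        ∃ d, Step N a d ∧ oo N lam ∣ d ∧ (f ≠ 1 → Step ⁅N, N⁆ a d) := by
  obtain ⟨θ, δ, hθ1, hδ, hfa, hia, χ, rfl, hχ⟩ := exists_data ha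
  by_cases hδr : rp N r δ = 1
  swap
  · exact Or.inl ⟨_, isR_rp δ, hδr, fun h => hra (h.trans ((oo_det_dvd hδ r).trans hia)),
      (oo_det_dvd hδ r).trans hia⟩
  refine Or.inr ⟨_, hfa, fun hf => ?_, fun hf => mem_derived hχ hf, fun lam hlam hlam1 => ?_⟩
  · have hl := linear_eq_det hδ hf
    obtain ⟨s, hs, hsm, hne⟩ := exists_rp_ne_one (μ := δ) fun h => hθ1 (by
      rw [hl, h]; funext n; simp [linFun_apply])
    exact ⟨s, hs, hsm, _, isR_rp δ, hne, (oo_det_dvd hδ s).trans hia⟩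
  · obtain ⟨d, hd, hld, hfd, hid, hdd, -⟩ :=
      twist hδ hr (fun h => hra (h.trans hfa)) hδr hlam hlam1
    obtain ⟨s, hs, hs'⟩ := exists_shared hF hδ hθ1
    refine ⟨d, ?_, hld, fun hf => ⟨mem_derived hχ hf, hdd hf, Or.inr ⟨_, hf, hfa, hfd⟩⟩⟩
    rcases hs' with rfl | rfl
    · exact step_of_dvd ha hd hs hfa hfd
    · exact step_of_dvd ha hd hs hia hid

theorem exists_isR {r : ℕ} (hr : r.Prime) (hrm : r ∣ ⁅N, N⁆.relIndex N) :
    ∃ lam : N →* ℂˣ, IsR N r lam ∧ lam ≠ 1 := by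
  obtain ⟨lam, -, ho, -⟩ := exists_good N hr hrm
  exact ⟨lam, ⟨1, by rw [ho, pow_one]⟩, fun h => hr.ne_one (by rw [← ho, h, orderOf_one])⟩

/-- A degree with a good character is within two steps of every degree prime to `r`. -/
theorem within_two_left (hF : Moved N) {r : ℕ} (hr : r.Prime) {μ : N →* ℂˣ} (hμ : IsR N r μ)
    (hμ1 : μ ≠ 1) {b c : ℕ} (hb : b ∈ relCharDegrees N) (hc : c ∈ relCharDegrees N)
    (hrμ : ¬ r ∣ oo N μ) (hμb : oo N μ ∣ b) (hrc : ¬ r ∣ c) : Within N 2 b c := by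
  rcases dichotomy hF hr hc hrc with ⟨ν, hν, hν1, hrν, hνc⟩ | ⟨f, -, -, -, htw⟩
  · exact within_two_of_good hF hr hμ hμ1 hrμ hν hν1 hrν hb hc hμb hνc
  · obtain ⟨d, hcd, hod, -⟩ := htw μ hμ hμ1
    exact Within.cons (step_of_dvd hb hcd.2.1 (oo_ne_one hF hμ1) hμb hod) hcd.symm.within

theorem within_three_of_not_dvd (hF : Moved N) {r : ℕ} (hr : r.Prime)
    (hrm : r ∣ ⁅N, N⁆.relIndex N) {b c : ℕ} (hb : b ∈ relCharDegrees N)
    (hc : c ∈ relCharDegrees N) (hrb : ¬ r ∣ b) (hrc : ¬ r ∣ c) : Within N 3 b c := by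
  rcases dichotomy hF hr hb hrb with ⟨μ, hμ, hμ1, hrμ, hμb⟩ | ⟨f, -, -, -, htb⟩
  · exact (within_two_left hF hr hμ hμ1 hb hc hrμ hμb hrc).succ
  rcases dichotomy hF hr hc hrc with ⟨ν, hν, hν1, hrν, hνc⟩ | ⟨f, -, -, -, htc⟩
  · exact (within_two_left hF hr hν hν1 hc hb hrν hνc hrb).symm.succ
  obtain ⟨lam, hlam, hlam1⟩ := exists_isR hr hrm
  obtain ⟨d, hbd, hod, -⟩ := htb lam hlam hlam1
  obtain ⟨d', hcd, hod', -⟩ := htc lam hlam hlam1
  exact Within.cons hbd (Within.cons (step_of_dvd hbd.2.1 hcd.2.1 (oo_ne_one hF hlam1) hod hod')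
    hcd.symm.within)

/-- Degrees divisible by a suitable orbit length are close to a given degree prime to `r`. -/
theorem exists_hub (hF : Moved N) {r : ℕ} (hr : r.Prime) (hrm : r ∣ ⁅N, N⁆.relIndex N) {c : ℕ}
    (hc : c ∈ relCharDegrees N) (hrc : ¬ r ∣ c) :
    ∃ ν, IsR N r ν ∧ ν ≠ 1 ∧
      ∀ x ∈ relCharDegrees N, oo N ν ∣ x → Within N 2 x c := by
  rcases dichotomy hF hr hc hrc with ⟨ν, hν, hν1, -, hνc⟩ | ⟨f, -, -, -, htc⟩
  · exact ⟨ν, hν, hν1, fun x hx hxν =>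
      (step_of_dvd hx hc (oo_ne_one hF hν1) hxν hνc).within.succ⟩
  · obtain ⟨lam, hlam, hlam1⟩ := exists_isR hr hrm
    obtain ⟨d, hcd, hod, -⟩ := htc lam hlam hlam1
    exact ⟨lam, hlam, hlam1, fun x hx hxl =>
      Within.cons (step_of_dvd hx hcd.2.1 (oo_ne_one hF hlam1) hxl hod) hcd.symm.within⟩

theorem exists_product (hF : Moved N) {r s : ℕ} (hr : r.Prime) (hs : s.Prime) (hrs : r ≠ s)
    {μ ν : N →* ℂˣ} (hμ : IsR N r μ) (hμ1 : μ ≠ 1) (hν : IsR N s ν) :
    ∃ x, x ∈ relCharDegrees N ∧ oo N μ ∣ x ∧ oo N ν ∣ x := by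
  have h1 := inertia_mul_le hr hs hrs hμ hν
  have h2 : inertia N (linFun (μ * ν)) ≤ inertia N (linFun ν) := by
    rw [mul_comm μ ν]; exact inertia_mul_le hs hr hrs.symm hν hμ
  obtain ⟨x, hx⟩ := exists_isOver N (μ * ν)
  exact ⟨x, hx.mem N (linFun_one_ne N fun h => hF μ hμ1 (top_le_iff.1 (h ▸ h1))),
    (Subgroup.index_dvd_of_le h1).trans hx.oo_dvd, (Subgroup.index_dvd_of_le h2).trans hx.oo_dvd⟩

/-- Divisible by every prime divisor of `[N : N']`. -/
def AllPrimes (N : Subgroup G) (a : ℕ) : Prop :=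
  ∀ r : ℕ, r.Prime → r ∣ ⁅N, N⁆.relIndex N → r ∣ a

theorem exists_edge {n b c : ℕ} (h : Within N n b c) (hb : AllPrimes N b) (hc : ¬ AllPrimes N c) :
    ∃ a y, Step N a y ∧ AllPrimes N a ∧ ¬ AllPrimes N y := by
  induction n generalizing c with
  | zero => exact absurd (h.2 ▸ hb) hc
  | succ n ih =>
    obtain ⟨d, hd, hs⟩ := h
    by_cases hA : AllPrimes N d
    · exact ⟨d, c, hs, hA, hc⟩
    · exact ih hd hA

/-- The mixed case: one degree is divisible by all primes of `[N : N']`, the other is not. -/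
theorem within_four_mixed (hF : Moved N)
    (ih : ∀ [Fintype ↥⁅N, N⁆] {x y : ℕ}, Con ⁅N, N⁆ x y → Within ⁅N, N⁆ 4 x y)
    {q b c : ℕ} (hq : q.Prime) (hqm : q ∣ ⁅N, N⁆.relIndex N)
    (hb : AllPrimes N b) (hc : ¬ AllPrimes N c) (hbc : Con N b c) : Within N 4 b c := by
  classical
  obtain ⟨n, hn⟩ := step_of_reachable N hbc
  have hbm := hn.mem_left
  have hcm := hn.mem_right
  obtain ⟨a, y, hay, hA, hy⟩ := exists_edge hn hb hc
  have hba : Step N b a := step_of_dvd hbm hay.1 hq.ne_one (hb q hq hqm) (hA q hq hqm)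
  have via : ∀ {z t k : ℕ}, z ∈ relCharDegrees N → t.Prime → t ∣ ⁅N, N⁆.relIndex N → t ∣ z →
      k ≤ 3 → Within N k z c → Within N 4 b c := fun hz ht htm htz hk h =>
    (Within.cons (step_of_dvd hbm hz ht.ne_one (hb _ ht htm) htz) h).mono (by omega)
  by_cases hct : ∃ t, t.Prime ∧ t ∣ ⁅N, N⁆.relIndex N ∧ t ∣ c
  · obtain ⟨t, ht, htm, htc⟩ := hct
    exact via hcm ht htm htc (Nat.zero_le 3) ⟨hcm, rfl⟩
  simp only [AllPrimes, not_forall] at hc
  obtain ⟨r, hr, hrm, hrc⟩ := hc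
  obtain ⟨ν, hνR, hν1, hhub⟩ := exists_hub hF hr hrm hcm hrc
  -- a degree over a linear character sharing a prime with the index
  by_cases hL : ∃ μ : N →* ℂˣ, μ ≠ 1 ∧ ∃ z t, IsOver N μ z ∧ t.Prime ∧
      t ∣ ⁅N, N⁆.relIndex N ∧ t ∣ z
  · obtain ⟨μ, hμ, z, t, hz, ht, htm, htz⟩ := hL
    have hzm := hz.mem N hμ
    obtain ⟨s, hs, hsm, hne⟩ := exists_rp_ne_one hμ
    have hoz : oo N (rp N s μ) ∣ z :=
      (Subgroup.index_dvd_of_le (inertia_le_pow N μ _)).trans hz.oo_dvd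
    by_cases hsr : s = r
    swap
    · obtain ⟨x, hx, hxs, hxν⟩ := exists_product hF hs hr hsr (isR_rp μ) hne hνR
      exact via hzm ht htm htz le_rfl
        (Within.cons (step_of_dvd hzm hx (oo_ne_one hF hne) hoz hxs) (hhub x hx hxν))
    subst hsr
    rcases dichotomy hF hr hcm hrc with ⟨η, hη, hη1, hrη, hηc⟩ | ⟨f, -, -, -, htc⟩
    swap
    · obtain ⟨d, hcd, hod, -⟩ := htc _ (isR_rp μ) hne
      exact via hzm ht htm htz (Nat.le_succ 2)
        (Within.cons (step_of_dvd hzm hcd.2.1 (oo_ne_one hF hne) hoz hod) hcd.symm.within)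
    by_cases hg : Nat.Coprime (oo N (rp N s μ)) (oo N η)
    swap
    · exact via hzm ht htm htz (by omega) (step_of_not_coprime hzm hcm hg hoz hηc).within
    by_cases hpure : ∃ u, u.Prime ∧ u ∣ ⁅N, N⁆.relIndex N ∧ u ≠ s
    · obtain ⟨u, hu, hum, hus⟩ := hpure
      obtain ⟨lam, hlam, hlam1⟩ := exists_isR hu hum
      obtain ⟨x, hx, hxμ, hxl⟩ := exists_product hF hs hu hus.symm (isR_rp μ) hne hlam
      obtain ⟨x', hx', hxη, hxl'⟩ := exists_product hF hs hu hus.symm hη hη1 hlam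
      exact via hzm ht htm htz le_rfl
        (Within.cons (step_of_dvd hzm hx (oo_ne_one hF hne) hoz hxμ)
          (Within.cons (step_of_dvd hx hx' (oo_ne_one hF hlam1) hxl hxl')
            (step_of_dvd hx' hcm (oo_ne_one hF hη1) hxη hηc).within))
    · push Not at hpure
      simp only [AllPrimes, not_forall] at hy
      obtain ⟨u, hu, hum, huy⟩ := hy
      have hsy : ¬ s ∣ y := hpure u hu hum ▸ huy
      exact Within.cons hba (Within.cons hay
        (within_two_left hF hs hη hη1 hcm hay.2.1 hrη hηc hsy).symm)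
  -- every degree over a linear character is prime to the index
  have hgood : ∀ μ : N →* ℂˣ, μ ≠ 1 → ∀ t, t.Prime → t ∣ ⁅N, N⁆.relIndex N → ¬ t ∣ oo N μ :=
    fun μ hμ t ht htm h => hL ⟨μ, hμ, _, t, (exists_isOver N μ).choose_spec, ht, htm,
      h.trans (exists_isOver N μ).choose_spec.oo_dvd⟩
  by_cases hyt : ∃ t, t.Prime ∧ t ∣ ⁅N, N⁆.relIndex N ∧ t ∣ y
  · obtain ⟨t, ht, htm, hty⟩ := hyt
    by_cases hry : r ∣ y
    swap
    · exact via hay.2.1 ht htm hty le_rfl (within_three_of_not_dvd hF hr hrm hay.2.1 hcm hry hrc)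
    simp only [AllPrimes, not_forall] at hy
    obtain ⟨s, hs, hsm, hsy⟩ := hy
    have hsr : s ≠ r := fun h => hsy (h ▸ hry)
    obtain ⟨θ, δ, hθ1, hδ, hfy, hiy, χ, hχy, hχ⟩ := exists_data hay.2.1
    by_cases hδs : rp N s δ = 1
    swap
    · obtain ⟨x, hx, hxs, hxν⟩ := exists_product hF hs hr hsr (isR_rp δ) hδs hνR
      exact via hay.2.1 hr hrm hry le_rfl (Within.cons (step_of_dvd hay.2.1 hx (oo_ne_one hF hδs)
        ((oo_det_dvd hδ s).trans hiy) hxs) (hhub x hx hxν))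
    obtain ⟨lam, hlam, hlam1⟩ := exists_isR hs hsm
    obtain ⟨d, hd, hld, hfd, hid, -, -⟩ :=
      twist hδ hs (fun h => hsy (h.trans hfy)) hδs hlam hlam1
    by_cases hrfi : r ∣ charDegree (θ : N → ℂ) ∨ r ∣ (inertia N (θ : N → ℂ)).index
    · obtain ⟨x, hx, hxs, hxν⟩ := exists_product hF hs hr hsr hlam hlam1 hνR
      exact via hd hr hrm (hrfi.elim (·.trans hfd) (·.trans hid)) le_rfl
        (Within.cons (step_of_dvd hd hx (oo_ne_one hF hlam1) hld hxs) (hhub x hx hxν))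
    push Not at hrfi
    refine via hay.2.1 hr hrm hry le_rfl ?_
    by_cases hδr : rp N r δ = 1
    swap
    · exact (within_two_left hF hr (isR_rp δ) hδr hay.2.1 hcm (hgood _ hδr r hr hrm)
        ((oo_det_dvd hδ r).trans hiy) hrc).succ
    obtain ⟨e, he, hle, hfe, hie, -, -⟩ := twist hδ hr hrfi.1 hδr hνR hν1
    obtain ⟨u, hu, hu'⟩ := exists_shared hF hδ hθ1
    have hye : Step N y e := by
      rcases hu' with rfl | rfl
      · exact step_of_dvd hay.2.1 he hu hfy hfe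
      · exact step_of_dvd hay.2.1 he hu hiy hie
    exact Within.cons hye (hhub e he hle)
  -- `y` and `c` are prime to the index
  push Not at hct hyt
  have two : ∀ {u : ℕ}, u.Prime → u ∣ ⁅N, N⁆.relIndex N → ∀ μ, IsR N u μ → μ ≠ 1 →
      (oo N μ ∣ y ∨ oo N μ ∣ c) → Within N 4 b c := by
    intro u hu hum μ hμ hμ1 hor
    refine Within.cons hba (Within.cons hay ?_)
    rcases hor with h | h
    · exact within_two_left hF hu hμ hμ1 hay.2.1 hcm (hgood μ hμ1 u hu hum) h (hct u hu hum)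
    · exact (within_two_left hF hu hμ hμ1 hcm hay.2.1 (hgood μ hμ1 u hu hum) h
        (hyt u hu hum)).symm
  rcases dichotomy hF hr hay.2.1 (hyt r hr hrm) with ⟨μ, hμ, hμ1, -, hμy⟩ | ⟨fy, -, hy1, -, hty⟩
  · exact two hr hrm μ hμ hμ1 (Or.inl hμy)
  rcases dichotomy hF hr hcm hrc with ⟨μ, hμ, hμ1, -, hμc⟩ | ⟨fc, -, hc1, -, htc⟩
  · exact two hr hrm μ hμ hμ1 (Or.inr hμc)
  by_cases hfy : fy = 1
  · obtain ⟨u, hu, hum, μ, hμ, hμ1, hμy⟩ := hy1 hfy
    exact two hu hum μ hμ hμ1 (Or.inl hμy)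
  by_cases hfc : fc = 1
  · obtain ⟨u, hu, hum, μ, hμ, hμ1, hμc⟩ := hc1 hfc
    exact two hu hum μ hμ hμ1 (Or.inr hμc)
  have nl : ∀ {z : ℕ}, z ∈ relCharDegrees N → q ∣ z → z ∈ relCharDegrees ⁅N, N⁆ := by
    intro z hz hqz
    obtain ⟨θ, δ, hθ1, hδ, -, -, χ, rfl, hχ⟩ := exists_data hz
    refine mem_derived hχ fun hf => hL ⟨δ, fun h => hθ1 ?_, _, q, ⟨χ, rfl, ?_⟩, hq, hqm, hqz⟩
    · rw [linear_eq_det hδ hf, h]; funext n; simp [linFun_apply]
    · rwa [← (Subtype.ext (linear_eq_det hδ hf) : θ = linIrr N δ)]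
  obtain ⟨lam, hlam, hlam1⟩ := exists_isR hr hrm
  obtain ⟨dy, -, hody, hsy⟩ := hty lam hlam hlam1
  obtain ⟨dc, -, hodc, hsc⟩ := htc lam hlam hlam1
  have hsy := hsy hfy
  have hsc := hsc hfc
  have hbm' := nl hbm (hb q hq hqm)
  have ham' := nl hay.1 (hA q hq hqm)
  have h1 : Step ⁅N, N⁆ b a := ⟨hbm', ham', Or.inr ⟨q, hq.ne_one, hb q hq hqm, hA q hq hqm⟩⟩
  have h2 : Step ⁅N, N⁆ a y := ⟨ham', hsy.1, hay.2.2⟩
  have h3 : Step ⁅N, N⁆ dy dc :=
    ⟨hsy.2.1, hsc.2.1, Or.inr ⟨_, oo_ne_one hF hlam1, hody, hodc⟩⟩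
  have h5 : Within ⁅N, N⁆ 5 b c :=
    Within.cons h1 (Within.cons h2 (Within.cons hsy (Within.cons h3 hsc.symm.within)))
  letI : Fintype ↥⁅N, N⁆ := Fintype.ofFinite _
  exact (ih h5.con).map (rel_mono (Subgroup.commutator_le_self N))

end Distance

section Main

variable {G : Type u} [Group G] [Fintype G] {N : Subgroup G} [N.Normal] [Fintype N]

theorem rel_bot : relCharDegrees (⊥ : Subgroup G) = ∅ := by
  ext d
  simp only [Set.mem_empty_iff_false, iff_false]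
  rintro ⟨χ, ⟨x, hx, hne⟩, -⟩
  rw [Subgroup.mem_bot.1 hx] at hne
  exact hne rfl

theorem commutator_lt (hS : Group.IsSolvable N) (hN : N ≠ ⊥) : ⁅N, N⁆ < N := by
  refine lt_of_le_of_ne (Subgroup.commutator_le_self N) fun h => hN ?_
  haveI := hS
  by_contra hne
  haveI : Nontrivial N := (Subgroup.nontrivial_iff_ne_bot N).2 hne
  refine (Group.IsSolvable.commutator_lt_top_of_nontrivial N).ne ?_
  apply Subgroup.map_injective N.subtype_injective
  rw [Subgroup.map_subtype_commutator, ← MonoidHom.range_eq_map, Subgroup.range_subtype, h]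

theorem solvable_commutator (hS : Group.IsSolvable N) : Group.IsSolvable ↥⁅N, N⁆ := by
  haveI := hS
  exact Group.isSolvable_of_isSolvable_injective
    (f := Subgroup.inclusion (Subgroup.commutator_le_self N)) (Subgroup.inclusion_injective _)

theorem con_of_status (hNG : N ≤ commutator G) {q : ℕ} (hq : q.Prime)
    (hqm : q ∣ ⁅N, N⁆.relIndex N) {a b : ℕ} (ha : a ∈ relCharDegrees N)
    (hb : b ∈ relCharDegrees N) (h : AllPrimes N a ↔ AllPrimes N b) : Con N a b := by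
  by_cases hA : AllPrimes N a
  · exact con_of_common N ha hb hq.ne_one (hA q hq hqm) (h.1 hA q hq hqm)
  · have hB : ¬ AllPrimes N b := fun h' => hA (h.2 h')
    simp only [AllPrimes, not_forall] at hA hB
    obtain ⟨r, hr, hrm, hra⟩ := hA
    obtain ⟨s, hs, hsm, hsb⟩ := hB
    exact con_of_not_dvd N hNG hr hs hrm hsm ha hb hra hsb

theorem exists_prime_index (hS : Group.IsSolvable N) (hN : N ≠ ⊥) :
    ∃ q : ℕ, q.Prime ∧ q ∣ ⁅N, N⁆.relIndex N :=
  Nat.exists_prime_and_dvd fun h => (commutator_lt hS hN).not_ge (Subgroup.relIndex_eq_one.1 h)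

/-- Degrees in the same component are at distance at most four. -/
theorem within_four : ∀ (n : ℕ) (N : Subgroup G) [N.Normal] [Fintype N], Nat.card N = n →
    Group.IsSolvable N → N ≤ commutator G → ∀ {b c : ℕ}, Con N b c → Within N 4 b c := by
  intro n
  induction n using Nat.strong_induction_on with
  | _ n IH =>
    intro N _ _ hn hS hNG b c hbc
    obtain ⟨hb, hc, -⟩ := id hbc
    by_cases hN : N = ⊥
    · exfalso
      subst hN
      rw [rel_bot] at hb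
      exact hb
    obtain ⟨q, hq, hqm⟩ := exists_prime_index hS hN
    by_cases hF : Moved N
    swap
    · obtain ⟨r, hr, -, hnear⟩ := exists_near_of_not_moved hNG hF
      obtain ⟨z, hrz, hbz⟩ := hnear b hb
      obtain ⟨z', hrz', hcz⟩ := hnear c hc
      exact (Within.cons hbz (Within.cons (step_of_dvd hbz.2.1 hcz.2.1 hr.ne_one hrz hrz')
        hcz.symm.within)).succ
    have ih : ∀ [Fintype ↥⁅N, N⁆] {x y : ℕ}, Con ⁅N, N⁆ x y → Within ⁅N, N⁆ 4 x y := by
      intro _ x y h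
      refine IH _ ?_ ⁅N, N⁆ rfl (solvable_commutator hS)
        ((Subgroup.commutator_le_self N).trans hNG) h
      rw [← hn, Nat.card_eq_fintype_card, Nat.card_eq_fintype_card]
      exact Set.card_lt_card (commutator_lt hS hN)
    by_cases hB : AllPrimes N b
    · by_cases hC : AllPrimes N c
      · exact (step_of_dvd hb hc hq.ne_one (hB q hq hqm) (hC q hq hqm)).within.mono (by omega)
      · exact within_four_mixed hF ih hq hqm hB hC hbc
    by_cases hC : AllPrimes N c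
    · exact (within_four_mixed hF ih hq hqm hC hB (hbc.symm N)).symm
    simp only [AllPrimes, not_forall] at hB hC
    obtain ⟨s, hs, hsm, hsb⟩ := hB
    obtain ⟨r, hr, hrm, hrc⟩ := hC
    by_cases hsr : s = r
    · subst hsr
      exact (within_three_of_not_dvd hF hs hsm hb hc hsb hrc).succ
    obtain ⟨μ, hμ, hμ1, hhb⟩ := exists_hub hF hs hsm hb hsb
    obtain ⟨ν, hν, hν1, hhc⟩ := exists_hub hF hr hrm hc hrc
    obtain ⟨x, hx, hxμ, hxν⟩ := exists_product hF hs hr hsr hμ hμ1 hν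
    exact (hhb x hx hxμ).symm.trans (hhc x hx hxν)

/-- A non-perfect derived subgroup gives a relative degree sharing a prime with the index. -/
theorem exists_derived_vertex (hS : Group.IsSolvable N) (hN : ⁅N, N⁆ ≠ ⊥) :
    ∃ z, z ∈ relCharDegrees ⁅N, N⁆ ∧ ∃ t : ℕ, t.Prime ∧ t ∣ ⁅N, N⁆.relIndex N ∧ t ∣ z := by
  classical
  haveI := hS
  haveI : Fintype (commutator N) := Fintype.ofFinite _
  have hmap : (commutator N).map N.subtype = ⁅N, N⁆ := Subgroup.map_subtype_commutator N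
  haveI : Nontrivial (commutator N) := (Subgroup.nontrivial_iff_ne_bot _).2 fun h => hN (by
    rw [← hmap, h, Subgroup.map_bot])
  haveI : Nontrivial (Abelianization (commutator N)) := by
    refine not_subsingleton_iff_nontrivial.1 fun h => ?_
    have htop : commutator (commutator N) = ⊤ :=
      eq_top_iff.2 fun x _ => (QuotientGroup.eq_one_iff x).1
        (h.elim (QuotientGroup.mk' (commutator (commutator N)) x) 1)
    exact (Group.IsSolvable.commutator_lt_top_of_nontrivial _).ne htop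
  obtain ⟨x, hx⟩ := exists_ne (1 : Abelianization (commutator N))
  obtain ⟨ψ, hψ⟩ := CommGroup.exists_apply_ne_one_of_hasEnoughRootsOfUnity
    (Abelianization (commutator N)) ℂ hx
  let φ : IrrCharacter (commutator N) := ⟨linFun (Abelianization.lift.symm ψ),
    isIrrCharacter_linear _⟩
  obtain ⟨θ, hθ⟩ := CfsgLib.BlockLocal.exists_over (commutator N) φ
  have hf : charDegree (θ : N → ℂ) ≠ 1 := by
    intro hf
    obtain ⟨μ, hμ⟩ := exists_hom_of_degree_one θ.2 (by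
      rw [(BrauerCharacters.charDegree_spec θ).1, hf, Nat.cast_one])
    obtain ⟨y, rfl⟩ := QuotientGroup.mk_surjective x
    refine hψ ?_
    have h1 := constituent_apply_eq (IsIrrCharacter.isCharacter θ.2) φ.2 hθ (k := y) (by
      have hμ' : (θ : N → ℂ) = linFun μ := hμ
      rw [hμ', linFun_apply, linFun_apply, map_one,
        MonoidHom.mem_ker.1 (Abelianization.commutator_subset_ker μ y.2)])
    have h2 : (Abelianization.lift.symm ψ) y = 1 := Units.ext (by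
      simpa [φ, linFun_apply] using h1)
    exact h2
  obtain ⟨r, hr, hr'⟩ := CfsgLib.RealChar.degree_div_dvd_index (commutator N) θ.2 φ.2 hθ
  have hfr : charDegree (θ : N → ℂ) = r := by
    rw [(BrauerCharacters.charDegree_spec θ).1,
      show (φ : commutator N → ℂ) 1 = 1 by simp [φ, linFun_apply], mul_one] at hr'
    exact_mod_cast hr'
  obtain ⟨t, ht, htf⟩ := Nat.exists_prime_and_dvd hf
  have hidx : (commutator N).index = ⁅N, N⁆.relIndex N := by
    rw [Subgroup.relIndex]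
    congr 1
    rw [← hmap]
    exact (Subgroup.comap_map_eq_self_of_injective N.subtype_injective _).symm
  obtain ⟨χ, hχ⟩ := CfsgLib.BlockLocal.exists_over N θ
  exact ⟨_, mem_derived hχ hf, t, ht, hidx ▸ ((hfr ▸ htf).trans hr),
    htf.trans (degree_dvd N hχ)⟩

/-- In a disconnected graph degrees in the same component are at distance at most two. -/
theorem within_two_of_disconnected : ∀ (n : ℕ) (N : Subgroup G) [N.Normal] [Fintype N],
    Nat.card N = n → Group.IsSolvable N → N ≤ commutator G →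
    (∃ u v, u ∈ relCharDegrees N ∧ v ∈ relCharDegrees N ∧ ¬ Con N u v) →
    ∀ {b c : ℕ}, Con N b c → Within N 2 b c := by
  intro n
  induction n using Nat.strong_induction_on with
  | _ n IH =>
    intro N _ _ hn hS hNG hdisc b c hbc
    classical
    obtain ⟨hb, hc, -⟩ := id hbc
    obtain ⟨u, v, hu, hv, huv⟩ := hdisc
    have hN : N ≠ ⊥ := fun h => by
      subst h
      rw [rel_bot] at hu
      exact hu
    obtain ⟨q, hq, hqm⟩ := exists_prime_index hS hN
    obtain ⟨a₀, ha₀, hA₀⟩ : ∃ a₀ ∈ relCharDegrees N, AllPrimes N a₀ := by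
      by_contra h
      push Not at h
      exact huv (con_of_status hNG hq hqm hu hv (iff_of_false (h u hu) (h v hv)))
    have hiff : ∀ {x y : ℕ}, Con N x y → AllPrimes N x → AllPrimes N y := by
      intro x y h hx
      by_contra hy
      have key : ∀ {z}, z ∈ relCharDegrees N → Con N z x := fun {z} hz => by
        by_cases hz' : AllPrimes N z
        · exact con_of_status hNG hq hqm hz h.1 (iff_of_true hz' hx)
        · exact (con_of_status hNG hq hqm hz h.2.1 (iff_of_false hz' hy)).trans N (h.symm N)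
      exact huv ((key hu).trans N ((key hv).symm N))
    by_cases hB : AllPrimes N b
    · exact (step_of_dvd hb hc hq.ne_one (hB q hq hqm) (hiff hbc hB q hq hqm)).within.succ
    have hC : ¬ AllPrimes N c := fun h => hB (hiff (hbc.symm N) h)
    have hcop : ∀ {x}, x ∈ relCharDegrees N → ¬ AllPrimes N x →
        ∀ t : ℕ, t.Prime → t ∣ ⁅N, N⁆.relIndex N → ¬ t ∣ x := fun hx hX t ht htm htx =>
      hX (hiff (con_of_common N ha₀ hx ht.ne_one (hA₀ t ht htm) htx) hA₀)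
    by_cases hF : Moved N
    swap
    · obtain ⟨r, hr, hrm, hnear⟩ := exists_near_of_not_moved hNG hF
      obtain ⟨z, hrz, hbz⟩ := hnear b hb
      exact absurd (hiff ((con_of_common N ha₀ hbz.2.1 hr.ne_one (hA₀ r hr hrm) hrz).trans N
        (Step.con N hbz.symm)) hA₀) hB
    have two : ∀ {r : ℕ}, r.Prime → r ∣ ⁅N, N⁆.relIndex N → ∀ μ, IsR N r μ → μ ≠ 1 →
        (oo N μ ∣ b ∨ oo N μ ∣ c) → Within N 2 b c := by
      intro r hr hrm μ hμ hμ1 hor
      rcases hor with h | h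
      · exact within_two_left hF hr hμ hμ1 hb hc (fun h' => hcop hb hB r hr hrm (h'.trans h)) h
          (hcop hc hC r hr hrm)
      · exact (within_two_left hF hr hμ hμ1 hc hb (fun h' => hcop hc hC r hr hrm (h'.trans h)) h
          (hcop hb hB r hr hrm)).symm
    rcases dichotomy hF hq hb (hcop hb hB q hq hqm) with
      ⟨μ, hμ, hμ1, -, hμb⟩ | ⟨fb, -, hb1, hbd, -⟩
    · exact two hq hqm μ hμ hμ1 (Or.inl hμb)
    rcases dichotomy hF hq hc (hcop hc hC q hq hqm) with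
      ⟨μ, hμ, hμ1, -, hμc⟩ | ⟨fc, -, hc1, hcd, -⟩
    · exact two hq hqm μ hμ hμ1 (Or.inr hμc)
    by_cases hfb : fb = 1
    · obtain ⟨r, hr, hrm, μ, hμ, hμ1, hμb⟩ := hb1 hfb
      exact two hr hrm μ hμ hμ1 (Or.inl hμb)
    by_cases hfc : fc = 1
    · obtain ⟨r, hr, hrm, μ, hμ, hμ1, hμc⟩ := hc1 hfc
      exact two hr hrm μ hμ hμ1 (Or.inr hμc)
    have hb' := hbd hfb
    have hc' := hcd hfc
    have hN' : ⁅N, N⁆ ≠ ⊥ := fun h => by
      rw [h, rel_bot] at hb'
      exact hb'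
    obtain ⟨z, hz', t, ht, htm, htz⟩ := exists_derived_vertex hS hN'
    letI : Fintype ↥⁅N, N⁆ := Fintype.ofFinite _
    have hsub := rel_mono (Subgroup.commutator_le_self N)
    have big : ∀ {x y : ℕ}, Con ⁅N, N⁆ x y → Con N x y := fun h => by
      obtain ⟨k, hk⟩ := step_of_reachable ⁅N, N⁆ h
      exact Within.con N (hk.map hsub)
    have hsep : ∀ {x}, x ∈ relCharDegrees N → ¬ AllPrimes N x → ¬ Con ⁅N, N⁆ x z :=
      fun hx hX h => hX (hiff ((con_of_common N ha₀ (hsub hz') ht.ne_one (hA₀ t ht htm) htz).trans N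
        ((big h).symm N)) hA₀)
    have hS' := solvable_commutator hS
    have hNG' := (Subgroup.commutator_le_self N).trans hNG
    obtain ⟨q', hq', hqm'⟩ := exists_prime_index hS' hN'
    have hbc' : Con ⁅N, N⁆ b c := by
      by_contra h
      refine h (con_of_status hNG' hq' hqm' hb' hc' ?_)
      have h1 : ¬ (AllPrimes ⁅N, N⁆ b ↔ AllPrimes ⁅N, N⁆ z) := fun h' =>
        hsep hb hB (con_of_status hNG' hq' hqm' hb' hz' h')
      have h2 : ¬ (AllPrimes ⁅N, N⁆ c ↔ AllPrimes ⁅N, N⁆ z) := fun h' =>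
        hsep hc hC (con_of_status hNG' hq' hqm' hc' hz' h')
      generalize AllPrimes ⁅N, N⁆ b = B, AllPrimes ⁅N, N⁆ c = C, AllPrimes ⁅N, N⁆ z = Z at h1 h2 ⊢
      by_cases B <;> by_cases C <;> by_cases Z <;> simp_all
    have hlt : Nat.card ↥⁅N, N⁆ < n := by
      rw [← hn, Nat.card_eq_fintype_card, Nat.card_eq_fintype_card]
      exact Set.card_lt_card (commutator_lt hS hN)
    have h := IH (Nat.card ↥⁅N, N⁆) hlt ⁅N, N⁆ rfl hS' hNG' ⟨b, z, hb', hz', hsep hb hB⟩ hbc'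
    exact h.map hsub

omit [N.Normal] [Fintype N] in
theorem adj_of_step {b c : ℕ} (hb : b ∈ relCharDegrees N) (hc : c ∈ relCharDegrees N)
    (h : Step N b c) (hne : b ≠ c) :
    (commonDivisorGraph.induce (relCharDegrees N)).Adj ⟨b, hb⟩ ⟨c, hc⟩ := by
  obtain ⟨-, -, rfl | ⟨s, hs, hsb, hsc⟩⟩ := h
  · exact absurd rfl hne
  · show b ≠ c ∧ 1 < Nat.gcd b c
    obtain ⟨χ, -, rfl⟩ := hb
    have h0 := Nat.gcd_ne_zero_left (n := c) (BrauerCharacters.charDegree_spec χ).2.1.ne'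
    have h1 : Nat.gcd (charDegree (χ : G → ℂ)) c ≠ 1 := fun h1 =>
      hs (Nat.dvd_one.1 (h1 ▸ Nat.dvd_gcd hsb hsc))
    exact ⟨hne, by omega⟩

end Main

end CfsgLib.ZerosCodegree.RelGraph
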