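import Cfsg.Agent.S4493
import Cfsg.Agent.Lib.ZerosCodegree.PalfyModule
import Cfsg.Agent.Lib.ZerosCodegree.RelDegreeDistance
import Cfsg.Agent.Lib.ZerosCodegree.CosetNorm

/-!
# Stabilisers of linear characters when a prime divides no degree above them

If `t` divides no degree over a character of a normal subgroup which extends to its stabiliser,
the image of the stabiliser in the quotient contains exactly one Sylow `t`-subgroup, which it
normalises. Applied to the dual of a minimal normal subgroup this gives modules in which every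
vector is fixed by exactly one Sylow subgroup.
-/

set_option autoImplicit false
set_option linter.style.haveILetI false
set_option linter.unusedSectionVars false

open scoped Pointwise commutatorElement

namespace CfsgLib.ZerosCodegree.Palfy

open Cfsg CfsgLib.CharTheory CfsgLib.Clifford CfsgLib.ZerosCodegree.RelGraph

universe u

variable {G : Type u} [Group G] [Finite G]

/-- Some degree is divisible by both numbers. -/
def Pair (G : Type u) [Group G] (a b : ℕ) : Prop :=
  ∃ χ : IrrCharacter G, a ∣ charDegree (χ : G → ℂ) ∧ b ∣ charDegree (χ : G → ℂ)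

theorem Pair.symm {a b : ℕ} (h : Pair G a b) : Pair G b a :=
  let ⟨χ, h1, h2⟩ := h; ⟨χ, h2, h1⟩

theorem exists_of_surjective {H : Type*} [Group H] [Finite H] {f : G →* H}
    (hf : Function.Surjective f) (β : IrrCharacter H) :
    ∃ χ : IrrCharacter G, charDegree (χ : G → ℂ) = charDegree (β : H → ℂ) := by
  refine ⟨⟨fun g => (β : H → ℂ) (f g), isIrrCharacter_comp β.2 hf⟩, ?_⟩
  have h1 := (BrauerCharacters.charDegree_spec
    (⟨fun g => (β : H → ℂ) (f g), isIrrCharacter_comp β.2 hf⟩ : IrrCharacter G)).1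
  change (β : H → ℂ) (f 1) = _ at h1
  rw [map_one, (BrauerCharacters.charDegree_spec β).1] at h1
  exact_mod_cast h1.symm

/-- A subgroup containing exactly one Sylow `t`-subgroup, which it normalises. -/
def Uniq (t : ℕ) {H : Type*} [Group H] (T : Subgroup H) : Prop :=
  ∃ S : Sylow t H, (S : Subgroup H) ≤ T ∧ T ≤ Subgroup.normalizer (S : Set H)

theorem Uniq.eq {t : ℕ} [Fact t.Prime] {H : Type*} [Group H] [Finite H] {T : Subgroup H}
    (h : Uniq t T) {S S' : Sylow t H} (hS : (S : Subgroup H) ≤ T) (hS' : (S' : Subgroup H) ≤ T) :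
    S = S' := by
  obtain ⟨P, -, hn⟩ := h
  have key : ∀ S : Sylow t H, (S : Subgroup H) ≤ T → S = P := by
    intro S hS
    have h1 := S.2.inf_normalizer_sylow P
    have h2 : (S : Subgroup H) ≤ P := inf_eq_left.1 (h1.symm.trans (inf_eq_left.2 (hS.trans hn)))
    exact Sylow.ext (S.3 P.2 h2).symm
  rw [key S hS, key S' hS']

theorem Uniq.map {t : ℕ} [Fact t.Prime] {H K : Type*} [Group H] [Finite H] [Group K] [Finite K]
    {T : Subgroup H} (h : Uniq t T) {f : H →* K} (hf : Function.Surjective f) :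
    Uniq t (T.map f) := by
  obtain ⟨S, hS, hn⟩ := h
  refine ⟨S.mapSurjective hf, (S.coe_mapSurjective hf).le.trans (Subgroup.map_mono hS), ?_⟩
  rintro _ ⟨x, hx, rfl⟩
  refine Subgroup.mem_normalizer_iff.2 fun y => ?_
  show y ∈ (S.mapSurjective hf : Subgroup K) ↔ f x * y * (f x)⁻¹ ∈ (S.mapSurjective hf : Subgroup K)
  rw [S.coe_mapSurjective hf]
  constructor
  · rintro ⟨z, hz, rfl⟩
    exact ⟨x * z * x⁻¹, (Subgroup.mem_normalizer_iff.1 (hn hx) z).1 hz, by simp⟩
  · rintro ⟨z, hz, he⟩
    refine ⟨x⁻¹ * z * x, ?_, by rw [map_mul, map_mul, map_inv, he]; group⟩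
    have := (Subgroup.mem_normalizer_iff.1 (hn (T.inv_mem hx)) z).1 hz
    rwa [inv_inv] at this

theorem existsUnique_fixes {t : ℕ} [Fact t.Prime] {H : Type*} [Group H] [Finite H] {V : Type*}
    [AddCommGroup V] {ρ : H →* AddMonoid.End V} {v : V} {T : Subgroup H}
    (hT : ∀ x, x ∈ T ↔ ρ x v = v) (h : Uniq t T) : ∃! S : Sylow t H, Fixes ρ S v := by
  obtain ⟨S, hS, hn⟩ := h
  exact ⟨S, fun x hx => (hT x).1 (hS hx), fun S' hS' =>
    Uniq.eq ⟨S, hS, hn⟩ (fun x hx => (hT x).2 (hS' x hx)) hS⟩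

/-- The stabiliser of an extendible character. -/
theorem uniq_of_extension (hsolv : Group.IsSolvable G) (N : Subgroup G) [N.Normal] [Fintype N]
    (θ : IrrCharacter N) (T : Subgroup G)
    (hT : ∀ g, g ∈ T ↔ conjChar N (θ : N → ℂ) g = (θ : N → ℂ)) {χ₀ : T → ℂ}
    (hχ₀ : IsIrrCharacter T χ₀) (hNT : N ≤ T)
    (hext : ∀ n : N, χ₀ ⟨(n : G), hNT n.2⟩ = (θ : N → ℂ) n) {t : ℕ} [Fact t.Prime]
    (h : ∀ χ : IrrCharacter G, classInner (fun n : N => (χ : G → ℂ) n) (θ : N → ℂ) ≠ 0 →
      ¬ t ∣ charDegree (χ : G → ℂ)) :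
    Uniq t (T.map (QuotientGroup.mk' N)) := by
  classical
  haveI := Fintype.ofFinite G
  haveI := Fintype.ofFinite T
  have hTi : inertia N (θ : N → ℂ) = T := by
    ext g; rw [mem_inertia, hT]
  have hidx : ¬ t ∣ T.index := by
    obtain ⟨χ, hχ⟩ := CfsgLib.BlockLocal.exists_over N θ
    exact fun hd => h χ hχ (hd.trans (hTi ▸ RelGraph.index_dvd N
      (show Over N χ θ from hχ)))
  set Tb := T.map (QuotientGroup.mk' N)
  let f : T →* Tb := (QuotientGroup.mk' N).subgroupMap T
  have hf : Function.Surjective f := MonoidHom.subgroupMap_surjective _ _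
  haveI := Fintype.ofFinite (N.subgroupOf T)
  have hdeg : ∀ β : IrrCharacter Tb, ¬ t ∣ charDegree (β : Tb → ℂ) := by
    intro β hd
    obtain ⟨ψ, hψ, hψe⟩ := exists_descend (isIrrCharacter_comp β.2 hf) (N.subgroupOf T)
      fun g hg => by
        rw [show f g = f 1 from Subtype.ext (by
          show (QuotientGroup.mk' N) (g : G) = (QuotientGroup.mk' N) ((1 : T) : G)
          rw [QuotientGroup.mk'_apply, (QuotientGroup.eq_one_iff _).2 (Subgroup.mem_subgroupOf.1 hg)]
          simp)]
    have hθ' : IsIrrCharacter (N.subgroupOf T) fun n => χ₀ (n : T) := by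
      have e : (fun n : N.subgroupOf T => χ₀ (n : T)) =
          fun n => (θ : N → ℂ) (Subgroup.subgroupOfEquivOfLe hNT n) := funext fun n =>
        hext (Subgroup.subgroupOfEquivOfLe hNT n)
      rw [e]
      exact isIrrCharacter_comp_mulEquiv θ.2 _
    have hP := CfsgLib.ZerosCodegree.isIrrCharacter_mul_of_extension (N.subgroupOf T) hχ₀ hθ'
      (fun n => rfl) ⟨ψ, hψ⟩
    set P : T → ℂ := (fun g : T => ψ (g : T ⧸ N.subgroupOf T)) * χ₀ with hPdef
    have hin : classInner (fun n : N => P ⟨(n : G), hNT n.2⟩) (θ : N → ℂ) =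
        (charDegree (β : Tb → ℂ) : ℂ) := by
      have e : (fun n : N => P ⟨(n : G), hNT n.2⟩) =
          (charDegree (β : Tb → ℂ) : ℂ) • (θ : N → ℂ) := funext fun n => by
        simp only [hPdef, Pi.mul_apply, Pi.smul_apply, smul_eq_mul, hext]
        rw [← (BrauerCharacters.charDegree_spec β).1, ← hψe]
        congr 1
        exact congrArg _ (Subtype.ext ((QuotientGroup.eq_one_iff _).2 n.2))
      rw [e, classInner_smul_left, classInner_self_of_isIrr θ.2, mul_one]
    obtain ⟨hirr, hover⟩ := isIrrCharacter_indFun_inertia θ.2 hT hNT hP (by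
      rw [hin]; exact_mod_cast (BrauerCharacters.charDegree_spec β).2.1.ne')
    refine h ⟨_, hirr⟩ (by rw [hover, hin]; exact_mod_cast
      (BrauerCharacters.charDegree_spec β).2.1.ne') ?_
    obtain ⟨d, -, hd0⟩ := exists_degree_of_isIrr θ.2
    have h1 : (charDegree (indFun T P) : ℂ) =
        ((T.index * (charDegree (β : Tb → ℂ) * d) : ℕ) : ℂ) := by
      rw [← (BrauerCharacters.charDegree_spec (⟨_, hirr⟩ : IrrCharacter G)).1]
      show indFun T P 1 = _
      rw [CfsgLib.Frobenius.indFun_one]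
      push_cast
      congr 1
      show ψ ((1 : T) : T ⧸ N.subgroupOf T) * χ₀ 1 = _
      rw [show χ₀ 1 = (θ : N → ℂ) 1 from hext 1, hd0, ← hψe, map_one,
        (BrauerCharacters.charDegree_spec β).1]
    show t ∣ charDegree (indFun T P)
    rw [show charDegree (indFun T P) = T.index * (charDegree (β : Tb → ℂ) * d) by
      exact_mod_cast h1]
    exact (hd.mul_right d).mul_left _
  have hsT : Group.IsSolvable Tb := by
    haveI := hsolv
    infer_instance
  obtain ⟨P, hPn, -, hPp, hPi⟩ := (Cfsg.Agent.S4493.result hsT t Fact.out).2 hdeg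
  obtain ⟨S, hS⟩ := (hPp.map Tb.subtype).exists_le_sylow
  have hcard : Nat.card (P.map Tb.subtype) = Nat.card (S : Subgroup (G ⧸ N)) := by
    rw [Subgroup.card_map_of_injective Tb.subtype_injective]
    refine Nat.dvd_antisymm ((Subgroup.card_map_of_injective Tb.subtype_injective).symm.dvd.trans
      (Subgroup.card_dvd_of_le hS)) ?_
    have hTb : ¬ t ∣ Tb.index := fun hd => hidx (hd.trans (Subgroup.index_map_dvd T
      (QuotientGroup.mk'_surjective N)))
    obtain ⟨k, hk⟩ := IsPGroup.iff_card.1 S.2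
    rw [hk]
    refine Nat.Coprime.dvd_of_dvd_mul_right (k := t ^ k) (n := P.index * Tb.index)
      (Nat.Coprime.pow_left k (((Fact.out : t.Prime).coprime_iff_not_dvd).2 fun hd =>
        ((Fact.out : t.Prime).dvd_mul.1 hd).elim hPi hTb)) ?_
    rw [← mul_assoc, P.card_mul_index, Tb.card_mul_index, ← hk]
    exact Subgroup.card_subgroup_dvd_card _
  have hSeq : P.map Tb.subtype = S := Subgroup.eq_of_le_of_card_ge hS hcard.ge
  refine ⟨S, hSeq ▸ Subgroup.map_subtype_le P, fun x hx => ?_⟩
  refine Subgroup.mem_normalizer_iff.2 fun y => ?_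
  show y ∈ (S : Subgroup (G ⧸ N)) ↔ x * y * x⁻¹ ∈ (S : Subgroup (G ⧸ N))
  rw [← hSeq]
  constructor
  · rintro ⟨z, hz, rfl⟩
    exact ⟨⟨x, hx⟩ * z * ⟨x, hx⟩⁻¹, hPn.conj_mem z hz _, by simp⟩
  · rintro ⟨z, hz, he⟩
    exact ⟨⟨x, hx⟩⁻¹ * z * ⟨x, hx⟩, by simpa using hPn.conj_mem z hz ⟨x, hx⟩⁻¹, by
      simp only [Subgroup.coe_subtype] at he
      simp only [Subgroup.coe_subtype, Subgroup.coe_mul, Subgroup.coe_inv, he]
      group⟩

/-- The stabiliser of a linear character of a normal subgroup. -/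
def stab (N : Subgroup G) [N.Normal] (l : N →* ℂˣ) : Subgroup G := inertia N (linFun l)

theorem mem_stab {N : Subgroup G} [N.Normal] {l : N →* ℂˣ} {g : G} :
    g ∈ stab N l ↔ ∀ n, l (MulAut.conjNormal g n) = l n := by
  rw [stab, mem_inertia, conjChar_eq_comp]
  exact ⟨fun h n => Units.ext (by simpa [linFun_apply] using congrFun h n),
    fun h => funext fun n => by simp [linFun_apply, h n]⟩

theorem le_stab (N : Subgroup G) [N.Normal] (l : N →* ℂˣ) : N ≤ stab N l := fun x hx => by
  rw [mem_stab]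
  intro n
  rw [show MulAut.conjNormal x n = ⟨x, hx⟩ * n * (⟨x, hx⟩ : N)⁻¹ from
    Subtype.ext (by simp)]
  simp [mul_comm]

/-- A linear character of a complemented normal subgroup extends to its stabiliser. -/
theorem exists_extension_stab {N : Subgroup G} [N.Normal] {H₀ : Subgroup G}
    (hc : N.IsComplement' H₀) (l : N →* ℂˣ) :
    ∃ l' : stab N l →* ℂˣ, ∀ n : N, l' ⟨(n : G), le_stab N l n.2⟩ = l n := by
  let e := hc.equiv
  have hmem : ∀ x : G, ((e x).1 : G) * (e x).2 = x := fun x => hc.equiv_fst_mul_equiv_snd x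
  have huniq : ∀ (n : N) (h : H₀), e ((n : G) * h) = (n, h) := fun n h => by
    apply e.symm.injective
    rw [Equiv.symm_apply_apply]
    exact (Subgroup.IsComplement.equiv_symm_apply hc (n, h)).symm
  have hmul : ∀ x y : G, (e (x * y)).1 =
      (e x).1 * MulAut.conjNormal ((e x).2 : G) (e y).1 := by
    intro x y
    have h : x * y = (((e x).1 * MulAut.conjNormal ((e x).2 : G) (e y).1 : N) : G) *
        (((e x).2 * (e y).2 : H₀) : G) := by
      conv_lhs => rw [← hmem x, ← hmem y]
      simp [mul_assoc]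
    conv_lhs => rw [h, huniq]
  have hone : (e 1).1 = 1 := by
    have h1 := huniq 1 1
    simpa using congrArg Prod.fst h1
  refine ⟨{ toFun := fun x => l (e (x : G)).1, map_one' := by simp [hone], map_mul' := ?_ }, ?_⟩
  · intro x y
    rw [Subgroup.coe_mul, hmul, map_mul]
    congr 1
    refine mem_stab.1 ?_ _
    rw [show ((e (x : G)).2 : G) = ((e (x : G)).1 : G)⁻¹ * x by
      conv_rhs => arg 2; rw [← hmem x]
      group]
    exact (stab N l).mul_mem ((stab N l).inv_mem (le_stab N l (e (x : G)).1.2)) x.2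
  · intro n
    show l (e (n : G)).1 = l n
    have h1 := huniq n 1
    rw [OneMemClass.coe_one, mul_one] at h1
    rw [h1]

/-- The stabiliser of a linear character of a complemented normal subgroup. -/
theorem uniq_stab (hsolv : Group.IsSolvable G) (N : Subgroup G) [N.Normal] [Fintype N]
    {H₀ : Subgroup G} (hc : N.IsComplement' H₀) (l : N →* ℂˣ) {t : ℕ} [Fact t.Prime]
    (h : ∀ χ : IrrCharacter G, classInner (fun n : N => (χ : G → ℂ) n) (linFun l) ≠ 0 →
      ¬ t ∣ charDegree (χ : G → ℂ)) :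
    Uniq t ((stab N l).map (QuotientGroup.mk' N)) := by
  obtain ⟨l', hl'⟩ := exists_extension_stab hc l
  haveI := Fintype.ofFinite G
  refine uniq_of_extension hsolv N (linIrr N l) (stab N l) (fun g => Iff.rfl)
    (isIrrCharacter_linear l') (le_stab N l) (fun n => ?_) h
  show linFun l' _ = linFun l n
  rw [linFun_apply, linFun_apply, hl']

section Dual

/-- The endomorphisms of a commutative group, with the additive structure of that group. -/
abbrev EndOf (V : Type u) [AddCommGroup V] : Type u := AddMonoid.End V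

/-- The action on the dual of a normal subgroup. -/
noncomputable def dualRep (N : Subgroup G) [N.Normal] :
    G →* EndOf (Additive (N →* ℂˣ)) where
  toFun g :=
    { toFun := fun l => Additive.ofMul ((Additive.toMul l).comp
        (MulAut.conjNormal g⁻¹ : MulAut N).toMonoidHom)
      map_zero' := rfl
      map_add' := fun _ _ => rfl }
  map_one' := DFunLike.ext _ _ fun l => by
    refine Additive.toMul.injective (MonoidHom.ext fun n => ?_)
    show (Additive.toMul l) (MulAut.conjNormal (1 : G)⁻¹ n) = _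
    simp
  map_mul' a b := DFunLike.ext _ _ fun l => by
    refine Additive.toMul.injective (MonoidHom.ext fun n => ?_)
    show (Additive.toMul l) (MulAut.conjNormal (a * b)⁻¹ n) =
      (Additive.toMul l) (MulAut.conjNormal b⁻¹ (MulAut.conjNormal a⁻¹ n))
    rw [mul_inv_rev, map_mul, MulAut.mul_apply]

theorem dualRep_fix {N : Subgroup G} [N.Normal] {l : Additive (N →* ℂˣ)} {g : G} :
    dualRep N g l = l ↔ g ∈ stab N (Additive.toMul l) := by
  rw [mem_stab]
  constructor
  · intro h n
    have h1 := DFunLike.congr_fun (congrArg Additive.toMul h) (MulAut.conjNormal g n)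
    simp only [dualRep] at h1
    rw [← h1]
    show (Additive.toMul l) (MulAut.conjNormal g⁻¹ (MulAut.conjNormal g n)) = _
    rw [← MulAut.mul_apply, ← map_mul, inv_mul_cancel, map_one, MulAut.one_apply]
  · intro h
    refine Additive.toMul.injective (MonoidHom.ext fun n => ?_)
    show (Additive.toMul l) (MulAut.conjNormal g⁻¹ n) = _
    rw [← h (MulAut.conjNormal g⁻¹ n), ← MulAut.mul_apply, ← map_mul, mul_inv_cancel, map_one,
      MulAut.one_apply]

theorem card_dual_comm {N : Subgroup G} (hab : ∀ a ∈ N, ∀ b ∈ N, a * b = b * a) :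
    Nat.card (N →* ℂˣ) = Nat.card N := by
  letI : CommGroup N :=
    { (inferInstance : Group N) with mul_comm := fun a b => Subtype.ext (hab a a.2 b b.2) }
  obtain ⟨e⟩ := CommGroup.monoidHom_mulEquiv_of_hasEnoughRootsOfUnity N ℂ
  exact Nat.card_congr e.toEquiv

theorem exists_apply_ne_one {N : Subgroup G} (hab : ∀ a ∈ N, ∀ b ∈ N, a * b = b * a) {n : N}
    (hn : n ≠ 1) : ∃ l : N →* ℂˣ, l n ≠ 1 := by
  letI : CommGroup N :=
    { (inferInstance : Group N) with mul_comm := fun a b => Subtype.ext (hab a a.2 b b.2) }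
  exact CommGroup.exists_apply_ne_one_of_hasEnoughRootsOfUnity N ℂ hn

theorem finite_dual (N : Subgroup G) [N.Normal] : Finite (N →* ℂˣ) :=
  Nat.finite_of_card_ne_zero (by
    haveI := Fintype.ofFinite N
    haveI := Fintype.ofFinite G
    rw [RelGraph.card_linear]
    exact fun h => Subgroup.index_ne_zero_of_finite (H := ⁅N, N⁆.subgroupOf N) h)

/-- The dual of an abelian minimal normal subgroup is irreducible. -/
theorem dual_irr (M : Subgroup G) [M.Normal] (hab : ∀ a ∈ M, ∀ b ∈ M, a * b = b * a)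
    (hmin : ∀ K : Subgroup G, K.Normal → K ≤ M → K = ⊥ ∨ K = M) :
    Irr (dualRep M) := by
  haveI := finite_dual M
  haveI : Finite (Additive (M →* ℂˣ)) := Finite.of_equiv _ Additive.ofMul
  intro U hU
  let K : Subgroup G :=
    { carrier := {m | ∃ hm : m ∈ M, ∀ l ∈ U, (Additive.toMul l) ⟨m, hm⟩ = 1}
      one_mem' := ⟨M.one_mem, fun l _ => map_one _⟩
      mul_mem' := fun {a b} ⟨ha, ha'⟩ ⟨hb, hb'⟩ => ⟨M.mul_mem ha hb, fun l hl => by
        rw [show (⟨a * b, M.mul_mem ha hb⟩ : M) = ⟨a, ha⟩ * ⟨b, hb⟩ from rfl, map_mul, ha' l hl,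
          hb' l hl, one_mul]⟩
      inv_mem' := fun {a} ⟨ha, ha'⟩ => ⟨M.inv_mem ha, fun l hl => by
        rw [show (⟨a⁻¹, M.inv_mem ha⟩ : M) = ⟨a, ha⟩⁻¹ from rfl, map_inv, ha' l hl, inv_one]⟩ }
  have hKn : K.Normal := ⟨fun m ⟨hm, hm'⟩ g => ⟨Subgroup.Normal.conj_mem inferInstance m hm g,
    fun l hl => by
    have h1 := hm' _ (hU (g⁻¹ : G) l hl)
    change (Additive.toMul l) (MulAut.conjNormal g⁻¹⁻¹ ⟨m, hm⟩) = 1 at h1
    rw [← h1]
    congr 1
    exact Subtype.ext (by simp)⟩⟩
  rcases hmin K hKn (fun m hm => hm.1) with hK | hK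
  · right
    haveI : Finite U := inferInstance
    refine AddSubgroup.eq_top_of_le_card U ?_
    have h1 : Nat.card (Additive (M →* ℂˣ)) = Nat.card M := card_dual_comm hab
    rw [h1]
    let U' : Subgroup (M →* ℂˣ) := U.toSubgroup'
    letI : CommGroup U' := inferInstance
    obtain ⟨e⟩ := CommGroup.monoidHom_mulEquiv_of_hasEnoughRootsOfUnity U' ℂ
    let ev : M →* (U' →* ℂˣ) :=
      { toFun := fun m => { toFun := fun u => (u : M →* ℂˣ) m
                            map_one' := rfl
                            map_mul' := fun _ _ => rfl }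
        map_one' := MonoidHom.ext fun u => map_one (u : M →* ℂˣ)
        map_mul' := fun a b => MonoidHom.ext fun u => map_mul (u : M →* ℂˣ) a b }
    haveI : Finite U' := inferInstance
    haveI : Finite (U' →* ℂˣ) := Finite.of_equiv _ e.toEquiv.symm
    refine (Nat.card_le_card_of_injective ev ((injective_iff_map_eq_one _).2 fun m hm => ?_)).trans
      ((Nat.card_congr e.toEquiv).le)
    have hmK : (m : G) ∈ K := ⟨m.2, fun l hl => DFunLike.congr_fun hm
      ⟨Additive.toMul l, hl⟩⟩
    rw [hK, Subgroup.mem_bot] at hmK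
    exact Subtype.ext hmK
  · left
    rw [eq_bot_iff]
    intro l hl
    rw [AddSubgroup.mem_bot]
    refine Additive.toMul.injective (MonoidHom.ext fun m => ?_)
    obtain ⟨hm, hm'⟩ : (m : G) ∈ K := hK.symm ▸ m.2
    exact hm' l hl

-- Minimal normal abelian subgroups have irreducible duals, and the faithful quotient has a
-- degree divisible by two primes with unique fixing Sylow subgroups.
set_option maxHeartbeats 1000000 in
theorem pair_of_uniq (hsolv : Group.IsSolvable G) (M : Subgroup G) [M.Normal]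
    (hab : ∀ a ∈ M, ∀ b ∈ M, a * b = b * a) (hMne : M ≠ ⊥)
    (hmin : ∀ K : Subgroup G, K.Normal → K ≤ M → K = ⊥ ∨ K = M) (N₀ : Subgroup G) [N₀.Normal]
    (hN₀ : N₀ ≤ (dualRep M).ker) {q r : ℕ} [Fact q.Prime] [Fact r.Prime] (hqr : q ≠ r)
    (hq : q ∣ N₀.index) (hr : r ∣ N₀.index)
    (hqC : ¬ q ∣ N₀.relIndex (dualRep M).ker) (hrC : ¬ r ∣ N₀.relIndex (dualRep M).ker)
    (huq : ∀ l : M →* ℂˣ, l ≠ 1 → Uniq q ((stab M l).map (QuotientGroup.mk' N₀)))
    (hur : ∀ l : M →* ℂˣ, l ≠ 1 → Uniq r ((stab M l).map (QuotientGroup.mk' N₀))) :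
    Pair G q r := by
  classical
  haveI := finite_dual M
  haveI : Finite (Additive (M →* ℂˣ)) := Finite.of_equiv _ Additive.ofMul
  haveI : Nontrivial M := (Subgroup.nontrivial_iff_ne_bot M).2 hMne
  haveI : Nontrivial (Additive (M →* ℂˣ)) := by
    obtain ⟨n, hn⟩ := exists_ne (1 : M)
    obtain ⟨l, hl⟩ := exists_apply_ne_one hab hn
    exact ⟨⟨Additive.ofMul l, 0, fun h => hl (by
      rw [show l = 1 from congrArg Additive.toMul h]; rfl)⟩⟩
  set C := (dualRep M).ker with hC
  let ρ : G ⧸ C →* EndOf (Additive (M →* ℂˣ)) := QuotientGroup.lift C (dualRep M) le_rfl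
  have hρ : Function.Injective ρ := (injective_iff_map_eq_one ρ).2 fun x hx => by
    obtain ⟨g, rfl⟩ := QuotientGroup.mk_surjective x
    exact (QuotientGroup.eq_one_iff g).2 (MonoidHom.mem_ker.2 hx)
  have hmk : ∀ g : G, ρ (g : G ⧸ C) = dualRep M g := fun g => rfl
  have hirr : Irr ρ := fun U hU =>
    dual_irr M hab hmin U fun g v hv => (hmk g ▸ hU (g : G ⧸ C) v hv :)
  let π : G ⧸ N₀ →* G ⧸ C := QuotientGroup.map N₀ C (MonoidHom.id G) hN₀
  have hπ : Function.Surjective π := fun x => by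
    obtain ⟨g, rfl⟩ := QuotientGroup.mk_surjective x
    exact ⟨(g : G ⧸ N₀), rfl⟩
  have hspread : ∀ {t : ℕ} [Fact t.Prime],
      (∀ l : M →* ℂˣ, l ≠ 1 → Uniq t ((stab M l).map (QuotientGroup.mk' N₀))) → Spread ρ t := by
    intro t _ hu v hv
    have hv' : Additive.toMul v ≠ 1 := fun h => hv (Additive.toMul.injective h)
    refine existsUnique_fixes (T := ((stab M (Additive.toMul v)).map (QuotientGroup.mk' N₀)).map π)
      (fun x => ?_) ((hu _ hv').map hπ)
    obtain ⟨g, rfl⟩ := QuotientGroup.mk_surjective x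
    rw [hmk, dualRep_fix]
    constructor
    · rintro ⟨y, ⟨g', hg', rfl⟩, he⟩
      have he' : (g' : G ⧸ C) = (g : G ⧸ C) := he
      have h1 : g'⁻¹ * g ∈ stab M (Additive.toMul v) := dualRep_fix.1 (by
        rw [MonoidHom.mem_ker.1 (QuotientGroup.eq.1 he')]; rfl)
      simpa using (stab M (Additive.toMul v)).mul_mem hg' h1
    · exact fun hg => ⟨_, ⟨g, hg, rfl⟩, rfl⟩
  have hdvd : ∀ {t : ℕ}, t.Prime → t ∣ N₀.index → ¬ t ∣ N₀.relIndex C → t ∣ Nat.card (G ⧸ C) := by
    intro t ht h1 h2
    rw [← Subgroup.relIndex_mul_index hN₀] at h1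
    exact (ht.dvd_mul.1 h1).resolve_left h2
  have hsH : Group.IsSolvable (G ⧸ C) := by
    haveI := hsolv
    exact Group.isSolvable_of_surjective (QuotientGroup.mk'_surjective C)
  obtain ⟨β, hβq, hβr⟩ := exists_degree hsH hρ hirr hqr (hdvd Fact.out hq hqC)
    (hdvd Fact.out hr hrC) (hspread huq) (hspread hur)
  obtain ⟨χ, hχ⟩ := exists_of_surjective (QuotientGroup.mk'_surjective C) β
  exact ⟨χ, hχ ▸ hβq, hχ ▸ hβr⟩

end Dual

end CfsgLib.ZerosCodegree.Palfy
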