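import Cfsg.Agent.Lib.ZerosCodegree.PalfyStabilizers
import Cfsg.Agent.Lib.SolvableStructure.MinimalNormal
import Cfsg.Agent.Lib.CharDegreesTheory.InvariantConstituent
import Cfsg.Agent.Lib.CharDegreesTheory.CoprimeExtension
import Cfsg.Agent.Lib.CyclicTI.InducedSys
import Cfsg.Agent.Lib.ZerosCodegree.CentralSubgroup

/-!
# Tools for the three primes theorem

Covers of a normal subgroup losing a prime, relative degrees, linear characters trivial on a
subgroup and the counting of vectors fixed by Sylow subgroups.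
-/

set_option autoImplicit false
set_option linter.style.haveILetI false
set_option linter.unusedSectionVars false

open scoped Pointwise commutatorElement

namespace CfsgLib.ZerosCodegree.Palfy

open Cfsg CfsgLib.CharTheory CfsgLib.Clifford CfsgLib.ZerosCodegree.RelGraph

universe u

section Element

variable {X : Type*} [Group X]

/-- An element with two coprime powers in a subgroup lies in it. -/
theorem mem_of_pow_coprime {T : Subgroup X} {x : X} {a b : ℕ} (ha : x ^ a ∈ T) (hb : x ^ b ∈ T)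
    (h : a.Coprime b) : x ∈ T := by
  have h1 : (1 : ℤ) = a * Nat.gcdA a b + b * Nat.gcdB a b := by
    rw [← Nat.gcd_eq_gcd_ab, h.gcd_eq_one, Nat.cast_one]
  rw [← zpow_one x, h1, zpow_add, zpow_mul, zpow_mul, zpow_natCast, zpow_natCast]
  exact T.mul_mem (T.zpow_mem ha _) (T.zpow_mem hb _)

theorem pow_conj_eq {k x : X} (h : k * ⁅k, x⁆ = ⁅k, x⁆ * k) (n : ℕ) :
    k ^ n * x * (k ^ n)⁻¹ = ⁅k, x⁆ ^ n * x := by
  induction n with
  | zero => simp
  | succ n ih =>
    rw [pow_succ', show k * k ^ n * x * (k * k ^ n)⁻¹ = k * (k ^ n * x * (k ^ n)⁻¹) * k⁻¹ by group,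
      ih, show k * (⁅k, x⁆ ^ n * x) * k⁻¹ = (k * ⁅k, x⁆ ^ n) * (x * k⁻¹) by group,
      ((Commute.pow_right (show Commute k ⁅k, x⁆ from h) n) : k * _ = _), pow_succ]
    simp only [commutatorElement_def]
    group

/-- Coprime action: an element acting trivially on the commutator commutes. -/
theorem commutator_eq_one_of_coprime {k x : X} {a b : ℕ} (h : k * ⁅k, x⁆ = ⁅k, x⁆ * k)
    (hk : k ^ a * x = x * k ^ a) (hc : ⁅k, x⁆ ^ b = 1) (hab : a.Coprime b) : ⁅k, x⁆ = 1 := by
  have h1 : ⁅k, x⁆ ^ a * x = 1 * x := by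
    rw [← pow_conj_eq h a, hk, one_mul, mul_inv_cancel_right]
  exact Subgroup.mem_bot.1 (mem_of_pow_coprime (T := ⊥) (Subgroup.mem_bot.2 (mul_right_cancel h1))
    (Subgroup.mem_bot.2 hc) hab)

variable [Finite X]

/-- A linear character trivial on `A` separating a point outside `A`. -/
theorem exists_linear_sep {A : Subgroup X} (hA : commutator X ≤ A) {x : X} (hx : x ∉ A) :
    ∃ μ : X →* ℂˣ, A ≤ μ.ker ∧ μ x ≠ 1 := by
  haveI : A.Normal := ⟨fun a ha g => by
    rw [show g * a * g⁻¹ = ⁅g, a⁆ * a by rw [commutatorElement_def]; group]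
    exact A.mul_mem (hA (Subgroup.commutator_mem_commutator (Subgroup.mem_top _)
      (Subgroup.mem_top _))) ha⟩
  letI : CommGroup (X ⧸ A) :=
    { (inferInstance : Group (X ⧸ A)) with
      mul_comm := fun a b => by
        obtain ⟨a, rfl⟩ := QuotientGroup.mk_surjective a
        obtain ⟨b, rfl⟩ := QuotientGroup.mk_surjective b
        rw [← QuotientGroup.mk_mul, ← QuotientGroup.mk_mul]
        refine QuotientGroup.eq.2 (hA ?_)
        rw [show (a * b)⁻¹ * (b * a) = ⁅b⁻¹, a⁻¹⁆ by simp [commutatorElement_def, mul_assoc]]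
        exact Subgroup.commutator_mem_commutator (Subgroup.mem_top _) (Subgroup.mem_top _) }
  have hne : (x : X ⧸ A) ≠ 1 := fun h => hx ((QuotientGroup.eq_one_iff x).1 h)
  obtain ⟨ν, hν⟩ := CommGroup.exists_apply_ne_one_of_hasEnoughRootsOfUnity (X ⧸ A) ℂ hne
  refine ⟨ν.comp (QuotientGroup.mk' A), fun a ha => ?_, hν⟩
  rw [MonoidHom.mem_ker, MonoidHom.comp_apply, QuotientGroup.mk'_apply,
    (QuotientGroup.eq_one_iff a).2 ha, map_one]

/-- The number of linear characters trivial on `A`. -/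
theorem card_linear_trivial_on {A : Subgroup X} [A.Normal] (hA : commutator X ≤ A) :
    Nat.card {μ : X →* ℂˣ // A ≤ μ.ker} = A.index := by
  letI : CommGroup (X ⧸ A) :=
    { (inferInstance : Group (X ⧸ A)) with
      mul_comm := fun a b => by
        obtain ⟨a, rfl⟩ := QuotientGroup.mk_surjective a
        obtain ⟨b, rfl⟩ := QuotientGroup.mk_surjective b
        rw [← QuotientGroup.mk_mul, ← QuotientGroup.mk_mul]
        refine QuotientGroup.eq.2 (hA ?_)
        rw [show (a * b)⁻¹ * (b * a) = ⁅b⁻¹, a⁻¹⁆ by simp [commutatorElement_def, mul_assoc]]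
        exact Subgroup.commutator_mem_commutator (Subgroup.mem_top _) (Subgroup.mem_top _) }
  obtain ⟨e⟩ := CommGroup.monoidHom_mulEquiv_of_hasEnoughRootsOfUnity (X ⧸ A) ℂ
  show _ = Nat.card (X ⧸ A)
  rw [← Nat.card_congr e.toEquiv]
  exact Nat.card_congr
    { toFun := fun μ => QuotientGroup.lift A μ.1 μ.2
      invFun := fun ν => ⟨ν.comp (QuotientGroup.mk' A), fun a ha => by
        rw [MonoidHom.mem_ker, MonoidHom.comp_apply, QuotientGroup.mk'_apply,
          (QuotientGroup.eq_one_iff a).2 ha, map_one]⟩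
      left_inv := fun μ => Subtype.ext (MonoidHom.ext fun x => rfl)
      right_inv := fun ν => MonoidHom.ext fun x => by
        obtain ⟨x, rfl⟩ := QuotientGroup.mk_surjective x
        rfl }

end Element

variable {G : Type u} [Group G] [Finite G]

/-- The prime divides some degree. -/
def Vert (G : Type u) [Group G] (t : ℕ) : Prop :=
  ∃ χ : IrrCharacter G, t ∣ charDegree (χ : G → ℂ)

theorem degree_dvd_index (A : Subgroup G) [A.Normal] (hab : ∀ a ∈ A, ∀ b ∈ A, a * b = b * a)
    (χ : IrrCharacter G) : charDegree (χ : G → ℂ) ∣ A.index := by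
  obtain ⟨d, hd, hdvd⟩ := exists_degree_dvd_index_of_abelian χ.2 A hab
  rw [(BrauerCharacters.charDegree_spec χ).1] at hd
  exact (show charDegree (χ : G → ℂ) = d by exact_mod_cast hd) ▸ hdvd

theorem not_vert_of_abelian (A : Subgroup G) [A.Normal] (hab : ∀ a ∈ A, ∀ b ∈ A, a * b = b * a)
    {t : ℕ} (h : ¬ t ∣ A.index) : ¬ Vert G t :=
  fun ⟨χ, hχ⟩ => h (hχ.trans (degree_dvd_index A hab χ))

/-- `L` witnesses that `G ⧸ M` has a normal abelian Sylow `t`-subgroup. -/
structure Cover (M : Subgroup G) (t : ℕ) (L : Subgroup G) : Prop where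
  normal : L.Normal
  le : M ≤ L
  comm : ⁅L, L⁆ ≤ M
  index : ¬ t ∣ L.index
  pow : ∀ x ∈ L, ∃ k : ℕ, x ^ t ^ k ∈ M

theorem exists_cover (hsolv : Group.IsSolvable G) (M : Subgroup G) [M.Normal] {t : ℕ}
    (ht : t.Prime) (h : ∀ β : IrrCharacter (G ⧸ M), ¬ t ∣ charDegree (β : G ⧸ M → ℂ)) :
    ∃ L, Cover M t L := by
  haveI := hsolv
  obtain ⟨P, hPn, hPc, hPp, hPi⟩ := (Cfsg.Agent.S4493.result
    (Group.isSolvable_of_surjective (QuotientGroup.mk'_surjective M)) t ht).2 h
  refine ⟨P.comap (QuotientGroup.mk' M), hPn.comap _, fun m hm => ?_, ?_, ?_, fun x hx => ?_⟩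
  · rw [Subgroup.mem_comap, QuotientGroup.mk'_apply, (QuotientGroup.eq_one_iff m).2 hm]
    exact P.one_mem
  · refine Subgroup.commutator_le.2 fun a ha b hb => (QuotientGroup.eq_one_iff _).1 ?_
    show QuotientGroup.mk' M ⁅a, b⁆ = 1
    rw [map_commutatorElement, commutatorElement_eq_one_iff_mul_comm]
    exact hPc _ ha _ hb
  · rw [Subgroup.index_comap_of_surjective _ (QuotientGroup.mk'_surjective M)]
    exact hPi
  · obtain ⟨k, hk⟩ := hPp ⟨_, Subgroup.mem_comap.1 hx⟩
    refine ⟨k, (QuotientGroup.eq_one_iff _).1 ?_⟩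
    rw [QuotientGroup.mk_pow]
    exact congrArg Subtype.val hk

/-- A subgroup over `M` containing a Sylow subgroup contains the cover. -/
theorem Cover.le_of_sylow {M L : Subgroup G} {t : ℕ} [Fact t.Prime] (hc : Cover M t L)
    {T : Subgroup G} (hMT : M ≤ T) (P : Sylow t G) (hPT : (P : Subgroup G) ≤ T)
    (hPL : (P : Subgroup G) ≤ L) : L ≤ T := by
  intro x hx
  set TL := T.subgroupOf L
  haveI : TL.Normal := ⟨fun a ha g => by
    rw [show g * a * g⁻¹ = ⁅g, a⁆ * a by rw [commutatorElement_def]; group]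
    refine TL.mul_mem (Subgroup.mem_subgroupOf.2 (hMT (hc.comm ?_))) ha
    exact Subgroup.commutator_mem_commutator g.2 a.2⟩
  have hn : ¬ t ∣ TL.index := by
    intro hd
    refine P.not_dvd_index (hd.trans ?_)
    rw [← Subgroup.relIndex_mul_index hPL]
    exact (Subgroup.index_dvd_of_le (H := (P : Subgroup G).subgroupOf L) fun y hy => hPT hy).trans
      (dvd_mul_right _ _)
  obtain ⟨k, hk⟩ := hc.pow x hx
  have h1 : x ^ TL.index ∈ T := by
    have h2 := Subgroup.pow_index_mem TL ⟨x, hx⟩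
    exact Subgroup.mem_subgroupOf.1 h2
  exact mem_of_pow_coprime h1 (hMT hk)
    (Nat.Coprime.pow_right k (((Fact.out : t.Prime).coprime_iff_not_dvd.2 hn).symm))

theorem sylow_le {L : Subgroup G} [L.Normal] {t : ℕ} [Fact t.Prime] (hL : ¬ t ∣ L.index)
    (P : Sylow t G) : (P : Subgroup G) ≤ L := by
  intro x hx
  obtain ⟨k, hk⟩ := P.2 ⟨x, hx⟩
  refine mem_of_pow_coprime (Subgroup.pow_index_mem L x) (b := t ^ k) ?_
    (Nat.Coprime.pow_right k (((Fact.out : t.Prime).coprime_iff_not_dvd.2 hL).symm))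
  have h : x ^ t ^ k = 1 := congrArg Subtype.val hk
  rw [h]
  exact L.one_mem

/-- A central cover of a group of different prime is abelian. -/
theorem Cover.comm_of_central {M L : Subgroup G} {s t : ℕ} (hs : s.Prime) (ht : t.Prime)
    (hc : Cover M t L) (hst : s ≠ t) (hsM : IsPGroup s M)
    (hcent : ∀ x ∈ L, ∀ m ∈ M, x * m = m * x) : ∀ x ∈ L, ∀ y ∈ L, x * y = y * x := by
  intro x hx y hy
  have hcM : ⁅x, y⁆ ∈ M := hc.comm (Subgroup.commutator_mem_commutator hx hy)
  obtain ⟨k, hk⟩ := hc.pow x hx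
  obtain ⟨j, hj⟩ := hsM ⟨_, hcM⟩
  refine commutatorElement_eq_one_iff_mul_comm.1 (commutator_eq_one_of_coprime (a := t ^ k)
    (b := s ^ j) (hcent x hx _ hcM) (hcent y hy _ hk).symm (congrArg Subtype.val hj) ?_)
  exact ((Nat.coprime_primes ht hs).2 hst.symm).pow _ _

/-- The inner product with a linear character of a multiple of it. -/
theorem inner_of_scalar {M : Type*} [Group M] [Fintype M] {f : M → ℂ} {l : M →* ℂˣ} {c : ℂ}
    (h : ∀ m, f m = c * (l m : ℂ)) : classInner f (linFun l) = c := by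
  have e : f = c • linFun l := funext fun m => by
    rw [h, Pi.smul_apply, linFun_apply, smul_eq_mul]
  rw [e, classInner_smul_left,
    show classInner (linFun l) (linFun l) = 1 from classInner_self_of_isIrr (isIrrCharacter_linear l),
    mul_one]

section Rel

variable [Fintype G]

/-- Characters over a character of `N` which is non-trivial on `M`. -/
theorem mem_rel_of_over {M N : Subgroup G} [M.Normal] [N.Normal] [Fintype M] [Fintype N]
    (hMN : M ≤ N) {χ : IrrCharacter G} {θ : IrrCharacter N} (h : Over N χ θ) {l : M →* ℂˣ}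
    (hl : l ≠ 1)
    (hθ : classInner (fun m : M => (θ : N → ℂ) (Subgroup.inclusion hMN m)) (linFun l) ≠ 0) :
    charDegree (χ : G → ℂ) ∈ relCharDegrees M := by
  classical
  refine mem_rel M (θ := linIrr M l) ?_ (linFun_ne_one M hl)
  show classInner (fun m : M => (χ : G → ℂ) m) (linFun l) ≠ 0
  have hres := res_eq N χ.2 θ.2 h
  have e : (fun m : M => (χ : G → ℂ) m) =
      classInner (fun n : N => (χ : G → ℂ) n) (θ : N → ℂ) •
        ∑ η ∈ conjOrbit N (θ : N → ℂ), fun m : M => η (Subgroup.inclusion hMN m) := funext fun m => by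
    rw [Pi.smul_apply, Finset.sum_apply]
    have h1 := congrFun hres (Subgroup.inclusion hMN m)
    rw [Pi.smul_apply, Finset.sum_apply] at h1
    exact h1
  rw [e, classInner_smul_left, classInner_sum_left]
  refine mul_ne_zero h ?_
  have hnat : ∀ η ∈ conjOrbit N (θ : N → ℂ), ∃ k : ℕ,
      classInner (fun m : M => η (Subgroup.inclusion hMN m)) (linFun l) = k := by
    intro η hη
    obtain ⟨g, rfl⟩ := (mem_conjOrbit N).1 hη
    exact IsCharacter.exists_classInner_eq_nat (CfsgLib.Coherence.isCharacter_comp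
      (IsIrrCharacter.isCharacter (isIrrCharacter_conjChar N θ.2 g)) (Subgroup.inclusion hMN))
      (linIrr M l)
  choose! k hk using hnat
  rw [Finset.sum_congr rfl hk, ← Nat.cast_sum]
  have hθo : (θ : N → ℂ) ∈ conjOrbit N (θ : N → ℂ) := (mem_conjOrbit N).2 ⟨1, conjChar_one N _⟩
  refine Nat.cast_ne_zero.2 fun h0 => hθ ?_
  rw [hk _ hθo, (Finset.sum_eq_zero_iff.1 h0) _ hθo, Nat.cast_zero]

end Rel

/-- Every degree of a character non-trivial on `M` is divisible by the prime lost by `G ⧸ M`. -/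
theorem rel_dvd {M L : Subgroup G} [M.Normal] {s t : ℕ} (hs : s.Prime) (ht : t.Prime)
    (hsM : IsPGroup s M) (hab : ∀ a ∈ M, ∀ b ∈ M, a * b = b * a)
    (hmin : ∀ K : Subgroup G, K.Normal → K ≤ M → K = ⊥ ∨ K = M) (hc : Cover M t L)
    (hV : Vert G t) : ∀ a ∈ relCharDegrees M, t ∣ a := by
  classical
  haveI := Fintype.ofFinite G
  haveI := Fact.mk ht
  haveI := hc.normal
  intro a ha
  by_contra hta
  by_cases hst : s = t
  · subst hst
    haveI := Fintype.ofFinite L
    obtain ⟨χ, ⟨x, hxM, hne⟩, rfl⟩ := ha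
    obtain ⟨θ, hθ⟩ := CfsgLib.CharTheory.exists_constituent L (IsIrrCharacter.isCharacter χ.2)
      (apply_one_ne_zero_of_isIrr χ.2)
    have hLp : IsPGroup s L := fun y => by
      obtain ⟨k, hk⟩ := hc.pow y y.2
      obtain ⟨j, hj⟩ := hsM ⟨_, hk⟩
      refine ⟨k + j, Subtype.ext ?_⟩
      rw [pow_add, pow_mul]
      simpa using congrArg Subtype.val hj
    obtain ⟨n, hn⟩ := IsPGroup.iff_card.1 hLp
    have hθ1 : (θ : L → ℂ) 1 = 1 := by
      obtain ⟨d, -, hdL, hd⟩ := IsIrrCharacter.exists_degree_dvd θ.2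
      rw [hn] at hdL
      obtain ⟨i, -, rfl⟩ := (Nat.dvd_prime_pow ht).1 hdL
      rcases Nat.eq_zero_or_pos i with rfl | hi
      · simpa using hd
      · refine absurd ((dvd_pow_self s hi.ne').trans ?_) hta
        rw [(BrauerCharacters.charDegree_spec θ).1] at hd
        rw [← show charDegree (θ : L → ℂ) = s ^ i by exact_mod_cast hd]
        exact degree_dvd L (show Over L χ θ from hθ)
    obtain ⟨l, hl⟩ := exists_linFun_of_isCharacter (IsIrrCharacter.isCharacter θ.2) hθ1
    have hLL : ⁅L, L⁆ = M := (hmin _ inferInstance hc.comm).resolve_left fun h =>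
      not_vert_of_abelian L (fun a ha b hb => commutatorElement_eq_one_iff_mul_comm.1
        (Subgroup.mem_bot.1 (h ▸ Subgroup.commutator_mem_commutator ha hb))) hc.index hV
    have hker : ∀ (m : L), (m : G) ∈ M → (θ : L → ℂ) m = 1 := by
      intro m hm
      rw [← hLL, ← Subgroup.map_subtype_commutator L] at hm
      obtain ⟨y, hy, hye⟩ := hm
      rw [← Subtype.ext hye, hl, linFun_apply,
        MonoidHom.mem_ker.1 (Abelianization.commutator_subset_ker l hy), Units.val_one]
    have hres := res_eq L χ.2 θ.2 hθ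
    refine hne ?_
    have e1 := congrFun hres ⟨x, hc.le hxM⟩
    have e2 := congrFun hres 1
    simp only [Pi.smul_apply, Finset.sum_apply, OneMemClass.coe_one] at e1 e2
    rw [e1, e2]
    congr 1
    refine Finset.sum_congr rfl fun η hη => ?_
    obtain ⟨g, rfl⟩ := (mem_conjOrbit L).1 hη
    rw [conjChar_apply_one, hθ1, conjChar_eq_comp]
    exact hker _ (by simpa using Subgroup.Normal.conj_mem inferInstance x hxM g)
  haveI := Fintype.ofFinite M
  obtain ⟨θ, -, hθne, -, -, hidx, -⟩ := exists_data ha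
  have hθ1 := apply_one_eq_one_of_comm (fun a b : M => Subtype.ext (hab a a.2 b b.2)) θ.2
  obtain ⟨l, hl⟩ := exists_linFun_of_isCharacter (IsIrrCharacter.isCharacter θ.2) hθ1
  obtain ⟨P, hP⟩ := exists_sylow_le (q := t) _ fun hd => hta (hd.trans hidx)
  have hLT : L ≤ inertia M (θ : M → ℂ) := hc.le_of_sylow
    (le_inertia M (IsIrrCharacter.isClassFunction θ.2)) P hP (sylow_le hc.index P)
  have hcent : ⁅L, M⁆ = ⊥ := by
    refine (hmin _ inferInstance (Subgroup.commutator_le_right L M)).resolve_right fun h => ?_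
    have hle : ⁅L, M⁆ ≤ l.ker.map M.subtype := by
      refine Subgroup.commutator_le.2 fun x hx m hm => ?_
      refine ⟨MulAut.conjNormal x ⟨m, hm⟩ * (⟨m, hm⟩ : M)⁻¹, ?_, by
        simp [commutatorElement_def]⟩
      have h1 := congrFun ((mem_inertia M (θ : M → ℂ) x).1 (hLT hx)) ⟨m, hm⟩
      rw [hl, conjChar_eq_comp] at h1
      have h2 : l (MulAut.conjNormal x ⟨m, hm⟩) = l ⟨m, hm⟩ :=
        Units.ext (by simpa [linFun_apply] using h1)
      show l _ = 1
      rw [map_mul, map_inv, h2, mul_inv_cancel]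
    rw [h] at hle
    refine hθne (funext fun m => ?_)
    obtain ⟨y, hy, hye⟩ := hle m.2
    rw [hl, linFun_apply, ← Subtype.ext hye, MonoidHom.mem_ker.1 hy, Units.val_one]
  refine not_vert_of_abelian L (hc.comm_of_central hs ht hst hsM fun x hx m hm =>
    commutatorElement_eq_one_iff_mul_comm.1
      (Subgroup.mem_bot.1 (hcent ▸ Subgroup.commutator_mem_commutator hx hm))) hc.index hV

/-- Counting the vectors outside `F` by the Sylow subgroups fixing them. -/
theorem count_fixed {H : Type*} [Group H] [Finite H] {V : Type*} [AddCommGroup V] [Finite V]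
    {r : ℕ} [Fact r.Prime] (ρ : H →* AddMonoid.End V) (F : AddSubgroup V)
    (hF : ∀ h : H, ∀ v ∈ F, ρ h v ∈ F)
    (h : ∀ v, v ∉ F → ∃! S : Sylow r H, Fixes ρ S v) (S₀ : Sylow r H) :
    ∃ B C : AddSubgroup V, C ≤ B ∧ C ≤ F ∧ (∀ v, v ∈ B ↔ Fixes ρ S₀ v) ∧
      Nat.card V - Nat.card F = Nat.card (Sylow r H) * (Nat.card B - Nat.card C) := by
  classical
  let B : AddSubgroup V :=
    { carrier := {v | Fixes ρ S₀ v}
      zero_mem' := fun x _ => map_zero _
      add_mem' := fun {a b} ha hb x hx => by rw [map_add, ha x hx, hb x hx]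
      neg_mem' := fun {a} ha x hx => by rw [map_neg, ha x hx] }
  refine ⟨B, B ⊓ F, inf_le_left, inf_le_right, fun v => Iff.rfl, ?_⟩
  have hsub : ∀ A : AddSubgroup V, ∀ A' : AddSubgroup V, A' ≤ A →
      Nat.card {v : V // v ∈ A ∧ v ∉ A'} = Nat.card A - Nat.card A' := by
    intro A A' hle
    show Nat.card ((A : Set V) \ (A' : Set V) : Set V) =
      Nat.card (A : Set V) - Nat.card (A' : Set V)
    simp only [Nat.card_coe_set_eq]
    exact Set.ncard_sdiff hle
  have hfix : ∀ (g : H) (v : V), v ∉ F → ρ g v ∉ F := fun g v hv hg => hv (by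
    simpa [rho_inv_apply] using hF g⁻¹ _ hg)
  have hfib : ∀ S : Sylow r H, Nat.card {v : V // v ∉ F ∧ Fixes ρ S v} =
      Nat.card {v : V // v ∈ B ∧ v ∉ B ⊓ F} := by
    intro S
    obtain ⟨g, rfl⟩ := MulAction.exists_smul_eq H S₀ S
    refine (Nat.card_congr
      { toFun := fun v => ⟨ρ g v.1, hfix g v.1 fun hv => v.2.2 ⟨v.2.1, hv⟩, fixes_smul v.2.1⟩
        invFun := fun v => ⟨ρ g⁻¹ v.1, by
          have h1 := fixes_smul (g := g⁻¹) v.2.2
          rwa [inv_smul_smul] at h1, fun hv => hfix g⁻¹ v.1 v.2.1 hv.2⟩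
        left_inv := fun v => Subtype.ext (rho_inv_apply g v.1)
        right_inv := fun v => Subtype.ext ((rho_mul_apply (ρ := ρ) g g⁻¹ v.1).symm.trans
          (by rw [mul_inv_cancel, rho_one_apply])) }).symm
  have hsum : Nat.card {v : V // v ∈ (⊤ : AddSubgroup V) ∧ v ∉ F} =
      Nat.card (Σ S : Sylow r H, {v : V // v ∉ F ∧ Fixes ρ S v}) :=
    Nat.card_congr
      { toFun := fun v => ⟨(h v.1 v.2.2).choose, v.1, v.2.2, (h v.1 v.2.2).choose_spec.1⟩
        invFun := fun x => ⟨x.2.1, AddSubgroup.mem_top _, x.2.2.1⟩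
        left_inv := fun v => rfl
        right_inv := fun ⟨S, v, hv, hS⟩ => by
          have e : (h v hv).choose = S := ((h v hv).choose_spec.2 S hS).symm
          subst e
          rfl }
  rw [hsub _ _ le_top, AddSubgroup.card_top] at hsum
  haveI := Fintype.ofFinite (Sylow r H)
  rw [hsum, Nat.card_sigma, Finset.sum_congr rfl fun S _ => hfib S, Finset.sum_const,
    smul_eq_mul, Finset.card_univ, ← Nat.card_eq_fintype_card, hsub _ _ inf_le_left]

end CfsgLib.ZerosCodegree.Palfy
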