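import Cfsg.Agent.Lib.ZerosCodegree.CanonicalExtension
import Cfsg.Agent.Lib.Transfer.Residual
import Cfsg.Agent.Lib.CharTheory.Linear

/-!
The `p`-residual and the principal block: invariant fixed characters extend to fixed members.
-/

set_option autoImplicit false
set_option linter.style.haveILetI false

namespace CfsgLib.ZerosCodegree

open Cfsg CfsgLib.CharTheory

universe u
variable {G : Type u} [Group G]

/-- Linear characters of a group without `p`-quotient are trivial on `p`-elements. -/
theorem hom_eq_one_of_pResidual_eq_top [Finite G] {p : ℕ} [Fact p.Prime]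
    (h : pResidual p G = ⊤) (l : G →* ℂˣ) (g : G) (hg : ∃ j : ℕ, orderOf g = p ^ j) : l g = 1 := by
  have hp : p.Prime := Fact.out
  set m := Nat.card G / p ^ (Nat.card G).factorization p
  have hpm : ¬ p ∣ m := Nat.not_dvd_ordCompl hp Nat.card_pos.ne'
  have hm : ∀ x : G, l x ^ m = 1 := by
    intro x
    have hle : pResidual p G ≤ (((powMonoidHom m : ℂˣ →* ℂˣ)).comp l).ker := by
      refine (Subgroup.closure_le _).2 fun y hy => ?_
      show l y ^ m = 1
      rw [← map_pow, orderOf_dvd_iff_pow_eq_one.1, map_one]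
      exact (Nat.Coprime.pow_right _ hy).dvd_of_dvd_mul_left
        (((Nat.ordProj_mul_ordCompl_eq_self (Nat.card G) p)).symm ▸ orderOf_dvd_natCard y)
    exact hle (h ▸ Subgroup.mem_top x)
  obtain ⟨j, hj⟩ := hg
  have h1 : orderOf (l g) ∣ p ^ j := hj ▸ orderOf_map_dvd l g
  have h2 : orderOf (l g) ∣ m := orderOf_dvd_of_pow_eq_one (hm g)
  exact orderOf_eq_one_iff.1
    (Nat.eq_one_of_dvd_coprimes ((hp.coprime_iff_not_dvd.2 hpm).pow_left j) h1 h2)

theorem conjIrr_mem_principalBlock [Fintype G] {M : Ideal AlgInt} [M.IsPrime] (N : Subgroup G)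
    [N.Normal] [Fintype N] (g : G) {θ : IrrCharacter N} (h : θ ∈ principalBlock M N) :
    CfsgLib.BlockLocal.conjIrr N g θ ∈ principalBlock M N := by
  have h1 := CfsgLib.BlockLocal.sameBlock_conjIrr (M := M) N (θ := trivIrr N) (θ' := θ) g h
  rwa [show (CfsgLib.BlockLocal.conjIrr N g (trivIrr N) : N → ℂ) = fun _ => (1 : ℂ) from
    funext fun n => by rw [CfsgLib.BlockLocal.conjIrr_apply]; rfl] at h1

/-- A fixed member of degree prime to `p` of the principal block of `O^p(G)` invariant under a Sylow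
`p`-subgroup extends to one of `G`. -/
theorem exists_fixed_principal_extension [Fintype G] {p q k : ℕ} [Fact p.Prime] {M : Ideal AlgInt}
    [M.IsPrime] (hM : IsPModular p M) (ht : IsPTwist p q k G) (hq : q ≡ 1 [MOD p]) (P : Sylow p G)
    [(pResidual p G).Normal] [Fintype (pResidual p G)] (θ : IrrCharacter (pResidual p G))
    (hB : θ ∈ principalBlock M (pResidual p G))
    (hd : ¬ p ∣ charDegree (θ : pResidual p G → ℂ))
    (hθ : powTwist k (θ : pResidual p G → ℂ) = θ)
    (hP : ∀ x ∈ (P : Subgroup G), CfsgLib.BlockLocal.conjIrr (pResidual p G) x θ = θ) :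
    ∃ χ : IrrCharacter G, χ ∈ principalBlock M G ∧ powTwist k (χ : G → ℂ) = χ ∧
      ∀ n : pResidual p G, (χ : G → ℂ) n = (θ : pResidual p G → ℂ) n := by
  have hconj : ∀ (g : G), CfsgLib.Clifford.conjChar (pResidual p G) (θ : (pResidual p G) → ℂ) g⁻¹ =
      (CfsgLib.BlockLocal.conjIrr (pResidual p G) g θ : (pResidual p G) → ℂ) := fun g => funext fun n => by
    rw [CfsgLib.Clifford.conjChar_eq_comp, CfsgLib.BlockLocal.conjIrr_apply]
  have hinv : ∀ g : G, CfsgLib.Clifford.conjChar (pResidual p G) (θ : (pResidual p G) → ℂ) g = θ := by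
    intro g
    have htop : CfsgLib.CharTheory.inertia (pResidual p G) (θ : (pResidual p G) → ℂ) = ⊤ := by
      rw [eq_top_iff, ← CfsgLib.Transfer.sylow_sup_pResidual_eq_top P, sup_le_iff]
      refine ⟨fun x hx => ?_, le_inertia (pResidual p G) (IsIrrCharacter.isClassFunction θ.2)⟩
      rw [mem_inertia]
      have h := hconj x⁻¹
      rw [inv_inv] at h
      rw [h, hP x⁻¹ (inv_mem hx)]
    exact (mem_inertia (pResidual p G) _ g).1 (htop ▸ Subgroup.mem_top g)
  obtain ⟨a, ha⟩ := CfsgLib.Transfer.index_pResidual_eq_pow (G := G) (p := p)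
  obtain ⟨χ, hχ, hk, hres⟩ := exists_fixed_extension_pgroup (pResidual p G) ha ht hq
    (fun l n hn => hom_eq_one_of_pResidual_eq_top CfsgLib.Transfer.pResidual_pResidual l n hn)
    θ hd hθ hinv
  refine ⟨⟨χ, hχ⟩, ?_, hk, hres⟩
  refine mem_principalBlock_of_over hM (pResidual p G) (fun g hg => ?_) hB ?_
  · exact CfsgLib.Transfer.mem_pResidual_of_coprime
      ((Fact.out : p.Prime).coprime_iff_not_dvd.2 hg).symm
  · rw [show (fun n : (pResidual p G) => χ n) = (θ : (pResidual p G) → ℂ) from funext hres, classInner_self_of_isIrr θ.2]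
    exact one_ne_zero

/-- The linear members of the principal `2`-block of a group without `2`-quotient are odd in number
(for even order). -/
theorem odd_card_linear_principalBlock [Finite G] {M : Ideal AlgInt} [M.IsPrime]
    (h : pResidual 2 G = ⊤) (hev : Even (Nat.card G)) :
    Odd (Nat.card {χ : IrrCharacter G //
      χ ∈ principalBlock M G ∧ charDegree (χ : G → ℂ) = 1}) := by
  classical
  haveI : Fintype G := Fintype.ofFinite G
  have hG : 2 ≤ Nat.card G := Nat.le_of_dvd Nat.card_pos hev.two_dvd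
  set k := Nat.card G - 1 with hkdef
  have hk : k.Coprime (Nat.card G) := by
    have h1 : k + 1 = Nat.card G := Nat.sub_add_cancel Nat.card_pos
    rw [← h1, Nat.coprime_self_add_right]
    exact Nat.coprime_one_right k
  have hinv : ∀ g : G, g ^ k = g⁻¹ := fun g => eq_inv_of_mul_eq_one_left (by
    rw [← pow_succ, Nat.sub_add_cancel Nat.card_pos, pow_card_eq_one'])
  let f : {χ : IrrCharacter G // χ ∈ principalBlock M G ∧ charDegree (χ : G → ℂ) = 1} →
      {χ : IrrCharacter G // χ ∈ principalBlock M G ∧ charDegree (χ : G → ℂ) = 1} := fun χ =>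
    ⟨⟨powTwist k (χ.1 : G → ℂ), isIrrCharacter_powTwist hk χ.1.2⟩,
      powTwist_mem_principalBlock hk rfl χ.2.1, by rw [charDegree_powTwist]; exact χ.2.2⟩
  have hmod := card_fixed_modEq (p := 2) f 1 fun χ => by
    apply Subtype.ext
    apply Subtype.ext
    funext g
    show (χ.1 : G → ℂ) ((g ^ k) ^ k) = (χ.1 : G → ℂ) g
    rw [hinv, hinv, inv_inv]
  have hone : Nat.card {a // f a = a} = 1 := by
    rw [Nat.card_eq_one_iff_unique]
    refine ⟨⟨fun a b => ?_⟩, ⟨⟨trivIrr G, trivIrr_mem_principalBlock, charDegree_eq (n := 1)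
      (by rw [trivIrr_apply, Nat.cast_one])⟩, Subtype.ext (Subtype.ext rfl)⟩⟩
    have key : ∀ a : {a // f a = a}, (a.1.1 : G → ℂ) = fun _ => 1 := fun a => by
      obtain ⟨l, hl⟩ := exists_hom_of_degree_one a.1.1.2
        (by rw [irr_apply_one_eq, a.1.2.2, Nat.cast_one])
      have hreal : ∀ g : G, l g * l g = 1 := fun g => by
        have h2 := congrFun (congrArg (fun e => ((e.1 : IrrCharacter G) : G → ℂ)) a.2) g
        change (a.1.1 : G → ℂ) (g ^ k) = (a.1.1 : G → ℂ) g at h2
        rw [hl, hinv] at h2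
        have h3 := Units.ext h2
        rw [map_inv, inv_eq_iff_mul_eq_one] at h3
        exact h3
      rw [hl]
      funext g
      obtain ⟨x, y, hxy, -, hx, hy⟩ := CfsgLib.Blocks.exists_isPPart 2 g
      rw [← hxy, map_mul, hom_eq_one_of_pResidual_eq_top h l x hx, one_mul]
      have : l y = 1 := orderOf_eq_one_iff.1 (Nat.eq_one_of_dvd_coprimes
        (Odd.coprime_two_right (Nat.odd_iff.2 (Nat.two_dvd_ne_zero.1 hy)))
        (orderOf_map_dvd l y) (orderOf_dvd_of_pow_eq_one (by rw [pow_two]; exact hreal y)))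
      rw [this, Units.val_one]
    exact Subtype.ext (Subtype.ext (Subtype.ext ((key a).trans (key b).symm)))
  rw [hone] at hmod
  exact Nat.odd_iff.2 hmod.symm

end CfsgLib.ZerosCodegree
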