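import Cfsg.Agent.Lib.ZerosCodegree.ResidualBlock

/-!
Restriction of characters of degree prime to `p` to a normal subgroup with abelian `p`-quotient, and
descent of the principal block to normal subgroups.
-/

set_option autoImplicit false
set_option linter.style.haveILetI false

namespace CfsgLib.ZerosCodegree

open Cfsg CfsgLib.CharTheory

universe u
variable {G : Type u} [Group G] [Fintype G]

/-- The constituents on a normal subgroup of a member of the principal block lie in the principal
block. -/
theorem constituent_mem_principalBlock {M : Ideal AlgInt} [M.IsPrime] (N : Subgroup G) [N.Normal]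
    [Fintype N] {χ : IrrCharacter G} (hχ : χ ∈ principalBlock M G) {θ : IrrCharacter N}
    (h : classInner (fun n : N => (χ : G → ℂ) n) (θ : N → ℂ) ≠ 0) : θ ∈ principalBlock M N := by
  classical
  haveI : Fintype (IrrCharacter N) := Fintype.ofFinite _
  have h1 : classInner (fun n : N => (trivIrr G : G → ℂ) n) (trivIrr N : N → ℂ) ≠ 0 := by
    rw [show (fun n : N => (trivIrr G : G → ℂ) n) = (trivIrr N : N → ℂ) from rfl,
      classInner_self_of_isIrr (trivIrr N).2]
    exact one_ne_zero
  obtain ⟨g, θ', hθ', he⟩ := (CfsgLib.BlockLocal.mem_orbitSet N).1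
    (CfsgLib.BlockLocal.mem_orbitSet_of_constituent N (isPBlock_principalBlock (G := N) (M := M))
      (χ := trivIrr G) (χ' := χ) hχ trivIrr_mem_principalBlock h1 h)
  rw [he]
  exact conjIrr_mem_principalBlock N g hθ'

/-- Characters of degree prime to `p` restrict irreducibly when the quotient is a cyclic
`p`-group. -/
theorem exists_res_of_cyclic_pQuotient {p a : ℕ} [Fact p.Prime] (N : Subgroup G) [N.Normal]
    [Fintype N] (hidx : N.index = p ^ a) (hcyc : IsCyclic (G ⧸ N)) {χ : IrrCharacter G}
    (hd : ¬ p ∣ charDegree (χ : G → ℂ)) :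
    ∃ θ : IrrCharacter N, (∀ n : N, (χ : G → ℂ) n = (θ : N → ℂ) n) ∧
      ∀ g : G, CfsgLib.Clifford.conjChar N (θ : N → ℂ) g = θ := by
  classical
  have hp : p.Prime := Fact.out
  obtain ⟨η, hη⟩ := CfsgLib.BlockLocal.exists_constituent N χ
  obtain ⟨e, he⟩ := IsCharacter.exists_classInner_eq_nat
    (CfsgLib.Coherence.isCharacter_comp (IsIrrCharacter.isCharacter χ.2) N.subtype) η
  have he' : classInner (fun n : N => (χ : G → ℂ) n) (η : N → ℂ) = e := he
  have h1 := CfsgLib.Clifford.apply_one_eq N χ.2 η.2 hη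
  rw [he', irr_apply_one_eq, irr_apply_one_eq,
    CfsgLib.Clifford.card_conjOrbit N _ (inertia N (η : N → ℂ)) (fun g => mem_inertia N _ g)] at h1
  have h1' : charDegree (χ : G → ℂ) = e * (inertia N (η : N → ℂ)).index * charDegree (η : N → ℂ) := by
    exact_mod_cast h1
  have hT : (inertia N (η : N → ℂ)).index = 1 := by
    obtain ⟨i, -, hi⟩ := (Nat.dvd_prime_pow hp).1 (hidx ▸ Subgroup.index_dvd_of_le
      (le_inertia N (IsIrrCharacter.isClassFunction η.2)))
    rcases Nat.eq_zero_or_pos i with rfl | hi0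
    · rw [hi, pow_zero]
    · refine absurd ?_ hd
      rw [h1']
      exact dvd_mul_of_dvd_left (dvd_mul_of_dvd_right (hi ▸ dvd_pow_self p hi0.ne') e) _
  have hinv : ∀ g : G, CfsgLib.Clifford.conjChar N (η : N → ℂ) g = η := fun g =>
    (mem_inertia N _ g).1 (Subgroup.index_eq_one.1 hT ▸ Subgroup.mem_top g)
  obtain ⟨φ, hφ, hφη⟩ := CfsgLib.RealChar.exists_extension_character_of_cyclic N hcyc (η : N → ℂ) η.2
    (fun g n => by
      have := congrFun (hinv g) n
      rwa [CfsgLib.Clifford.conjChar_eq_comp] at this)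
  haveI := hcyc
  exact ⟨η, res_eq_of_extension_of_comm N (IsCyclic.isMulCommutative (α := G ⧸ N)).is_comm.comm hφ χ.2 η.2 hφη hη,
    hinv⟩

end CfsgLib.ZerosCodegree
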