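import Mathlib.GroupTheory.RegularWreathProduct
import Mathlib.GroupTheory.Solvable
import Mathlib.GroupTheory.QuotientGroup.Basic
import Mathlib.GroupTheory.SpecificGroups.Cyclic

/-!
Induction over solvable groups through wreath products with groups of prime order.
-/

set_option autoImplicit false
set_option linter.style.haveILetI false

open RegularWreathProduct

namespace CfsgLib.ZerosCodegree

universe u

/-- The embedding of an extension into the wreath product. -/
noncomputable def toWreath {G : Type u} [Group G] (N : Subgroup G) [N.Normal] :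
    G →* N ≀ᵣ (G ⧸ N) where
  toFun g := ⟨fun x => ⟨(x.out)⁻¹ * g * ((g : G ⧸ N)⁻¹ * x).out, by
    rw [← QuotientGroup.eq_one_iff]
    simp only [QuotientGroup.mk_mul, QuotientGroup.mk_inv, QuotientGroup.out_eq']
    group⟩, (g : G ⧸ N)⟩
  map_one' := by
    ext x
    · simp
    · simp
  map_mul' g h := by
    ext x
    · simp only [RegularWreathProduct.mul_left, Pi.mul_apply, Subgroup.coe_mul,
        QuotientGroup.mk_mul, mul_inv_rev, mul_assoc, mul_inv_cancel_left]
    · simp

theorem toWreath_injective {G : Type u} [Group G] (N : Subgroup G) [N.Normal] :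
    Function.Injective (toWreath N) := by
  intro g h e
  have h2 : (g : G ⧸ N) = h := congrArg RegularWreathProduct.right e
  have h1 : (1 : G ⧸ N).out⁻¹ * g * ((g : G ⧸ N)⁻¹ * 1).out =
      (1 : G ⧸ N).out⁻¹ * h * ((h : G ⧸ N)⁻¹ * 1).out :=
    congrArg Subtype.val (congrFun (congrArg RegularWreathProduct.left e) 1)
  rw [h2] at h1
  exact mul_left_cancel (mul_right_cancel h1)

/-- Functoriality in the base. -/
def mapWreath {A B Q : Type*} [Group A] [Group B] [Group Q] (f : A →* B) : A ≀ᵣ Q →* B ≀ᵣ Q where
  toFun w := ⟨f ∘ w.left, w.right⟩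
  map_one' := by ext x <;> simp
  map_mul' v w := by ext x <;> simp

theorem mapWreath_injective {A B Q : Type*} [Group A] [Group B] [Group Q] {f : A →* B}
    (hf : Function.Injective f) : Function.Injective (mapWreath (Q := Q) f) := fun v w e =>
  RegularWreathProduct.ext
    (funext fun x => hf (congrFun (congrArg RegularWreathProduct.left e) x))
    (congrArg RegularWreathProduct.right e :)

/-- A nontrivial finite solvable group has a normal subgroup of prime index. -/
theorem exists_normal_prime_index {G : Type u} [Group G] [Finite G] [Nontrivial G]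
    (hs : Group.IsSolvable G) : ∃ N : Subgroup G, N.Normal ∧ N.index.Prime := by
  haveI := hs
  have hne : commutator G ≠ ⊤ :=
    (Group.IsSolvable.commutator_lt_top_of_nontrivial (G := G)).ne
  haveI : Nontrivial (G ⧸ commutator G) := QuotientGroup.nontrivial_iff.2 hne
  obtain ⟨H, hH, -⟩ := (IsCoatomic.eq_top_or_exists_le_coatom (⊥ : Subgroup (G ⧸ commutator G))).resolve_left
    bot_ne_top
  letI : CommGroup (G ⧸ commutator G) := inferInstanceAs (CommGroup (Abelianization G))
  have hHn : H.Normal := inferInstance
  refine ⟨H.comap (QuotientGroup.mk' _), hHn.comap _, ?_⟩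
  rw [Subgroup.index_comap_of_surjective _ (QuotientGroup.mk'_surjective _)]
  haveI : Nontrivial ((G ⧸ commutator G) ⧸ H) := QuotientGroup.nontrivial_iff.2 hH.1
  haveI : IsSimpleGroup ((G ⧸ commutator G) ⧸ H) := ⟨fun K _ => by
    have hK : H ≤ K.comap (QuotientGroup.mk' H) := fun x hx => by
      show (x : (G ⧸ commutator G) ⧸ H) ∈ K
      rw [(QuotientGroup.eq_one_iff x).2 hx]
      exact K.one_mem
    rcases eq_or_lt_of_le hK with he | hlt
    · refine Or.inl (Subgroup.comap_injective (QuotientGroup.mk'_surjective H) ?_)
      rw [MonoidHom.comap_bot, QuotientGroup.ker_mk', ← he]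
    · refine Or.inr (Subgroup.comap_injective (QuotientGroup.mk'_surjective H) ?_)
      rw [Subgroup.comap_top, hH.2 _ hlt]⟩
  exact Subgroup.index_eq_card H ▸ IsSimpleGroup.prime_card

end CfsgLib.ZerosCodegree
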