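import Cfsg.Agent.Lib.ZerosCodegree.BlockTools
import Cfsg.Agent.Lib.CharDegreesTheory.RealBlocks

/-!
Blocks of full defect closed under the map inverting the odd parts are principal.
-/

set_option autoImplicit false
set_option linter.style.haveILetI false

namespace CfsgLib.ZerosCodegree

open Cfsg CfsgLib.CharTheory CfsgLib.Blocks
open scoped ComplexConjugate

universe u
variable {G : Type u} [Group G]

/-- A `2`-block of full defect closed under a power map inverting the elements of odd order is
principal. -/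
theorem eq_principalBlock_of_twist_closed [Finite G] {M : Ideal AlgInt} [M.IsPrime]
    (hM : IsPModular 2 M) {k : ℕ} (hk : k.Coprime (Nat.card G))
    (hk₂ : ∀ g : G, ¬ 2 ∣ orderOf g → g ^ k = g⁻¹) {B : Set (IrrCharacter G)} (hB : IsPBlock M B)
    (hfull : ∃ χ ∈ B, ¬ 2 ∣ charDegree (χ : G → ℂ))
    (hstab : ∀ χ ∈ B, ∃ ψ ∈ B, (ψ : G → ℂ) = powTwist k (χ : G → ℂ)) :
    B = principalBlock M G := by
  haveI : Fintype G := Fintype.ofFinite G
  refine CfsgLib.CharDegreesTheory.eq_principalBlock_of_conj_closed hM hB hfull fun χ hχ => ?_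
  obtain ⟨ψ, hψ, hψχ⟩ := hstab χ hχ
  let χc : IrrCharacter G := ⟨fun g => conj ((χ : G → ℂ) g), isIrrCharacter_conj χ.2⟩
  refine ⟨χc, mem_of_sameBlock hB hψ (sameBlock_of_regular hM fun g hg => ?_), rfl⟩
  have e : centralChar (ψ : G → ℂ) g = centralChar (χc : G → ℂ) g := by
    simp only [centralChar, hψχ, powTwist_apply, hk₂ g hg, one_pow, χc]
    rw [IsIrrCharacter.inv χ.2, irr_apply_one_eq, Complex.conj_natCast]
  rw [e, sub_self]
  exact memLocalIdeal_zero

end CfsgLib.ZerosCodegree
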